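import Cfsg.Agent.Lib.JankoFourLocal.Data
import Cfsg.Agent.Lib.JankoFour.AutM22.Perm

/-!
Facts on permutations about the elements of order five and seven, the duad group and the hexad group.
-/

set_option autoImplicit false

namespace Cfsg.Lib.JankoFour.LocalCert

open Cfsg Cfsg.Lib.Concrete Cfsg.Lib.JankoFour.M22Cert Cfsg.Lib.JankoFour.AutM22
open Cfsg.Lib.FusionSys.MathieuCert (toPerm toPerm_eq prodL prodLOK rep_prodL)

/-- An element of M22 given by a certificate. -/
def innerOk (e : ℕ × ℕ) : Bool := elemOk e && inM22 e.1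

theorem rep_fst {e : ℕ × ℕ} (h : elemOk e = true) : Rep (toPerm e.1) e.1 := (elem_spec h).2.1

theorem toPerm_snd {e : ℕ × ℕ} (h : elemOk e = true) : toPerm e.2 = (toPerm e.1)⁻¹ :=
  toPerm_eq (elem_spec h).2.2.1

theorem rep_snd {e : ℕ × ℕ} (h : elemOk e = true) : Rep (toPerm e.2) e.2 := by
  rw [toPerm_snd h]
  exact (elem_spec h).2.2.1

/-- Two words give the same permutation. -/
def wordEq (L M : List ℕ) : Bool := prodLOK L && prodLOK M && sameP (prodL L) (prodL M)

theorem word_eq {L M : List ℕ} (hL : ∀ a ∈ L, Rep (toPerm a) a) (hM : ∀ a ∈ M, Rep (toPerm a) a)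
    (h : wordEq L M = true) : (L.map toPerm).prod = (M.map toPerm).prod := by
  simp only [wordEq, Bool.and_eq_true] at h
  exact (sameP_iff (rep_prodL hL h.1.1).1 (rep_prodL hM h.1.2).1).1 h.2

/-- The conjugate by an element of each entry of the first list is in the second list. -/
def mapsTo (g : ℕ × ℕ) (L M : List (ℕ × ℕ)) : Bool :=
  L.all fun a => M.any fun b => wordEq [g.1, a.1] [b.1, g.1]

theorem mapsTo_spec {g : ℕ × ℕ} {L M : List (ℕ × ℕ)} (hg : elemOk g = true) (hL : L.all elemOk = true)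
    (hM : M.all elemOk = true) (h : mapsTo g L M = true) {r : Equiv.Perm GolayPt}
    (hr : r ∈ listSet (L.map Prod.fst)) : toPerm g.1 * r * (toPerm g.1)⁻¹ ∈ listSet (M.map Prod.fst) := by
  obtain ⟨p, hp, hrp⟩ := hr
  obtain ⟨a, ha, rfl⟩ := List.mem_map.1 hp
  obtain ⟨b, hb, hab⟩ := List.any_eq_true.1 (List.all_eq_true.1 h a ha)
  have hrb := rep_fst (List.all_eq_true.1 hM b hb)
  have hra := rep_fst (List.all_eq_true.1 hL a ha)
  have hrg := rep_fst hg
  have e := word_eq (L := [g.1, a.1]) (M := [b.1, g.1]) (by simp [hra, hrg]) (by simp [hrb, hrg]) hab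
  simp only [List.map_cons, List.map_nil, List.prod_cons, List.prod_nil, mul_one] at e
  refine ⟨b.1, List.mem_map.2 ⟨b, hb, rfl⟩, ?_⟩
  rw [← toPerm_eq hrp, e, mul_inv_cancel_right]
  exact hrb

/-- Two permutations commute, on packed forms. -/
def commutes (p q : ℕ) : Bool := moves p p q

theorem commutes_iff {g h : Equiv.Perm GolayPt} {p q : ℕ} (hg : Rep g p) (hh : Rep h q) :
    commutes p q = true ↔ Commute h g := moves_iff hg hg hh

theorem duad_ok : (duadList.all fun e => innerOk e) = true := by decide +kernel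

theorem hex_ok : (hexList.all fun e => innerOk e) = true := by decide +kernel

theorem elemOk_of_innerOk {L : List (ℕ × ℕ)} (h : (L.all fun e => innerOk e) = true) : L.all elemOk = true := by
  rw [List.all_eq_true] at h ⊢
  intro e he
  exact (Bool.and_eq_true_iff.1 (h e he)).1

theorem one_mem_duad : (1 : Equiv.Perm GolayPt) ∈ listSet (duadList.map Prod.fst) :=
  ⟨pId, by decide +kernel, rep_one⟩

theorem one_mem_hex : (1 : Equiv.Perm GolayPt) ∈ listSet (hexList.map Prod.fst) :=
  ⟨pId, by decide +kernel, rep_one⟩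

/-- The duad group. -/
def duadGrp : Subgroup (Equiv.Perm GolayPt) := listGroup duadList one_mem_duad (by decide +kernel)

/-- The hexad group. -/
def hexGrp : Subgroup (Equiv.Perm GolayPt) := listGroup hexList one_mem_hex (by decide +kernel)

theorem card_duadGrp : Nat.card duadGrp = 16 :=
  listGroup_card (elemOk_of_innerOk duad_ok) (by decide +kernel)

theorem card_hexGrp : Nat.card hexGrp = 16 :=
  listGroup_card (elemOk_of_innerOk hex_ok) (by decide +kernel)

theorem duadGrp_le : duadGrp ≤ Spor.M22 := fun _ hg => listSet_le_M22 (by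
  simpa [innerOk] using duad_ok) hg

theorem hexGrp_le : hexGrp ≤ Spor.M22 := fun _ hg => listSet_le_M22 (by
  simpa [innerOk] using hex_ok) hg

/-- A list is elementary abelian. -/
def elemList (L : List (ℕ × ℕ)) : Bool :=
  L.all fun a => wordEq [a.1, a.1] [] && L.all fun b => commutes a.1 b.1

theorem elem_spec' {L : List (ℕ × ℕ)} (hL : L.all elemOk = true) (h : elemList L = true)
    {g k : Equiv.Perm GolayPt} (hg : g ∈ listSet (L.map Prod.fst)) (hk : k ∈ listSet (L.map Prod.fst)) :
    g * g = 1 ∧ Commute g k := by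
  obtain ⟨p, hp, hgp⟩ := hg
  obtain ⟨q, hq, hkq⟩ := hk
  obtain ⟨a, ha, rfl⟩ := List.mem_map.1 hp
  obtain ⟨b, hb, rfl⟩ := List.mem_map.1 hq
  have hh := List.all_eq_true.1 h a ha
  rw [Bool.and_eq_true] at hh
  refine ⟨?_, ((commutes_iff hgp hkq).1 (List.all_eq_true.1 hh.2 b hb)).symm⟩
  have hra := rep_fst (List.all_eq_true.1 hL a ha)
  have e := word_eq (L := [a.1, a.1]) (M := []) (by simp [hra]) (by simp) hh.1
  simp only [List.map_cons, List.map_nil, List.prod_cons, List.prod_nil, mul_one] at e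
  rw [← toPerm_eq hgp]
  exact e

theorem duadGrp_elem {g k : Equiv.Perm GolayPt} (hg : g ∈ duadGrp) (hk : k ∈ duadGrp) :
    g * g = 1 ∧ Commute g k :=
  elem_spec' (L := duadList) (elemOk_of_innerOk duad_ok) (by decide +kernel) hg hk

theorem hexGrp_elem {g k : Equiv.Perm GolayPt} (hg : g ∈ hexGrp) (hk : k ∈ hexGrp) :
    g * g = 1 ∧ Commute g k :=
  elem_spec' (L := hexList) (elemOk_of_innerOk hex_ok) (by decide +kernel) hg hk

/-- The element of order five. -/
noncomputable def x5 : Equiv.Perm GolayPt := toPerm transFive1.x.1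

/-- The element of order seven. -/
noncomputable def y7 : Equiv.Perm GolayPt := toPerm transSeven1.x.1

/-- The outer involution. -/
noncomputable def s0 : Equiv.Perm GolayPt := toPerm outS.1

theorem x5_ok : innerOk transFive1.x = true := by decide +kernel

theorem y7_ok : innerOk transSeven1.x = true := by decide +kernel

theorem s0_ok : (elemOk outS && inPair outS.1 && !inM22 outS.1) = true := by decide +kernel

theorem mem_M22 {e : ℕ × ℕ} (h : innerOk e = true) : toPerm e.1 ∈ Spor.M22 := elemOk_mem_M22 h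

theorem s0_mem : s0 ∈ Pair ∧ s0 ∉ Spor.M22 := by
  have h := s0_ok
  simp only [Bool.and_eq_true, Bool.not_eq_true'] at h
  have hr := elem_spec h.1.1
  refine ⟨(inPair_iff hr.1 hr.2.1).1 h.1.2, fun hm => ?_⟩
  rw [(inM22_iff hr.1 hr.2.1).2 hm] at h
  exact Bool.noConfusion h.2

theorem rep_s0 : Rep s0 outS.1 := rep_fst (by decide +kernel)

theorem rep_x5 : Rep x5 transFive1.x.1 := rep_fst (by decide +kernel)

theorem rep_y7 : Rep y7 transSeven1.x.1 := rep_fst (by decide +kernel)

theorem commute_s0_x5 : Commute s0 x5 := (commutes_iff rep_x5 rep_s0).1 (by decide +kernel)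

theorem s0_duad {r : Equiv.Perm GolayPt} (hr : r ∈ duadGrp) : Commute s0 r := by
  obtain ⟨p, hp, hrp⟩ := hr
  obtain ⟨a, ha, rfl⟩ := List.mem_map.1 hp
  exact (commutes_iff hrp rep_s0).1 (List.all_eq_true.1
    (show (duadList.all fun a => commutes a.1 outS.1) = true by decide +kernel) a ha)

/-- The order of a permutation of prime order. -/
theorem orderOf_prime_rep {g : Equiv.Perm GolayPt} {p : ℕ} (hr : Rep g p) {q : ℕ} (hq : q.Prime)
    (h1 : sameP p pId = false) (h : (bits24.all fun i => Nat.beq (piter p q i) i) = true) : orderOf g = q := by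
  haveI : Fact q.Prime := ⟨hq⟩
  refine orderOf_eq_prime (Equiv.ext fun z => gidx_injective (Fin.ext ?_)) fun e => ?_
  · rw [MathieuBlock.piter_rep hr, Equiv.Perm.one_apply]
    exact Nat.eq_of_beq_eq_true (List.all_eq_true.1 h _ (mem_bits24.2 (gidx z).isLt))
  · rw [(sameP_iff hr rep_one).2 e] at h1
    exact Bool.noConfusion h1

theorem orderOf_x5 : orderOf x5 = 5 :=
  orderOf_prime_rep rep_x5 (by norm_num) (by decide +kernel) (by decide +kernel)

theorem orderOf_y7 : orderOf y7 = 7 :=
  orderOf_prime_rep rep_y7 (by norm_num) (by decide +kernel) (by decide +kernel)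

theorem ncard_cent {c : TransCert} (hc : c.check = true) (hxy : Nat.beq c.x.1 c.y.1 = true) :
    {g : Equiv.Perm GolayPt | g ∈ Pair ∧ g * toPerm c.x.1 = toPerm c.x.1 * g}.ncard = c.elems.length := by
  have h := TransCert.ncard_eq hc
  rw [← Nat.eq_of_beq_eq_true hxy] at h
  exact h

theorem ncard_cent_inner {c : TransCert} (hc : c.check = true) (hxy : Nat.beq c.x.1 c.y.1 = true) :
    {g : Equiv.Perm GolayPt | g ∈ Pair ∧ g * toPerm c.x.1 = toPerm c.x.1 * g ∧ g ∈ Spor.M22}.ncard =
      (c.keys.filter inM22).length := by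
  have h := transUnion (L := [c]) (by simp [hc]) (x := c.x.1) (by simp) inM22 (fun g => g ∈ Spor.M22)
    (fun g p hg hp => inM22_iff (Pair_le hg) hp) (by
      have hc' := hc
      simp only [TransCert.check, Bool.and_eq_true] at hc'
      simpa [List.Nodup] using ((FusionSys.MathieuCert.nodup_of_incr hc'.1.2).imp fun hab => hab.ne).filter _)
  have e := Nat.eq_of_beq_eq_true hxy
  simpa [← e] using h

theorem five_check : transFive1.check = true :=
  List.all_eq_true.1 transFives_check _ (by simp [transFives])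

theorem seven_check : transSeven1.check = true :=
  List.all_eq_true.1 transSevens_check _ (by simp [transSevens])

theorem ncard_cent_five :
    {g : Equiv.Perm GolayPt | g ∈ Pair ∧ g * x5 = x5 * g}.ncard = 10 :=
  (ncard_cent five_check (by decide +kernel)).trans (by decide +kernel)

theorem ncard_cent_five_M22 :
    {g : Equiv.Perm GolayPt | g ∈ Pair ∧ g * x5 = x5 * g ∧ g ∈ Spor.M22}.ncard = 5 :=
  (ncard_cent_inner five_check (by decide +kernel)).trans (by decide +kernel)

theorem ncard_cent_seven :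
    {g : Equiv.Perm GolayPt | g ∈ Pair ∧ g * y7 = y7 * g}.ncard = 14 :=
  (ncard_cent seven_check (by decide +kernel)).trans (by decide +kernel)

theorem ncard_cent_seven_M22 :
    {g : Equiv.Perm GolayPt | g ∈ Pair ∧ g * y7 = y7 * g ∧ g ∈ Spor.M22}.ncard = 7 :=
  (ncard_cent_inner seven_check (by decide +kernel)).trans (by decide +kernel)

/-- No element of the stabiliser of the pair inverts the element of order seven. -/
theorem no_inverter {g : Equiv.Perm GolayPt} (hg : g ∈ Pair) (h : g * y7 * g⁻¹ = y7⁻¹) : False := by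
  have hc : transSeven6.check = true := List.all_eq_true.1 transSevens_check _ (by simp [transSevens])
  have hy : y7⁻¹ = toPerm transSeven6.y.1 := by
    refine inv_eq_of_mul_eq_one_right ?_
    have hr := rep_fst (TransCert.check_y hc)
    exact (rep_y7.mul hr (show prodCheck transSeven1.x.1 transSeven6.y.1 pId = true by decide +kernel)).ext rep_one
  have hx : toPerm transSeven6.x.1 = y7 := congrArg toPerm
    (show transSeven6.x.1 = transSeven1.x.1 by decide +kernel)
  have hm : g ∈ {g : Equiv.Perm GolayPt | g ∈ Pair ∧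
      g * toPerm transSeven6.x.1 = toPerm transSeven6.y.1 * g} :=
    ⟨hg, by rw [hx, ← hy]; exact mul_inv_eq_iff_eq_mul.1 h⟩
  rw [TransCert.set_eq hc, show transSeven6.keys = [] by decide +kernel] at hm
  obtain ⟨p, hp, -⟩ := hm
  exact List.not_mem_nil hp

/-- An element squaring another by conjugation. -/
theorem double_spec {f x : ℕ × ℕ} (hf : elemOk f = true) (hx : elemOk x = true)
    (h : wordEq [f.1, x.1] [x.1, x.1, f.1] = true) :
    toPerm f.1 * toPerm x.1 * (toPerm f.1)⁻¹ = toPerm x.1 ^ 2 := by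
  have e := word_eq (L := [f.1, x.1]) (M := [x.1, x.1, f.1]) (by simp [rep_fst hf, rep_fst hx])
    (by simp [rep_fst hf, rep_fst hx]) h
  simp only [List.map_cons, List.map_nil, List.prod_cons, List.prod_nil, mul_one] at e
  rw [e, pow_two, ← mul_assoc, mul_inv_cancel_right]

theorem five_double : toPerm fiveDouble.1 ∈ Spor.M22 ∧
    toPerm fiveDouble.1 * x5 * (toPerm fiveDouble.1)⁻¹ = x5 ^ 2 :=
  ⟨mem_M22 (by decide +kernel), double_spec (x := transFive1.x) (by decide +kernel) (by decide +kernel) (by decide +kernel)⟩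

theorem seven_double : toPerm sevenDouble.1 ∈ Spor.M22 ∧
    toPerm sevenDouble.1 * y7 * (toPerm sevenDouble.1)⁻¹ = y7 ^ 2 :=
  ⟨mem_M22 (by decide +kernel), double_spec (x := transSeven1.x) (by decide +kernel) (by decide +kernel) (by decide +kernel)⟩

theorem x5_duad {r : Equiv.Perm GolayPt} (hr : r ∈ duadGrp) : x5 * r * x5⁻¹ ∈ duadGrp :=
  mapsTo_spec (g := transFive1.x) (by decide +kernel) (elemOk_of_innerOk duad_ok) (elemOk_of_innerOk duad_ok)
    (by decide +kernel) hr

theorem x5_hex {r : Equiv.Perm GolayPt} (hr : r ∈ hexGrp) : x5 * r * x5⁻¹ ∈ hexGrp :=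
  mapsTo_spec (g := transFive1.x) (by decide +kernel) (elemOk_of_innerOk hex_ok) (elemOk_of_innerOk hex_ok)
    (by decide +kernel) hr

/-- The element of order three normalizing the duad group. -/
theorem three_duad : toPerm duadThree.1 ∈ Spor.M22 ∧ orderOf (toPerm duadThree.1) = 3 ∧
    ∀ r ∈ duadGrp, toPerm duadThree.1 * r * (toPerm duadThree.1)⁻¹ ∈ duadGrp :=
  ⟨mem_M22 (by decide +kernel),
    orderOf_prime_rep (rep_fst (by decide +kernel)) Nat.prime_three (by decide +kernel) (by decide +kernel),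
    fun _ hr => mapsTo_spec (g := duadThree) (by decide +kernel) (elemOk_of_innerOk duad_ok)
      (elemOk_of_innerOk duad_ok) (by decide +kernel) hr⟩

/-- The outer elements commuting with the element of order five do not centralize the hexad group. -/
theorem hex_outer {g : Equiv.Perm GolayPt} (hg : g ∈ Pair) (hgx : g * x5 = x5 * g) (hgM : g ∉ Spor.M22) :
    ∃ r ∈ hexGrp, ¬ Commute g r := by
  have hall : (transFive1.keys.all fun p => inM22 p || hexList.any fun r => !commutes r.1 p) = true := by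
    decide +kernel
  refine TransCert.forall_of_all five_check (P := fun g => g ∉ Spor.M22 → ∃ r ∈ hexGrp, ¬ Commute g r) _
    (fun k p hk hp h hkM => ?_) hall hg ?_ hgM
  · rw [Bool.or_eq_true] at h
    rcases h with h | h
    · exact absurd ((inM22_iff (Pair_le hk) hp).1 h) hkM
    · obtain ⟨r, hr, hrp⟩ := List.any_eq_true.1 h
      have hrr := rep_fst (List.all_eq_true.1 (elemOk_of_innerOk hex_ok) r hr)
      refine ⟨toPerm r.1, ⟨r.1, List.mem_map.2 ⟨r, hr, rfl⟩, hrr⟩, fun hc => ?_⟩
      rw [(commutes_iff hrr hp).2 hc] at hrp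
      exact Bool.noConfusion hrp
  · have hxy : transFive1.y.1 = transFive1.x.1 := by decide +kernel
    show g * toPerm transFive1.x.1 = toPerm transFive1.y.1 * g
    rw [hxy]
    exact hgx

/-- The involutions of the Sylow 2-subgroup. -/
def invList : List ℕ := invWit.map fun w => w.1.1

theorem mem_invList {g : Equiv.Perm GolayPt} (hg : g ∈ sylTwo) (h2 : g * g = 1) (h1 : g ≠ 1) :
    ∃ p ∈ invList, Rep g p := by
  obtain ⟨p, hp, hr⟩ := sylTwo_key hg
  have hk := List.all_eq_true.1 invWit_complete p hp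
  simp only [Bool.or_eq_true, Bool.not_eq_true'] at hk
  rcases hk with (hk | hk) | hk
  · exfalso
    rw [← Bool.not_eq_true, List.all_eq_true] at hk
    refine hk fun i hi => ?_
    rw [Nat.beq_eq, ← hr.apply ⟨i, mem_bits24.1 hi⟩, ← hr, ← Equiv.Perm.mul_apply, h2,
      Equiv.Perm.one_apply, gidx_gpt]
  · exfalso
    simp only [List.all_eq_true, Nat.beq_eq] at hk
    refine h1 (Equiv.ext fun z => gidx_injective (Fin.ext ?_))
    rw [hr, hk _ (mem_bits24.2 (gidx z).isLt), Equiv.Perm.one_apply]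
  · obtain ⟨w, hw, hwp⟩ := List.any_eq_true.1 hk
    have hwk := List.all_eq_true.1 invWit_check w hw
    simp only [witOk, Bool.and_eq_true] at hwk
    have hue : g = toPerm w.1.1 := (sameP_iff hr (elem_spec hwk.1.1.1).2.1).1 hwp
    exact ⟨w.1.1, List.mem_map.2 ⟨w, hw, rfl⟩, hue ▸ (elem_spec hwk.1.1.1).2.1⟩

theorem invList_rep {p : ℕ} (hp : p ∈ invList) : Rep (toPerm p) p := by
  obtain ⟨w, hw, rfl⟩ := List.mem_map.1 hp
  have hwk := List.all_eq_true.1 invWit_check w hw
  simp only [witOk, Bool.and_eq_true] at hwk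
  exact (elem_spec hwk.1.1.1).2.1

/-- Membership of a packed permutation in a list. -/
def inList (p : ℕ) (L : List (ℕ × ℕ)) : Bool := L.any fun e => sameP p e.1

theorem inList_iff {g : Equiv.Perm GolayPt} {p : ℕ} {L : List (ℕ × ℕ)} (hL : L.all elemOk = true)
    (hg : Rep g p) : inList p L = true ↔ g ∈ listSet (L.map Prod.fst) := by
  simp only [inList, List.any_eq_true, listSet, Set.mem_ofPred_eq]
  constructor
  · rintro ⟨e, he, h⟩
    have hre := rep_fst (List.all_eq_true.1 hL e he)
    exact ⟨e.1, List.mem_map.2 ⟨e, he, rfl⟩, (sameP_iff hg hre).1 h ▸ hre⟩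
  · rintro ⟨q, hq, hgq⟩
    obtain ⟨e, he, rfl⟩ := List.mem_map.1 hq
    exact ⟨e, he, (sameP_iff hg hgq).2 rfl⟩

/-- A commuting set of involutions outside both lists is small. -/
def sixteenCheck : Bool :=
  invList.all fun a => inList a duadZero || invList.all fun b =>
    inList b hexZero || !commutes a b ||
      cliqueLE 40 12 (invList.filter fun q => commutes a q && commutes b q && !sameP q a && !sameP q b)

theorem sixteen_check : sixteenCheck = true := by decide +kernel

theorem zero_ok : (duadZero.all elemOk && hexZero.all elemOk) = true := by decide +kernel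

/-- The elementary groups of order 16 in the Sylow subgroup lie in one of two groups. -/
theorem sixteen_cases {T : Set (Equiv.Perm GolayPt)} (hsyl : ∀ g ∈ T, g ∈ sylTwo) (h2 : ∀ g ∈ T, g * g = 1)
    (hc : ∀ g ∈ T, ∀ h ∈ T, Commute g h) (h15 : 15 ≤ (T \ {1}).ncard) :
    (∀ g ∈ T, g ∈ listSet (duadZero.map Prod.fst)) ∨ ∀ g ∈ T, g ∈ listSet (hexZero.map Prod.fst) := by
  have hz := zero_ok
  rw [Bool.and_eq_true] at hz
  by_contra hcon
  rw [not_or] at hcon
  push Not at hcon
  obtain ⟨⟨a, ha, haD⟩, b, hb, hbH⟩ := hcon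
  have hid : ∀ L : List (ℕ × ℕ), L.all elemOk = true → inList pId L = true →
      (1 : Equiv.Perm GolayPt) ∈ listSet (L.map Prod.fst) := fun L hL h => (inList_iff hL rep_one).1 h
  have ha1 : a ≠ 1 := fun e => haD (e ▸ hid _ hz.1 (by decide +kernel))
  have hb1 : b ≠ 1 := fun e => hbH (e ▸ hid _ hz.2 (by decide +kernel))
  obtain ⟨p, hp, hap⟩ := mem_invList (hsyl a ha) (h2 a ha) ha1
  obtain ⟨q, hq, hbq⟩ := mem_invList (hsyl b hb) (h2 b hb) hb1
  have h := List.all_eq_true.1 sixteen_check p hp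
  rw [Bool.or_eq_true] at h
  rcases h with h | h
  · exact haD ((inList_iff hz.1 hap).1 h)
  have h' := List.all_eq_true.1 h q hq
  simp only [Bool.or_eq_true, Bool.not_eq_true'] at h'
  rcases h' with (h' | h') | h'
  · exact hbH ((inList_iff hz.2 hbq).1 h')
  · rw [(commutes_iff hap hbq).2 (hc b hb a ha)] at h'
    exact Bool.noConfusion h'
  have hle := cliqueLE_spec 40 12 _ h' (T \ {1, a, b}) (fun g hg k hk => hc g hg.1 k hk.1) (by
    rintro g ⟨hg, hne⟩
    simp only [Set.mem_insert_iff, Set.mem_singleton_iff, not_or] at hne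
    obtain ⟨r, hr, hgr⟩ := mem_invList (hsyl g hg) (h2 g hg) hne.1
    refine ⟨r, List.mem_filter.2 ⟨hr, ?_⟩, hgr⟩
    have e1 := (commutes_iff hap hgr).2 (hc g hg a ha)
    have e2 := (commutes_iff hbq hgr).2 (hc g hg b hb)
    have e3 : sameP r p = false := Bool.eq_false_iff.2 fun e => hne.2.1 ((sameP_iff hgr hap).1 e)
    have e4 : sameP r q = false := Bool.eq_false_iff.2 fun e => hne.2.2 ((sameP_iff hgr hbq).1 e)
    simp [e1, e2, e3, e4])
  have hsub : T \ {1} ⊆ (T \ {1, a, b}) ∪ {a, b} := fun g hg => by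
    by_cases h : g ∈ ({a, b} : Set (Equiv.Perm GolayPt))
    · exact Or.inr h
    · exact Or.inl ⟨hg.1, fun h' => (Set.mem_insert_iff.1 h').elim hg.2 h⟩
  have h1 := Set.ncard_le_ncard hsub (Set.toFinite _)
  have h3 : ({a, b} : Set (Equiv.Perm GolayPt)).ncard ≤ 2 :=
    (Set.ncard_insert_le _ _).trans (by simp)
  have h4 := Set.ncard_union_le (T \ {1, a, b}) ({a, b} : Set (Equiv.Perm GolayPt))
  omega

/-- The conjugator to the duad group. -/
theorem duad_conj : toPerm duadConj.1 ∈ Spor.M22 ∧ ∀ r ∈ listSet (duadZero.map Prod.fst),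
    toPerm duadConj.1 * r * (toPerm duadConj.1)⁻¹ ∈ duadGrp :=
  ⟨mem_M22 (by decide +kernel), fun _ hr => mapsTo_spec (g := duadConj) (by decide +kernel)
    (Bool.and_eq_true_iff.1 zero_ok).1 (elemOk_of_innerOk duad_ok) (by decide +kernel) hr⟩

/-- The conjugator to the hexad group. -/
theorem hex_conj : toPerm hexConj.1 ∈ Spor.M22 ∧ ∀ r ∈ listSet (hexZero.map Prod.fst),
    toPerm hexConj.1 * r * (toPerm hexConj.1)⁻¹ ∈ hexGrp :=
  ⟨mem_M22 (by decide +kernel), fun _ hr => mapsTo_spec (g := hexConj) (by decide +kernel)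
    (Bool.and_eq_true_iff.1 zero_ok).2 (elemOk_of_innerOk hex_ok) (by decide +kernel) hr⟩

/-- An element of M22 normalizing the hexad group. -/
def hexNorm (e : ℕ × ℕ) : Bool := innerOk e && mapsTo e hexList hexList

theorem hexNorm_spec {e : ℕ × ℕ} (h : hexNorm e = true) :
    toPerm e.1 ∈ Spor.M22 ∧ ∀ r ∈ hexGrp, toPerm e.1 * r * (toPerm e.1)⁻¹ ∈ hexGrp := by
  rw [hexNorm, Bool.and_eq_true] at h
  refine ⟨mem_M22 h.1, fun r hr => mapsTo_spec (g := e) ?_ (elemOk_of_innerOk hex_ok) (elemOk_of_innerOk hex_ok)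
    h.2 hr⟩
  exact (Bool.and_eq_true_iff.1 h.1).1

/-- Elements of order three of the normalizer of the hexad group and their conjugators. -/
def hexOk : Bool :=
  (hexThree.zip hexWit).all fun w =>
    hexNorm w.1 && hexNorm w.2.1 && hexNorm w.2.2 &&
      wordEq [w.2.1.1, w.1.1, w.2.1.2, w.2.2.1, w.1.1, w.2.2.2] [transFive1.x.1]

theorem hex_check : hexOk = true := by decide +kernel

/-- The conjugates give the element of order five. -/
theorem hexWit_spec {w : (ℕ × ℕ) × (ℕ × ℕ) × (ℕ × ℕ)} (hw : w ∈ hexThree.zip hexWit) :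
    toPerm w.2.1.1 * toPerm w.1.1 * (toPerm w.2.1.1)⁻¹ * (toPerm w.2.2.1 * toPerm w.1.1 * (toPerm w.2.2.1)⁻¹) =
      x5 := by
  have h := List.all_eq_true.1 hex_check w hw
  simp only [hexNorm, innerOk, Bool.and_eq_true] at h
  obtain ⟨⟨⟨⟨⟨hc, -⟩, -⟩, ⟨hn, -⟩, -⟩, ⟨hm, -⟩, -⟩, he⟩ := h
  have e := word_eq (M := [transFive1.x.1])
    (by simp [rep_fst hc, rep_fst hn, rep_fst hm, rep_snd hn, rep_snd hm]) (by simpa [x5] using rep_x5) he
  simp only [List.map_cons, List.map_nil, List.prod_cons, List.prod_nil, mul_one, toPerm_snd hn,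
    toPerm_snd hm] at e
  show _ = toPerm transFive1.x.1
  rw [← e]
  simp only [mul_assoc]

theorem hexThree_pair : ∃ a b : ℕ × ℕ, ∃ c d : ℕ × ℕ, hexThree = [a, b, c, d] ∧
    wordEq [a.1, b.1] [b.1, a.1] = true ∧ wordEq [a.1, a.1, a.1] [] = true ∧ wordEq [b.1, b.1, b.1] [] = true ∧
    wordEq [c.1] [a.1, b.1] = true ∧ wordEq [d.1] [a.1, b.1, b.1] = true := by
  refine ⟨_, _, _, _, rfl, ?_, ?_, ?_, ?_, ?_⟩ <;> decide +kernel

/-- The word of order eleven. -/
theorem eleven_word : ∃ a ∈ hexGrp, ∃ b ∈ hexGrp, ∃ a' ∈ hexGrp, ∃ b' ∈ hexGrp,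
    orderOf (a * (s0 * b * s0⁻¹) * (a' * (s0 * b' * s0⁻¹))) = 11 := by
  obtain ⟨a, b, a', b', h, hi, he⟩ : ∃ a b a' b' : ℕ × ℕ, elevenWord = [a, b, a', b'] ∧
      ([a, b, a', b'].all fun e => inList e.1 hexList && elemOk e) = true ∧
      (prodLOK [a.1, outS.1, b.1, outS.2, a'.1, outS.1, b'.1, outS.2] &&
        (bits24.all fun i => Nat.beq (piter (prodL [a.1, outS.1, b.1, outS.2, a'.1, outS.1, b'.1, outS.2]) 11 i) i) &&
        !sameP (prodL [a.1, outS.1, b.1, outS.2, a'.1, outS.1, b'.1, outS.2]) pId) = true := by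
    refine ⟨_, _, _, _, rfl, ?_, ?_⟩ <;> decide +kernel
  simp only [List.all_cons, List.all_nil, Bool.and_true, Bool.and_eq_true] at hi
  obtain ⟨⟨ia, ea⟩, ⟨ib, eb⟩, ⟨ia', ea'⟩, ⟨ib', eb'⟩⟩ := hi
  have hs : elemOk outS = true := by decide +kernel
  simp only [Bool.and_eq_true, Bool.not_eq_true'] at he
  obtain ⟨⟨hok, h11⟩, hne⟩ := he
  have hr := (rep_prodL (by simp [rep_fst ea, rep_fst eb, rep_fst ea', rep_fst eb', rep_fst hs, rep_snd hs]) hok).1
  have hm : ∀ {e : ℕ × ℕ}, elemOk e = true → inList e.1 hexList = true → toPerm e.1 ∈ hexGrp := fun he hi =>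
    (inList_iff (elemOk_of_innerOk hex_ok) (rep_fst he)).1 hi
  refine ⟨_, hm ea ia, _, hm eb ib, _, hm ea' ia', _, hm eb' ib', ?_⟩
  have ho := orderOf_prime_rep hr (q := 11) (by norm_num) hne h11
  simp only [List.map_cons, List.map_nil, List.prod_cons, List.prod_nil, mul_one, toPerm_snd hs] at ho
  simpa [s0, mul_assoc] using ho

end Cfsg.Lib.JankoFour.LocalCert
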