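import Cfsg.Agent.Lib.JankoFourLocal.Basic
import Cfsg.Agent.Lib.JankoFourLocal.Certs
import Cfsg.Agent.Lib.JankoFour.AutM22

/-!
# The data in the automorphism group of M22
-/

set_option autoImplicit false
set_option linter.style.haveILetI false

namespace Cfsg.Lib.JankoFour.AutM22

open Cfsg Cfsg.Lib.Concrete Cfsg.Lib.JankoFour.LocalCert
open Cfsg.Lib.FusionSys.MathieuCert (toPerm)

/-- The automorphism with a given permutation. -/
noncomputable def ofPerm (g : Equiv.Perm GolayPt) : A22 :=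
  open Classical in if h : g ∈ Pair then pairEquiv ⟨g, h⟩ else 1

theorem perm_ofPerm {g : Equiv.Perm GolayPt} (hg : g ∈ Pair) : perm (ofPerm g) = g := by
  rw [ofPerm, dif_pos hg, perm_pairEquiv]

theorem ofPerm_mem_inner {g : Equiv.Perm GolayPt} (hg : g ∈ Spor.M22) : ofPerm g ∈ inner :=
  mem_inner_iff.2 (by rwa [perm_ofPerm (sporM22_le_Pair hg)])

theorem range_perm : perm.range = Pair := by
  refine le_antisymm ?_ fun g hg => ⟨ofPerm g, perm_ofPerm hg⟩
  rintro _ ⟨a, rfl⟩
  exact perm_mem a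

theorem card_comap {H : Subgroup (Equiv.Perm GolayPt)} (hH : H ≤ Pair) :
    Nat.card ↥(H.comap perm) = Nat.card ↥H := by
  rw [← Subgroup.card_map_of_injective perm_injective, Subgroup.map_comap_eq, range_perm,
    inf_eq_right.2 hH]

theorem comap_le_inner {H : Subgroup (Equiv.Perm GolayPt)} (hH : H ≤ Spor.M22) : H.comap perm ≤ inner :=
  fun _ ha => mem_inner_iff.2 (hH ha)

theorem card_cent {x : A22} {g : Equiv.Perm GolayPt} (hx : perm x = g) :
    Nat.card ↥(Subgroup.centralizer ({x} : Set A22)) = {h | h ∈ Pair ∧ h * g = g * h}.ncard ∧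
      Nat.card ↥(inner ⊓ Subgroup.centralizer ({x} : Set A22)) =
        {h | h ∈ Pair ∧ h * g = g * h ∧ h ∈ Spor.M22}.ncard := by
  refine ⟨card_eq_ncard (Q := fun h => h * g = g * h) fun a => ?_,
    card_eq_ncard (Q := fun h => h * g = g * h ∧ h ∈ Spor.M22) fun a => ?_⟩
  · rw [mem_cent_iff, hx]
  · rw [Subgroup.mem_inf, mem_cent_iff, mem_inner_iff, hx]
    exact and_comm

/-- The element of order five. -/
noncomputable def five : A22 := ofPerm x5

/-- The element of order seven. -/
noncomputable def seven : A22 := ofPerm y7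

/-- The outer involution. -/
noncomputable def outer : A22 := ofPerm s0

theorem perm_five : perm five = x5 := perm_ofPerm (sporM22_le_Pair (mem_M22 x5_ok))

theorem perm_seven : perm seven = y7 := perm_ofPerm (sporM22_le_Pair (mem_M22 y7_ok))

theorem perm_outer : perm outer = s0 := perm_ofPerm s0_mem.1

theorem five_mem : five ∈ inner := ofPerm_mem_inner (mem_M22 x5_ok)

theorem five_cent : Nat.card ↥(Subgroup.centralizer ({five} : Set A22)) = 10 ∧
    Nat.card ↥(inner ⊓ Subgroup.centralizer ({five} : Set A22)) = 5 :=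
  ⟨(card_cent perm_five).1.trans ncard_cent_five, (card_cent perm_five).2.trans ncard_cent_five_M22⟩

theorem seven_cent : Nat.card ↥(Subgroup.centralizer ({seven} : Set A22)) = 14 ∧
    Nat.card ↥(inner ⊓ Subgroup.centralizer ({seven} : Set A22)) = 7 :=
  ⟨(card_cent perm_seven).1.trans ncard_cent_seven, (card_cent perm_seven).2.trans ncard_cent_seven_M22⟩

theorem fact_five : (Nat.card ↥Spor.M22).factorization 5 = 1 := by
  rw [card_sporM22, show (443520 : ℕ) = 5 ^ 1 * 88704 by norm_num,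
    Nat.factorization_mul (by norm_num) (by norm_num), Nat.Prime.factorization_pow (by norm_num : Nat.Prime 5),
    Finsupp.add_apply, Nat.factorization_eq_zero_of_not_dvd (by norm_num : ¬ 5 ∣ 88704)]
  simp

/-- An elementary abelian group of order 16 centralized by an outer element is a conjugate of the duad group. -/
theorem duad_conj_of_outer {R : Subgroup A22} (hR : R ≤ inner) (h2 : ∀ r ∈ R, r * r = 1)
    (hc : ∀ r ∈ R, ∀ r' ∈ R, Commute r r') (h16 : Nat.card ↥R = 16) {a : A22} (ha : a ∉ inner)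
    (hac : ∀ r ∈ R, Commute a r) :
    ∃ h ∈ inner, ∀ r ∈ R, h * r * h⁻¹ ∈ duadGrp.comap perm := by
  classical
  have h16' : Nat.card ↥(R.map perm) = 16 := by rw [Subgroup.card_map_of_injective perm_injective, h16]
  have hle : R.map perm ≤ Spor.M22 := by rintro _ ⟨r, hr, rfl⟩; exact mem_inner_iff.1 (hR hr)
  obtain ⟨c, hcM, hcS⟩ := exists_conj_le sylTwo_le card_sylTwo fact_two hle
    (IsPGroup.of_card (n := 4) h16')
  set T : Set (Equiv.Perm GolayPt) := (fun g => c * g * c⁻¹) '' (R.map perm : Set (Equiv.Perm GolayPt)) with hT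
  have hTel : ∀ g ∈ T, ∀ k ∈ T, g * g = 1 ∧ Commute g k := by
    rintro _ ⟨_, ⟨r, hr, rfl⟩, rfl⟩ _ ⟨_, ⟨r', hr', rfl⟩, rfl⟩
    refine ⟨?_, ((hc r hr r' hr').map perm).map (MulAut.conj c).toMonoidHom⟩
    show c * perm r * c⁻¹ * (c * perm r * c⁻¹) = 1
    rw [show c * perm r * c⁻¹ * (c * perm r * c⁻¹) = c * (perm r * perm r) * c⁻¹ by group, ← map_mul, h2 r hr,
      map_one, mul_one, mul_inv_cancel]
  have h15 : 15 ≤ (T \ {1}).ncard := by
    have h1 : (1 : Equiv.Perm GolayPt) ∈ T := ⟨1, one_mem _, by simp⟩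
    rw [Set.ncard_sdiff_singleton_of_mem h1, hT,
      show (fun g => c * g * c⁻¹) = ⇑(MulAut.conj c) from rfl,
      Set.ncard_image_of_injective _ (MulAut.conj c).injective,
      ← Nat.card_coe_set_eq]
    show 15 ≤ Nat.card ↥(R.map perm) - 1
    omega
  rcases sixteen_cases (T := T) (by rintro _ ⟨g, hg, rfl⟩; exact hcS g hg) (fun g hg => (hTel g hg g hg).1)
    (fun g hg k hk => (hTel g hg k hk).2) h15 with hcase | hcase
  · obtain ⟨hd, hd'⟩ := duad_conj
    obtain ⟨h, hh, hhp⟩ := exists_inner (mul_mem hd hcM)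
    refine ⟨h, hh, fun r hr => ?_⟩
    show perm (h * r * h⁻¹) ∈ duadGrp
    rw [map_mul, map_mul, map_inv, hhp,
      show toPerm duadConj.1 * c * perm r * (toPerm duadConj.1 * c)⁻¹ =
        toPerm duadConj.1 * (c * perm r * c⁻¹) * (toPerm duadConj.1)⁻¹ by group]
    exact hd' _ (hcase _ ⟨_, ⟨r, hr, rfl⟩, rfl⟩)
  exfalso
  obtain ⟨hd, hd'⟩ := hex_conj
  obtain ⟨h, hh, hhp⟩ := exists_inner (mul_mem hd hcM)
  set H := hexGrp.comap perm with hH
  have hmapH : R.map (MulAut.conj h).toMonoidHom = H := by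
    refine Subgroup.eq_of_le_of_card_ge ?_ ?_
    · rintro _ ⟨r, hr, rfl⟩
      show perm (h * r * h⁻¹) ∈ hexGrp
      rw [map_mul, map_mul, map_inv, hhp,
        show toPerm hexConj.1 * c * perm r * (toPerm hexConj.1 * c)⁻¹ =
          toPerm hexConj.1 * (c * perm r * c⁻¹) * (toPerm hexConj.1)⁻¹ by group]
      exact hd' _ (hcase _ ⟨_, ⟨r, hr, rfl⟩, rfl⟩)
    · rw [card_map_conj, h16, hH, card_comap (hexGrp_le.trans sporM22_le_Pair), card_hexGrp]
  -- the outer elements centralizing the hexad group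
  set K := inner ⊓ Subgroup.centralizer (H : Set A22) with hK
  have hK5 : ¬ 5 ∣ Nat.card ↥K := by
    intro h5
    haveI : Fact (Nat.Prime 5) := ⟨by norm_num⟩
    obtain ⟨⟨u, hu⟩, huo⟩ := exists_prime_orderOf_dvd_card' 5 h5
    rw [Subgroup.orderOf_mk] at huo
    have hup : orderOf (perm u) = 5 := (orderOf_perm u).trans huo
    obtain ⟨d, hdM, hdS⟩ := exists_conj_le (p := 5) (k := 1)
      ((Subgroup.zpowers_le (g := x5)).2 (mem_M22 x5_ok))
      (by rw [Nat.card_zpowers, orderOf_x5, pow_one]) fact_five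
      ((Subgroup.zpowers_le (g := perm u)).2 (mem_inner_iff.1 hu.1))
      (IsPGroup.of_card (n := 1) (by rw [Nat.card_zpowers, hup, pow_one]))
    obtain ⟨e, he, hep⟩ := exists_inner hdM
    have hz : Subgroup.zpowers (perm (e * u * e⁻¹)) = Subgroup.zpowers x5 := by
      refine Subgroup.eq_of_le_of_card_ge (Subgroup.zpowers_le.2 ?_) ?_
      · rw [map_mul, map_mul, map_inv, hep]
        exact hdS _ (Subgroup.mem_zpowers _)
      · rw [Nat.card_zpowers, Nat.card_zpowers, orderOf_x5, orderOf_perm, ← MulAut.conj_apply,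
          MulEquiv.orderOf_eq, huo]
    have hsub : H.map (MulAut.conj e).toMonoidHom ≤ inner ⊓ Subgroup.centralizer ({five} : Set A22) := by
      rintro _ ⟨r, hr, rfl⟩
      refine ⟨inner_normal.conj_mem r (comap_le_inner hexGrp_le hr) e, mem_cent_iff.2 ?_⟩
      obtain ⟨i, hi⟩ := Subgroup.mem_zpowers_iff.1 (hz.symm ▸ Subgroup.mem_zpowers x5 :
        x5 ∈ Subgroup.zpowers (perm (e * u * e⁻¹)))
      have hru : Commute r u := Subgroup.mem_centralizer_iff.1 hu.2 r hr
      rw [perm_five, ← hi]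
      exact (((hru.map (MulAut.conj e).toMonoidHom).map perm).zpow_right i).eq
    have := Subgroup.card_le_of_le hsub
    rw [card_map_conj, five_cent.2, card_comap (hexGrp_le.trans sporM22_le_Pair), card_hexGrp] at this
    omega
  set a' := h * a * h⁻¹ with ha'
  have ha'I : a' ∉ inner := fun hm => ha (by
    have := inner_normal.conj_mem _ hm h⁻¹
    rw [ha'] at this
    simpa [mul_assoc] using this)
  have ha'C : ∀ r ∈ H, Commute a' r := by
    rw [← hmapH]
    rintro _ ⟨r, hr, rfl⟩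
    exact (hac r hr).map (MulAut.conj h).toMonoidHom
  let Q := {b : A22 // b ∉ inner ∧ ∀ r ∈ H, Commute b r}
  haveI : Fintype Q := Fintype.ofFinite _
  have hQcard : Fintype.card Q = Nat.card ↥K := by
    rw [← Nat.card_eq_fintype_card]
    have hidx := index_inner
    refine Nat.card_congr
      { toFun := fun b => ⟨a'⁻¹ * b.1, ?_, Subgroup.mem_centralizer_iff.2 fun r hr =>
          (((ha'C r hr).inv_left).mul_left (b.2.2 r hr)).eq.symm⟩
        invFun := fun k => ⟨a' * k.1, fun hm => ha'I (by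
            simpa using mul_mem hm (inv_mem k.2.1)), fun r hr =>
          (ha'C r hr).mul_left (Subgroup.mem_centralizer_iff.1 k.2.2 r hr).symm⟩
        left_inv := fun b => Subtype.ext (mul_inv_cancel_left _ _)
        right_inv := fun k => Subtype.ext (inv_mul_cancel_left _ _) }
    show a'⁻¹ * b.1 ∈ inner
    rw [Subgroup.mul_mem_iff_of_index_two hidx, inv_mem_iff]
    exact iff_of_false ha'I b.2.1
  have hx5H : ∀ r ∈ H, five * r * five⁻¹ ∈ H := fun r hr => by
    show perm (five * r * five⁻¹) ∈ hexGrp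
    rw [map_mul, map_mul, map_inv, perm_five]
    exact x5_hex hr
  have hinvH : ∀ r ∈ H, five⁻¹ * r * five ∈ H := by
    have e : H.map (MulAut.conj five).toMonoidHom = H :=
      Subgroup.eq_of_le_of_card_ge (by rintro _ ⟨r, hr, rfl⟩; exact hx5H r hr) (by rw [card_map_conj])
    intro r hr
    rw [← e] at hr
    obtain ⟨q, hq, rfl⟩ := hr
    show five⁻¹ * (five * q * five⁻¹) * five ∈ H
    rwa [show five⁻¹ * (five * q * five⁻¹) * five = q by group]
  let σ : Equiv.Perm Q := Equiv.ofBijective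
    (fun b => ⟨five * b.1 * five⁻¹, fun hm => b.2.1 (by
        have := inner_normal.conj_mem _ hm five⁻¹
        simpa [mul_assoc] using this), fun r hr => by
      have h1 := (b.2.2 _ (hinvH r hr)).map (MulAut.conj five).toMonoidHom
      simpa [mul_assoc] using h1⟩)
    (Finite.injective_iff_bijective.1 fun b b' hbb =>
      Subtype.ext (mul_left_cancel (mul_right_cancel (congrArg Subtype.val hbb))))
  have hpow : ∀ (n : ℕ) (b : Q), ((σ ^ n) b).1 = five ^ n * b.1 * (five ^ n)⁻¹ := by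
    intro n
    induction n with
    | zero => intro b; simp
    | succ n ih =>
      intro b
      rw [pow_succ', Equiv.Perm.mul_apply]
      show five * ((σ ^ n) b).1 * five⁻¹ = _
      rw [ih, pow_succ']
      group
  have h5 : five ^ 5 = 1 := by
    have := pow_orderOf_eq_one five
    rwa [← orderOf_perm, perm_five, orderOf_x5] at this
  haveI : Fact (Nat.Prime 5) := ⟨by norm_num⟩
  obtain ⟨b, hb⟩ := Equiv.Perm.exists_fixed_point_of_prime (p := 5) (n := 1) (α := Q) (by rwa [hQcard])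
    (σ := σ) (Equiv.ext fun b => Subtype.ext (by rw [hpow, pow_one, h5]; simp))
  have hb5 : five * b.1 * five⁻¹ = b.1 := congrArg Subtype.val hb
  have e5 : perm b.1 * x5 = x5 * perm b.1 := by
    rw [← perm_five, ← map_mul, ← map_mul, mul_inv_eq_iff_eq_mul.1 hb5]
  obtain ⟨r, hr, hnc⟩ := hex_outer (perm_mem b.1) e5 fun hm => b.2.1 (mem_inner_iff.2 hm)
  obtain ⟨r', hr'⟩ := exists_perm (sporM22_le_Pair (hexGrp_le hr))
  have hrH : r' ∈ H := by show perm r' ∈ hexGrp; rwa [hr']
  exact hnc (hr' ▸ (b.2.2 r' hrH).map perm)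

theorem commuting_cubes : ∀ a b : Equiv.Perm (Fin 5), a * (a * a) = 1 → b * (b * b) = 1 → a * b = b * a →
    a = 1 ∨ b = 1 ∨ a * b = 1 ∨ a * (b * b) = 1 := by decide +kernel

/-- An element mapping a finite subgroup into itself normalizes it. -/
theorem mem_normalizer_of_maps {a : A22} {H : Subgroup A22} (h : ∀ r ∈ H, a * r * a⁻¹ ∈ H) :
    a ∈ Subgroup.normalizer (H : Set A22) := by
  have e : H.map (MulAut.conj a).toMonoidHom = H :=
    Subgroup.eq_of_le_of_card_ge (by rintro _ ⟨r, hr, rfl⟩; exact h r hr) (by rw [card_map_conj])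
  refine Subgroup.mem_normalizer_iff.2 fun r => ⟨h r, fun hr => ?_⟩
  rw [← e] at hr
  obtain ⟨q, hq, hqe⟩ := hr
  rwa [← (MulAut.conj a).injective hqe]

theorem hexNorm_mem {e : ℕ × ℕ} (h : hexNorm e = true) :
    ofPerm (toPerm e.1) ∈ inner ⊓ Subgroup.normalizer ((hexGrp.comap perm : Subgroup A22) : Set A22) ∧
      perm (ofPerm (toPerm e.1)) = toPerm e.1 := by
  obtain ⟨h1, h2⟩ := hexNorm_spec h
  have e0 := perm_ofPerm (sporM22_le_Pair h1)
  refine ⟨⟨ofPerm_mem_inner h1, mem_normalizer_of_maps fun r hr => ?_⟩, e0⟩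
  show perm (ofPerm (toPerm e.1) * r * (ofPerm (toPerm e.1))⁻¹) ∈ hexGrp
  rw [map_mul, map_mul, map_inv, e0]
  exact h2 _ hr

/-- Homomorphisms of the normalizer of the hexad group to the symmetric group of degree five kill `five`. -/
theorem no_five {N : Subgroup A22}
    (hN : N = inner ⊓ Subgroup.normalizer ((hexGrp.comap perm : Subgroup A22) : Set A22))
    (φ : ↥N →* Equiv.Perm (Fin 5)) (hx : five ∈ N) : φ ⟨five, hx⟩ = 1 := by
  have key : ∀ w ∈ hexThree.zip hexWit, ∀ hw : ofPerm (toPerm w.1.1) ∈ N,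
      φ ⟨_, hw⟩ = 1 → φ ⟨five, hx⟩ = 1 := by
    intro w hw hwN h1
    have hall := List.all_eq_true.1 hex_check w hw
    simp only [Bool.and_eq_true] at hall
    obtain ⟨⟨⟨hc, hn⟩, hm⟩, -⟩ := hall
    have e := hexWit_spec hw
    set C : ↥N := ⟨_, hwN⟩
    set N1 : ↥N := ⟨_, hN.symm ▸ (hexNorm_mem hn).1⟩
    set N2 : ↥N := ⟨_, hN.symm ▸ (hexNorm_mem hm).1⟩
    have e' : (⟨five, hx⟩ : ↥N) = N1 * C * N1⁻¹ * (N2 * C * N2⁻¹) := Subtype.ext (perm_injective (by
      simp only [C, N1, N2, Subgroup.coe_mul, Subgroup.coe_inv, map_mul, map_inv, (hexNorm_mem hn).2,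
        (hexNorm_mem hm).2, (hexNorm_mem hc).2, perm_five]
      exact e.symm))
    simp [e', h1]
  obtain ⟨a, b, c, d, hL, hab, ha3, hb3, hc', hd⟩ := hexThree_pair
  obtain ⟨v1, v2, v3, v4, hV⟩ : ∃ v1 v2 v3 v4, hexWit = [v1, v2, v3, v4] := ⟨_, _, _, _, rfl⟩
  have hzip : hexThree.zip hexWit = [(a, v1), (b, v2), (c, v3), (d, v4)] := by rw [hL, hV]; rfl
  have hok : ∀ w ∈ [(a, v1), (b, v2), (c, v3), (d, v4)], hexNorm w.1 = true := fun w hw => by
    have hall := List.all_eq_true.1 hex_check w (hzip ▸ hw)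
    simp only [Bool.and_eq_true] at hall
    exact hall.1.1.1
  have ha := hexNorm_mem (hok (a, v1) (by simp))
  have hb := hexNorm_mem (hok (b, v2) (by simp))
  have hc := hexNorm_mem (hok (c, v3) (by simp))
  have hd' := hexNorm_mem (hok (d, v4) (by simp))
  have hr : ∀ {e : ℕ × ℕ}, hexNorm e = true → Rep (toPerm e.1) e.1 := fun h => by
    simp only [hexNorm, innerOk, Bool.and_eq_true] at h
    exact rep_fst h.1.1
  have ra := hr (hok (a, v1) (by simp))
  have rb := hr (hok (b, v2) (by simp))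
  have rc := hr (hok (c, v3) (by simp))
  have rd := hr (hok (d, v4) (by simp))
  set A₁ : ↥N := ⟨_, hN.symm ▸ ha.1⟩
  set B₁ : ↥N := ⟨_, hN.symm ▸ hb.1⟩
  set C₁ : ↥N := ⟨_, hN.symm ▸ hc.1⟩
  set D₁ : ↥N := ⟨_, hN.symm ▸ hd'.1⟩
  have eab : A₁ * B₁ = B₁ * A₁ := Subtype.ext (perm_injective (by
    simpa [A₁, B₁, ha.2, hb.2] using word_eq (by simp [ra, rb]) (by simp [ra, rb]) hab))
  have ea : A₁ * (A₁ * A₁) = 1 := Subtype.ext (perm_injective (by
    simpa [A₁, ha.2] using word_eq (by simp [ra]) (by simp) ha3))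
  have eb : B₁ * (B₁ * B₁) = 1 := Subtype.ext (perm_injective (by
    simpa [B₁, hb.2] using word_eq (by simp [rb]) (by simp) hb3))
  have ec : C₁ = A₁ * B₁ := Subtype.ext (perm_injective (by
    simpa [A₁, B₁, C₁, ha.2, hb.2, hc.2] using word_eq (by simp [rc]) (by simp [ra, rb]) hc'))
  have ed : D₁ = A₁ * (B₁ * B₁) := Subtype.ext (perm_injective (by
    simpa [A₁, B₁, D₁, ha.2, hb.2, hd'.2] using word_eq (by simp [rd]) (by simp [ra, rb]) hd))
  rcases commuting_cubes (φ A₁) (φ B₁) (by simpa using congrArg φ ea) (by simpa using congrArg φ eb)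
    (by simpa using congrArg φ eab) with h | h | h | h
  · exact key (a, v1) (hzip ▸ by simp) _ h
  · exact key (b, v2) (hzip ▸ by simp) _ h
  · exact key (c, v3) (hzip ▸ by simp) _ (by show φ C₁ = 1; rw [ec, map_mul, h])
  · exact key (d, v4) (hzip ▸ by simp) _ (by show φ D₁ = 1; rw [ed, map_mul, map_mul, h])

/-- The local data. -/
noncomputable def localData : LocalData A22 inner where
  x := five
  s := outer
  f := ofPerm (toPerm fiveDouble.1)
  c := ofPerm (toPerm duadThree.1)
  y := seven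
  g := ofPerm (toPerm sevenDouble.1)
  Rd := duadGrp.comap perm
  Rh := hexGrp.comap perm
  x_mem := five_mem
  x_ord := by rw [← orderOf_perm, perm_five, orderOf_x5]
  x_cent := five_cent.1
  x_centI := five_cent.2
  s_notMem := fun h => s0_mem.2 (perm_outer ▸ mem_inner_iff.1 h)
  s_x := perm_injective (by simp only [map_mul, perm_outer, perm_five]; exact commute_s0_x5)
  f_mem := ofPerm_mem_inner five_double.1
  f_x := perm_injective (by
    simp only [map_mul, map_inv, map_pow, perm_five, perm_ofPerm (sporM22_le_Pair five_double.1)]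
    exact five_double.2)
  Rd_le := comap_le_inner duadGrp_le
  Rd_two r hr := perm_injective (by rw [map_mul, map_one]; exact (duadGrp_elem hr hr).1)
  Rd_comm r hr r' hr' := perm_injective (by simp only [map_mul]; exact (duadGrp_elem hr hr').2)
  Rd_card := by rw [card_comap (duadGrp_le.trans sporM22_le_Pair), card_duadGrp]
  x_Rd r hr := by
    show perm (five * r * five⁻¹) ∈ duadGrp
    rw [map_mul, map_mul, map_inv, perm_five]
    exact x5_duad hr
  s_Rd r hr := perm_injective (by simp only [map_mul, perm_outer]; exact s0_duad hr)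
  c_mem := ofPerm_mem_inner three_duad.1
  c_ord := by rw [← orderOf_perm, perm_ofPerm (sporM22_le_Pair three_duad.1), three_duad.2.1]
  c_Rd r hr := by
    show perm (ofPerm (toPerm duadThree.1) * r * (ofPerm (toPerm duadThree.1))⁻¹) ∈ duadGrp
    rw [map_mul, map_mul, map_inv, perm_ofPerm (sporM22_le_Pair three_duad.1)]
    exact three_duad.2.2 _ hr
  Rd_conj R hR h2 hc h16 a ha hac := duad_conj_of_outer hR h2 hc h16 ha hac
  Rh_le := comap_le_inner hexGrp_le
  Rh_two r hr := perm_injective (by rw [map_mul, map_one]; exact (hexGrp_elem hr hr).1)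
  Rh_comm r hr r' hr' := perm_injective (by simp only [map_mul]; exact (hexGrp_elem hr hr').2)
  Rh_card := by rw [card_comap (hexGrp_le.trans sporM22_le_Pair), card_hexGrp]
  x_Rh r hr := by
    show perm (five * r * five⁻¹) ∈ hexGrp
    rw [map_mul, map_mul, map_inv, perm_five]
    exact x5_hex hr
  no_five φ hx := no_five rfl φ hx
  eleven := by
    obtain ⟨a, ha, b, hb, a', ha', b', hb', ho⟩ := eleven_word
    have e := fun {r} (hr : r ∈ hexGrp) => perm_ofPerm (sporM22_le_Pair (hexGrp_le hr))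
    have hm : ∀ {r}, r ∈ hexGrp → ofPerm r ∈ hexGrp.comap perm := fun {r} hr => by
      show perm (ofPerm r) ∈ hexGrp
      rwa [e hr]
    refine ⟨ofPerm a * (outer * ofPerm b * outer⁻¹) * (ofPerm a' * (outer * ofPerm b' * outer⁻¹)), ?_, ?_⟩
    · refine mul_mem (mul_mem (Subgroup.mem_sup_left (hm ha)) (Subgroup.mem_sup_right ⟨_, hm hb, rfl⟩))
        (mul_mem (Subgroup.mem_sup_left (hm ha')) (Subgroup.mem_sup_right ⟨_, hm hb', rfl⟩))
    · rw [← orderOf_perm]
      simp only [map_mul, map_inv, perm_outer, e ha, e hb, e ha', e hb']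
      exact ho
  y_mem := ofPerm_mem_inner (mem_M22 y7_ok)
  y_ord := by rw [← orderOf_perm, perm_seven, orderOf_y7]
  y_cent := seven_cent.1
  y_centI := seven_cent.2
  g_mem := ofPerm_mem_inner seven_double.1
  g_y := perm_injective (by
    simp only [map_mul, map_inv, map_pow, perm_seven, perm_ofPerm (sporM22_le_Pair seven_double.1)]
    exact seven_double.2)
  y_no_inv a h := no_inverter (perm_mem a) (by rw [← perm_seven, ← map_inv, ← map_inv, ← map_mul, ← map_mul, h])

end Cfsg.Lib.JankoFour.AutM22
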