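import Cfsg.Agent.Lib.JankoFourLocal.FiveEight
import Mathlib.GroupTheory.SchurZassenhaus
import Cfsg.Prelude.Def_TwoFusion

/-!
# The normalizer of an element of order five
-/

set_option autoImplicit false
set_option linter.style.haveILetI false
set_option linter.unusedSectionVars false

namespace Cfsg.Lib.JankoFour

open Cfsg Cfsg.Lib.Extra Module
open scoped Pointwise

namespace Frame

variable {G : Type*} [Group G] [Finite G] {A : Type} [Group A] {I : Subgroup A}

namespace FivePt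

variable {F : Frame G A I} {D : LocalData A I} (P : FivePt F D)

theorem centralizer_x :
    Subgroup.centralizer (Subgroup.zpowers P.x : Set G) = P.Cx := by
  ext g
  rw [Subgroup.mem_centralizer_iff, P.mem_Cx]
  refine ⟨fun h => (h P.x (Subgroup.mem_zpowers _)).symm, fun h w hw => ?_⟩
  obtain ⟨i, rfl⟩ := Subgroup.mem_zpowers_iff.1 hw
  exact (h.zpow_right i).eq.symm

theorem card_Cx : Nat.card ↥P.Cx = 6720 := P.exists_eight.2.1

theorem card_Gb : Nat.card P.Gb = 1344 := P.exists_eight.1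

include P in
/-- The element generates a Sylow subgroup. -/
theorem not_sq_dvd : ¬ 25 ∣ Nat.card G := by
  intro h
  haveI : Fact (Nat.Prime 5) := ⟨by norm_num⟩
  have h' := sq_dvd_card_centralizer (K := G) (q := 5) (by norm_num; exact h) (a := P.x) P.ord
  rw [P.card_Cx] at h'
  exact absurd h' (by norm_num)

/-- The centralizer is the product of the element with a complement mapping onto the quotient. -/
theorem cent_structure : ∃ J : Subgroup G,
    Cfsg.IsInternalDirectProduct (Subgroup.zpowers P.x) J P.Cx ∧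
      ∃ (E : Subgroup ↥J) (_ : E.Normal), Cfsg.IsElementaryAbelian 2 E ∧ Nat.card ↥E = 8 ∧
        Nonempty (↥J ⧸ E ≃* Matrix.SpecialLinearGroup (Fin 3) (ZMod 2)) ∧
        ∀ K : Subgroup ↥J, ¬ E.IsComplement' K := by
  obtain ⟨hcard, -, N, hN, hcomm, h2, h8, ⟨f⟩⟩ := P.exists_eight
  obtain ⟨J0, hJ⟩ := Subgroup.exists_right_complement'_of_coprime (N := P.Z) (by
    rw [P.card_Z, show P.Z.index = Nat.card P.Gb from rfl, hcard]
    norm_num)
  have hbij : Function.Bijective (P.pr.comp J0.subtype) := by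
    refine ⟨(injective_iff_map_eq_one _).2 fun a ha => Subtype.ext ?_, fun w => ?_⟩
    · exact (Subgroup.disjoint_def.1 hJ.disjoint) ((QuotientGroup.eq_one_iff (a : ↥P.Cx)).1 ha) a.2
    · obtain ⟨g, rfl⟩ := P.pr_surj w
      obtain ⟨⟨c, j⟩, e⟩ := hJ.2 g
      refine ⟨j, ?_⟩
      show P.pr (j : ↥P.Cx) = P.pr g
      rw [← e, show P.pr ((c : ↥P.Cx) * j) = P.pr c * P.pr j from map_mul _ _ _,
        (QuotientGroup.eq_one_iff (c : ↥P.Cx)).2 c.2 |> (fun h => (h : P.pr (c : ↥P.Cx) = 1)), one_mul]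
  set J := J0.map P.Cx.subtype
  let e : ↥J ≃* P.Gb := (Subgroup.equivMapOfInjective J0 _ P.Cx.subtype_injective).symm.trans
    (MulEquiv.ofBijective _ hbij)
  refine ⟨J, ⟨Subgroup.zpowers_le.2 (P.mem_Cx.2 (Commute.refl _)), Subgroup.map_subtype_le _, ?_, ?_, ?_⟩, ?_⟩
  · rintro a ha b hb
    obtain ⟨b', -, rfl⟩ := hb
    obtain ⟨i, rfl⟩ := Subgroup.mem_zpowers_iff.1 ha
    exact ((P.mem_Cx.1 b'.2).zpow_right i).eq.symm
  · refine (Subgroup.eq_bot_iff_forall _).2 ?_
    rintro a ⟨ha, b, hb, rfl⟩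
    have : b = 1 := (Subgroup.disjoint_def.1 hJ.disjoint) (P.mem_Z.2 ha) hb
    rw [this, map_one]
  · refine le_antisymm (sup_le (Subgroup.zpowers_le.2 (P.mem_Cx.2 (Commute.refl _)))
      (Subgroup.map_subtype_le _)) fun g hg => ?_
    obtain ⟨⟨c, j⟩, h⟩ := hJ.2 ⟨g, hg⟩
    rw [show g = ((c : ↥P.Cx) : G) * ((j : ↥P.Cx) : G) from congrArg Subtype.val h.symm]
    exact Subgroup.mul_mem_sup (P.mem_Z.1 c.2) ⟨_, j.2, rfl⟩
  set E := N.comap e.toMonoidHom
  haveI hE : E.Normal := hN.comap e.toMonoidHom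
  have hmap : E.map e.toMonoidHom = N := Subgroup.map_comap_eq_self_of_surjective e.surjective N
  have hEc : Nat.card ↥E = 8 := by
    rw [← Subgroup.card_map_of_injective (f := e.toMonoidHom) e.injective, hmap, h8]
  obtain ⟨g⟩ := psl_three_equiv
  refine ⟨E, hE, ⟨⟨⟨fun a b => Subtype.ext (e.injective ?_)⟩⟩, fun a ha => e.injective ?_⟩, hEc,
    ⟨((QuotientGroup.congr E N e hmap).trans f).trans g⟩, fun K hK => ?_⟩
  · haveI := hcomm
    show e ((a : ↥J) * (b : ↥J)) = e ((b : ↥J) * (a : ↥J))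
    rw [map_mul, map_mul]
    exact congrArg Subtype.val (mul_comm' (⟨e a, a.2⟩ : ↥N) ⟨e b, b.2⟩)
  · rw [map_pow, map_one]
    exact h2 _ ha
  · have hJcard : Nat.card ↥J = 1344 := by rw [Nat.card_congr e.toEquiv, hcard]
    refine P.eight_nonsplit hcomm h2 h8 hcard (K.map e.toMonoidHom)
      (Subgroup.isComplement'_of_card_mul_and_disjoint ?_ ?_)
    · rw [Subgroup.card_map_of_injective (f := e.toMonoidHom) e.injective, h8, ← hEc, hK.card_mul, hJcard, hcard]
    · rw [Subgroup.disjoint_def]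
      rintro a ha ⟨b, hb, rfl⟩
      rw [(Subgroup.disjoint_def.1 hK.disjoint) (show b ∈ E from ha) hb, map_one]

/-- An element of order seven of the centralizer and its normalizer there. -/
theorem exists_seven : ∃ y ∈ P.Cx, orderOf y = 7 ∧
    Nat.card ↥(P.Cx ⊓ Subgroup.normalizer (Subgroup.zpowers y : Set G)) = 105 := by
  classical
  haveI : Fact (Nat.Prime 7) := ⟨by norm_num⟩
  obtain ⟨hcard, hCx, N, hN, hcomm, h2, h8, ⟨f⟩⟩ := P.exists_eight
  obtain ⟨hle, hzN⟩ := P.eight_le hcomm h2 h8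
  obtain ⟨⟨y, hy⟩, hyo⟩ := exists_prime_orderOf_dvd_card' (G := ↥P.Cx) 7 (by rw [hCx]; norm_num)
  have hyo' : orderOf y = 7 := by rw [← hyo, ← Subgroup.orderOf_coe]
  refine ⟨y, hy, hyo', ?_⟩
  set yc : ↥P.Cx := ⟨y, hy⟩
  set yb := P.pr yc
  have hy7 : y ^ 7 = 1 := hyo' ▸ pow_orderOf_eq_one y
  have hxpow : ∀ i : ℤ, (P.x ^ i) ^ 7 = 1 → P.x ^ i = 1 := fun i h => by
    have h5 : (P.x ^ i) ^ 5 = 1 := by
      rw [← zpow_natCast, ← zpow_mul, mul_comm, zpow_mul, zpow_natCast, P.x_pow, one_zpow]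
    have := pow_gcd_eq_one.2 ⟨h, h5⟩
    rwa [show Nat.gcd 7 5 = 1 by norm_num, pow_one] at this
  have hybo : orderOf yb = 7 := by
    refine orderOf_eq_prime (by rw [← map_pow, ← P.pr.map_one]; exact congrArg _ (Subtype.ext hy7)) fun h => ?_
    obtain ⟨i, hi⟩ := Subgroup.mem_zpowers_iff.1 (P.pr_eq_one.1 h)
    have hi' : P.x ^ i = y := hi
    have h1 : y = 1 := hi'.symm.trans (hxpow i (by rw [hi']; exact hy7))
    rw [h1, orderOf_one] at hyo'
    omega
  set S := Subgroup.zpowers yb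
  have hS7 : Nat.card ↥S = 7 := by rw [Nat.card_zpowers, hybo]
  have hfac : (Nat.card P.Gb).factorization 7 = 1 := by
    rw [hcard, Nat.factorization_def _ (by norm_num), show (1344 : ℕ) = 7 ^ 1 * 192 by norm_num,
      padicValNat.mul (by norm_num) (by norm_num), padicValNat.prime_pow,
      padicValNat.eq_zero_of_not_dvd (by norm_num)]
  let T : Sylow 7 P.Gb := Sylow.ofCard S (by rw [hS7, hfac, pow_one])
  have hidx : (Subgroup.normalizer (S : Set P.Gb)).index ≡ 1 [MOD 7] := by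
    have h := card_sylow_modEq_one 7 P.Gb
    rw [Sylow.card_eq_index_normalizer T] at h
    exact h
  -- the element of order seven fixes no element of the eight-group
  have hfix : ∀ n ∈ N, Commute n yb → n = 1 := by
    let φ : ↥S →* MulAut ↥N := (MulAut.conjNormal (H := N)).comp S.subtype
    letI : MulAction ↥S ↥N := MulAction.compHom ↥N φ
    have hmod := (IsPGroup.of_card (n := 1) (by rw [hS7, pow_one]) : IsPGroup 7 ↥S).card_modEq_card_fixedPoints
      (α := ↥N)
    set C := N ⊓ Subgroup.centralizer ({yb} : Set P.Gb) with hCdef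
    have hC : Nat.card ↥(MulAction.fixedPoints ↥S ↥N) = Nat.card ↥C := by
      refine Nat.card_congr
        { toFun := fun n => ⟨((n : ↥N) : P.Gb), (n : ↥N).2, Subgroup.mem_centralizer_singleton_iff.2 ?_⟩
          invFun := fun n => ⟨⟨n, n.2.1⟩, fun s => Subtype.ext ?_⟩
          left_inv := fun n => rfl
          right_inv := fun n => rfl }
      · have h : yb * ((n : ↥N) : P.Gb) * yb⁻¹ = (n : ↥N) :=
          congrArg Subtype.val (n.2 ⟨yb, Subgroup.mem_zpowers _⟩)
        exact (mul_inv_eq_iff_eq_mul.1 h).symm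
      · obtain ⟨k, hk⟩ := Subgroup.mem_zpowers_iff.1 s.2
        show (s : P.Gb) * n * (s : P.Gb)⁻¹ = n
        have hn : Commute (n : P.Gb) yb := Subgroup.mem_centralizer_singleton_iff.1 n.2.2
        rw [← hk, (hn.zpow_right k).symm.eq, mul_inv_cancel_right]
    rw [hC, h8] at hmod
    have hd : Nat.card ↥C ∣ 8 := h8 ▸ Subgroup.card_dvd_of_le inf_le_left
    intro n hn hny
    rcases (Nat.dvd_prime_pow Nat.prime_two).1 (show Nat.card ↥C ∣ 2 ^ 3 by simpa using hd) with ⟨k, hk, e⟩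
    interval_cases k
    · have hb := Subgroup.eq_bot_of_card_eq C (by rw [e, pow_zero])
      have : n ∈ C := ⟨hn, Subgroup.mem_centralizer_singleton_iff.2 hny.eq⟩
      rwa [hb, Subgroup.mem_bot] at this
    · rw [e] at hmod; exact absurd hmod (by decide)
    · rw [e] at hmod; exact absurd hmod (by decide)
    · exfalso
      have hCN : C = N := Subgroup.eq_of_le_of_card_ge inf_le_left (by rw [e, h8]; norm_num)
      have hzC : P.zb ∈ C := hCN.symm ▸ hzN
      have hyL : yb ∈ P.Lb := by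
        rw [← P.centralizer_zb]
        exact Subgroup.mem_centralizer_singleton_iff.2
          (show Commute P.zb yb from Subgroup.mem_centralizer_singleton_iff.1 hzC.2).symm.eq
      have := Subgroup.orderOf_dvd_natCard _ hyL
      rw [hybo, P.card_Lb] at this
      exact absurd this (by norm_num)
  set M := Subgroup.normalizer (S : Set P.Gb)
  have hdis : Disjoint N M := by
    rw [Subgroup.disjoint_def]
    intro n hn hm
    refine hfix n hn ?_
    have h1 : n * yb * n⁻¹ * yb⁻¹ ∈ S :=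
      S.mul_mem ((Subgroup.mem_normalizer_iff.1 hm yb).1 (Subgroup.mem_zpowers _))
        (S.inv_mem (Subgroup.mem_zpowers _))
    have h1' : n * yb * n⁻¹ * yb⁻¹ ∈ N := by
      rw [show n * yb * n⁻¹ * yb⁻¹ = n * (yb * n⁻¹ * yb⁻¹) by group]
      exact N.mul_mem hn (hN.conj_mem _ (N.inv_mem hn) yb)
    have h2' : n * yb * n⁻¹ * yb⁻¹ = 1 := by
      by_contra hne
      have o1 := Subgroup.orderOf_dvd_natCard _ h1
      rw [hS7] at o1
      have o2 := Subgroup.orderOf_dvd_natCard _ h1'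
      rw [h8] at o2
      exact hne (orderOf_eq_one_iff.1 (Nat.eq_one_of_dvd_coprimes (by norm_num) o1 o2))
    exact mul_inv_eq_iff_eq_mul.1 (mul_inv_eq_one.1 h2')
  have hM21 : Nat.card ↥M = 21 := by
    have hmi := M.card_mul_index
    rw [hcard] at hmi
    have hd : M.index ∣ 192 := by
      have h7 : Nat.card ↥S ∣ Nat.card ↥M := Subgroup.card_dvd_of_le Subgroup.le_normalizer
      obtain ⟨c, hc⟩ := h7
      rw [hS7] at hc
      rw [hc] at hmi
      exact ⟨c, by linarith⟩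
    have hinj : Nat.card ↥M ≤ 168 := by
      have h := Nat.card_le_card_of_injective ((QuotientGroup.mk' N).comp M.subtype)
        ((injective_iff_map_eq_one _).2 fun a ha => Subtype.ext
          ((Subgroup.disjoint_def.1 hdis) ((QuotientGroup.eq_one_iff (a : P.Gb)).1 ha) a.2))
      rwa [Nat.card_congr f.toEquiv, card_psl_three] at h
    have hne8 : M.index ≠ 8 := by
      intro e
      rw [e] at hmi
      exact P.eight_nonsplit hcomm h2 h8 hcard M
        (Subgroup.isComplement'_of_card_mul_and_disjoint (by rw [h8, hcard]; omega) hdis)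
    have hmem : M.index ∈ Nat.divisors 192 := Nat.mem_divisors.2 ⟨hd, by norm_num⟩
    have hcases : ∀ d ∈ Nat.divisors 192, d % 7 = 1 → d = 1 ∨ d = 8 ∨ d = 64 := by decide
    rcases hcases _ hmem hidx with e | e | e
    · rw [e] at hmi; omega
    · exact absurd e hne8
    · rw [e] at hmi; omega
  -- the preimage is the normalizer
  set K := (P.Cx ⊓ Subgroup.normalizer (Subgroup.zpowers y : Set G)).subgroupOf P.Cx
  have hK : M.comap P.pr = K := by
    ext g
    rw [Subgroup.mem_comap, Subgroup.mem_subgroupOf, Subgroup.mem_inf]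
    constructor
    · intro hg
      refine ⟨g.2, Subgroup.mem_normalizer_iff.2 fun w => ?_⟩
      have key : ∀ g : ↥P.Cx, P.pr g ∈ M → (g : G) * y * (g : G)⁻¹ ∈ Subgroup.zpowers y := by
        intro g hg
        obtain ⟨k, hk⟩ := Subgroup.mem_zpowers_iff.1
          ((Subgroup.mem_normalizer_iff.1 hg yb).1 (Subgroup.mem_zpowers _))
        have e : P.pr (g * yc * g⁻¹) = P.pr (yc ^ k) := by rw [map_mul, map_mul, map_inv, map_zpow]; exact hk.symm
        obtain ⟨i, hi⟩ := Subgroup.mem_zpowers_iff.1 (P.pr_eq_iff.1 e.symm)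
        have e' : (g : G) * y * (g : G)⁻¹ = y ^ k * P.x ^ i := by
          rw [hi]
          show (g : G) * y * (g : G)⁻¹ = y ^ k * (((yc ^ k : ↥P.Cx) : G)⁻¹ * ((g : G) * y * (g : G)⁻¹))
          rw [Subgroup.coe_zpow, show ((yc : ↥P.Cx) : G) = y from rfl, mul_inv_cancel_left]
        have h7 := congrArg (· ^ 7) e'
        have hcm : Commute (y ^ k) (P.x ^ i) := ((P.mem_Cx.1 hy).zpow_left k).zpow_right i
        have hyk : (y ^ k) ^ 7 = 1 := by
          rw [← zpow_natCast, ← zpow_mul, mul_comm, zpow_mul, zpow_natCast, hy7, one_zpow]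
        simp only [conj_pow, hy7, mul_one, mul_inv_cancel, hcm.mul_pow, hyk, one_mul] at h7
        rw [e', hxpow i h7.symm, mul_one]
        exact Subgroup.zpow_mem _ (Subgroup.mem_zpowers _) k
      have hmap : ∀ g : ↥P.Cx, P.pr g ∈ M → ∀ w ∈ Subgroup.zpowers y,
          (g : G) * w * (g : G)⁻¹ ∈ Subgroup.zpowers y := by
        intro g hg w hw
        obtain ⟨k, rfl⟩ := Subgroup.mem_zpowers_iff.1 hw
        rw [← conj_zpow]
        exact Subgroup.zpow_mem _ (key g hg) k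
      refine ⟨hmap g hg w, fun h => ?_⟩
      have := hmap g⁻¹ (by rw [map_inv]; exact M.inv_mem hg) _ h
      rwa [Subgroup.coe_inv, inv_inv,
        show (g : G)⁻¹ * ((g : G) * w * (g : G)⁻¹) * (g : G) = w by group] at this
    · rintro ⟨-, hg⟩
      refine Subgroup.mem_normalizer_iff.2 fun w => ?_
      have hmap : ∀ g : ↥P.Cx, (g : G) ∈ Subgroup.normalizer (Subgroup.zpowers y : Set G) → ∀ w ∈ S,
          P.pr g * w * (P.pr g)⁻¹ ∈ S := by
        intro g hg w hw
        obtain ⟨k, rfl⟩ := Subgroup.mem_zpowers_iff.1 hw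
        obtain ⟨j, hj⟩ := Subgroup.mem_zpowers_iff.1
          ((Subgroup.mem_normalizer_iff.1 hg y).1 (Subgroup.mem_zpowers _))
        rw [← conj_zpow]
        refine S.zpow_mem ?_ k
        refine Subgroup.mem_zpowers_iff.2 ⟨j, ?_⟩
        rw [← map_zpow, ← map_inv, ← map_mul, ← map_mul]
        exact congrArg P.pr (Subtype.ext hj)
      refine ⟨hmap g hg w, fun h => ?_⟩
      have := hmap g⁻¹ (Subgroup.inv_mem _ hg) _ h
      rwa [map_inv, inv_inv,
        show (P.pr g)⁻¹ * (P.pr g * w * (P.pr g)⁻¹) * P.pr g = w by group] at this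
  have hKc : Nat.card ↥K = 105 := by
    have h := (M.comap P.pr).card_mul_index
    have h' := M.card_mul_index
    rw [Subgroup.index_comap_of_surjective M P.pr_surj, hK, hCx] at h
    rw [hM21, hcard] at h'
    have h64 : M.index = 64 := by omega
    rw [h64] at h
    omega
  rwa [Nat.card_congr (Subgroup.subgroupOfEquivOfLe inf_le_left).toEquiv] at hKc

/-- The centralizer in the centralizer of an element of order seven. -/
theorem card_cent_seven {y : G} (hy : y ∈ P.Cx) (hyo : orderOf y = 7)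
    (hn : Nat.card ↥(P.Cx ⊓ Subgroup.normalizer (Subgroup.zpowers y : Set G)) = 105) :
    Nat.card ↥(P.Cx ⊓ Subgroup.centralizer ({y} : Set G)) = 35 := by
  haveI : Fact (Nat.Prime 3) := ⟨Nat.prime_three⟩
  set C := P.Cx ⊓ Subgroup.centralizer ({y} : Set G)
  have hle : C ≤ P.Cx ⊓ Subgroup.normalizer (Subgroup.zpowers y : Set G) := fun c hc =>
    ⟨hc.1, Subgroup.centralizer_le_normalizer _ (Subgroup.mem_centralizer_iff.2 fun w hw => by
      obtain ⟨k, rfl⟩ := Subgroup.mem_zpowers_iff.1 hw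
      exact ((show Commute c y from Subgroup.mem_centralizer_singleton_iff.1 hc.2).zpow_right k).eq.symm)⟩
  have hd : Nat.card ↥C ∣ 105 := hn ▸ Subgroup.card_dvd_of_le hle
  have h5 : 5 ∣ Nat.card ↥C := P.ord ▸ Subgroup.orderOf_dvd_natCard C
    (⟨P.mem_Cx.2 (Commute.refl _), Subgroup.mem_centralizer_singleton_iff.2 (P.mem_Cx.1 hy).symm.eq⟩ : P.x ∈ C)
  have h7 : 7 ∣ Nat.card ↥C := hyo ▸ Subgroup.orderOf_dvd_natCard C
    (⟨hy, Subgroup.mem_centralizer_singleton_iff.2 rfl⟩ : y ∈ C)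
  have h35 : 35 ∣ Nat.card ↥C := (Nat.Coprime.mul_dvd_of_dvd_of_dvd (by norm_num) h5 h7 :)
  by_contra hne
  have h3 : 3 ∣ Nat.card ↥C := by
    obtain ⟨k, hk⟩ := h35
    rw [hk] at hd hne ⊢
    have : k ∣ 3 := by
      rw [show (105 : ℕ) = 35 * 3 by norm_num] at hd
      exact Nat.dvd_of_mul_dvd_mul_left (by norm_num) hd
    rcases (Nat.dvd_prime Nat.prime_three).1 this with e | e
    · exact absurd (by rw [e]) hne
    · exact e ▸ Dvd.intro_left 35 rfl
  obtain ⟨⟨t, ht⟩, hto⟩ := exists_prime_orderOf_dvd_card' (G := ↥C) 3 h3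
  rw [← Subgroup.orderOf_coe] at hto
  -- the Sylow subgroups of order three
  have hS : ∀ {w : G}, w ∈ P.Cx → orderOf w = 3 →
      ∃ R : Sylow 3 ↥P.Cx, (R : Subgroup ↥P.Cx).map P.Cx.subtype = Subgroup.zpowers w := by
    intro w hw hwo
    have hfac : (Nat.card ↥P.Cx).factorization 3 = 1 := by
      rw [P.card_Cx, Nat.factorization_def _ Nat.prime_three, show (6720 : ℕ) = 3 ^ 1 * 2240 by norm_num,
        padicValNat.mul (by norm_num) (by norm_num), padicValNat.prime_pow,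
        padicValNat.eq_zero_of_not_dvd (by norm_num)]
    refine ⟨Sylow.ofCard ((Subgroup.zpowers w).subgroupOf P.Cx) (by
      rw [Nat.card_congr (Subgroup.subgroupOfEquivOfLe (Subgroup.zpowers_le.2 hw)).toEquiv, Nat.card_zpowers,
        hwo, hfac, pow_one]), ?_⟩
    rw [Sylow.coe_ofCard, Subgroup.subgroupOf_map_subtype, inf_eq_left.2 (Subgroup.zpowers_le.2 hw)]
  obtain ⟨R, hR⟩ := hS (P.mem_Cx.2 P.xp.symm) F.p_ord
  obtain ⟨R', hR'⟩ := hS ht.1 hto
  obtain ⟨m, hm⟩ := MulAction.exists_smul_eq ↥P.Cx R R'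
  obtain ⟨w, hw, hwe⟩ := hR.symm ▸ Subgroup.mem_zpowers F.p
  have hwe' : (w : G) = F.p := hwe
  have h1 : m * w * m⁻¹ ∈ (m • R : Sylow 3 ↥P.Cx) := Subgroup.smul_mem_pointwise_smul _ _ _ hw
  rw [hm] at h1
  have h2 : (m : G) * F.p * (m : G)⁻¹ ∈ Subgroup.zpowers t := hR' ▸ ⟨_, h1, by
    show ((m * w * m⁻¹ : ↥P.Cx) : G) = _
    rw [Subgroup.coe_mul, Subgroup.coe_mul, Subgroup.coe_inv, hwe']⟩
  obtain ⟨k, hk⟩ := Subgroup.mem_zpowers_iff.1 h2
  have hty : Commute y t := (show Commute t y from Subgroup.mem_centralizer_singleton_iff.1 ht.2).symm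
  set y' := (m : G)⁻¹ * y * m with hy'
  have hy'o : orderOf y' = 7 := by
    rw [hy', show (m : G)⁻¹ * y * m = MulAut.conj (m : G)⁻¹ y by simp, MulEquiv.orderOf_eq, hyo]
  have hy'C : y' ∈ F.C ⊓ P.Cx := by
    have hp : Commute y' F.p := commute_conj.2 (hk ▸ hty.zpow_right k)
    exact ⟨F.mem_C.2 ⟨F.commute_z_of_commute_p P.res hp, hp⟩,
      P.Cx.mul_mem (P.Cx.mul_mem (P.Cx.inv_mem m.2) hy) m.2⟩
  have := Subgroup.orderOf_dvd_natCard _ hy'C
  rw [hy'o, P.card_CC] at this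
  exact absurd this (by norm_num)

/-- The normalizer of the element induces its whole automorphism group. -/
theorem normalizer_data {y : G} (hy : y ∈ P.Cx) (hyo : orderOf y = 7)
    (hn : Nat.card ↥(P.Cx ⊓ Subgroup.normalizer (Subgroup.zpowers y : Set G)) = 105) :
    Nat.card ↥(Subgroup.normalizer (Subgroup.zpowers P.x : Set G)) = 26880 ∧
    ∃ g : G, g * P.x * g⁻¹ = P.x ^ 2 ∧ g ∈ Subgroup.normalizer (Subgroup.zpowers y : Set G) ∧ g ^ 4 = 1 ∧
      ∃ R : Subgroup G, Subgroup.zpowers P.x ≤ R ∧ R ≤ Subgroup.normalizer (Subgroup.zpowers P.x : Set G) ∧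
        Nat.card ↥R = 20 ∧ R ⊓ P.Cx = Subgroup.zpowers P.x ∧ g ∈ R := by
  classical
  haveI : Fact (Nat.Prime 7) := ⟨by norm_num⟩
  haveI : Fact (Nat.Prime 2) := ⟨Nat.prime_two⟩
  set Q := Subgroup.zpowers P.x
  set NN := Subgroup.normalizer (Q : Set G)
  haveI : IsCyclic ↥Q := inferInstance
  have haut : Nat.card (MulAut ↥Q) = 4 := by
    rw [IsCyclic.card_mulAut, Nat.card_zpowers, P.ord]
    decide
  have hker : (Q.normalizerMonoidHom).ker = P.Cx.subgroupOf NN := by
    rw [Subgroup.normalizerMonoidHom_ker, P.centralizer_x]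
  set ψ := Q.normalizerMonoidHom
  obtain ⟨c, -, -, hcx⟩ := P.exists_c
  have hcN : c ∈ NN := by
    have hle : Q.map (MulAut.conj c).toMonoidHom ≤ Q := by
      rw [MonoidHom.map_zpowers]
      exact Subgroup.zpowers_le.2 (by
        show c * P.x * c⁻¹ ∈ Q
        rw [hcx]; exact Q.pow_mem (Subgroup.mem_zpowers _) 2)
    have he : Q.map (MulAut.conj c).toMonoidHom = Q := Subgroup.eq_of_le_of_card_ge hle
      (by rw [Subgroup.card_map_of_injective (MulAut.conj c).injective])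
    refine Subgroup.mem_normalizer_iff.2 fun w => ⟨fun hw => hle ⟨w, hw, rfl⟩, fun hw => ?_⟩
    rw [← he] at hw
    obtain ⟨w', hw', e⟩ := hw
    exact (mul_left_cancel (mul_right_cancel e) : w' = w) ▸ hw'
  have hord : orderOf (ψ ⟨c, hcN⟩) = 4 := by
    have hd : orderOf (ψ ⟨c, hcN⟩) ∣ 2 ^ 2 := by rw [show (2 : ℕ) ^ 2 = 4 by norm_num, ← haut]; exact orderOf_dvd_natCard _
    obtain ⟨j, hj, e⟩ := (Nat.dvd_prime_pow Nat.prime_two).1 hd
    rcases (show j = 2 ∨ j ≤ 1 by omega) with rfl | hj'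
    · exact e
    exfalso
    have h1 : ψ ⟨c * c, NN.mul_mem hcN hcN⟩ = 1 := by
      rw [show (⟨c * c, NN.mul_mem hcN hcN⟩ : ↥NN) = ⟨c, hcN⟩ ^ 2 from Subtype.ext (pow_two c).symm, map_pow]
      exact orderOf_dvd_iff_pow_eq_one.1 (e ▸ (pow_dvd_pow 2 hj').trans (by norm_num))
    have h2 : (⟨c * c, NN.mul_mem hcN hcN⟩ : ↥NN) ∈ ψ.ker := h1
    rw [hker, Subgroup.mem_subgroupOf] at h2
    have h3 : Commute (c * c) P.x := P.mem_Cx.1 h2
    have e2 : c * c * P.x * (c * c)⁻¹ = P.x ^ 4 := by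
      rw [show c * c * P.x * (c * c)⁻¹ = c * (c * P.x * c⁻¹) * c⁻¹ by group, hcx, ← conj_pow, hcx, ← pow_mul]
    rw [h3.eq, mul_inv_cancel_right] at e2
    have h4 : P.x ^ 3 = 1 := by
      have : P.x ^ 4 = P.x ^ 3 * P.x := pow_succ P.x 3
      rw [this] at e2
      exact right_eq_mul.1 e2
    have := orderOf_dvd_of_pow_eq_one h4
    rw [P.ord] at this
    omega
  have hsurj : Function.Surjective ψ := by
    rw [← MonoidHom.range_eq_top]
    refine Subgroup.eq_top_of_le_card _ ?_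
    rw [haut, ← hord, ← Nat.card_zpowers]
    exact Subgroup.card_le_of_le (Subgroup.zpowers_le.2 ⟨_, rfl⟩)
  have hCN : P.Cx ≤ NN := by
    rw [← P.centralizer_x]; exact Subgroup.centralizer_le_normalizer _
  refine ⟨?_, ?_⟩
  · have h := ψ.ker.index_mul_card
    rw [Subgroup.index_ker, MonoidHom.range_eq_top.2 hsurj, Subgroup.card_top, haut, hker,
      Nat.card_congr (Subgroup.subgroupOfEquivOfLe hCN).toEquiv, P.card_Cx] at h
    exact h.symm
  set Ny := Subgroup.normalizer (Subgroup.zpowers y : Set G)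
  set M := NN ⊓ Ny
  let θ : ↥M →* MulAut ↥Q := ψ.comp (Subgroup.inclusion inf_le_left)
  -- the Frattini argument
  have hθ : Function.Surjective θ := by
    intro a
    obtain ⟨⟨n, hnN⟩, rfl⟩ := hsurj a
    have hny : n * y * n⁻¹ ∈ P.Cx := by
      have hc : n * y * n⁻¹ ∈ Subgroup.centralizer (Q : Set G) := by
        refine Subgroup.mem_centralizer_iff.2 fun w hw => ?_
        have hw' : n⁻¹ * w * n ∈ Q := by
          have := (Subgroup.mem_normalizer_iff.1 (NN.inv_mem hnN) w).1 hw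
          rwa [inv_inv] at this
        obtain ⟨k, hk⟩ := Subgroup.mem_zpowers_iff.1 hw'
        have hcm : Commute y (n⁻¹ * w * n) := hk ▸ (P.mem_Cx.1 hy).zpow_right k
        have := (hcm.map (MulAut.conj n).toMonoidHom).symm.eq
        simp only [MulEquiv.coe_toMonoidHom, MulAut.conj_apply] at this
        rwa [show n * (n⁻¹ * w * n) * n⁻¹ = w by group] at this
      rwa [P.centralizer_x] at hc
    have hS : ∀ {w : G}, w ∈ P.Cx → orderOf w = 7 →
        ∃ R : Sylow 7 ↥P.Cx, (R : Subgroup ↥P.Cx).map P.Cx.subtype = Subgroup.zpowers w := by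
      intro w hw hwo
      have hfac : (Nat.card ↥P.Cx).factorization 7 = 1 := by
        rw [P.card_Cx, Nat.factorization_def _ (by norm_num), show (6720 : ℕ) = 7 ^ 1 * 960 by norm_num,
          padicValNat.mul (by norm_num) (by norm_num), padicValNat.prime_pow,
          padicValNat.eq_zero_of_not_dvd (by norm_num)]
      refine ⟨Sylow.ofCard ((Subgroup.zpowers w).subgroupOf P.Cx) (by
        rw [Nat.card_congr (Subgroup.subgroupOfEquivOfLe (Subgroup.zpowers_le.2 hw)).toEquiv, Nat.card_zpowers,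
          hwo, hfac, pow_one]), ?_⟩
      rw [Sylow.coe_ofCard, Subgroup.subgroupOf_map_subtype, inf_eq_left.2 (Subgroup.zpowers_le.2 hw)]
    have hno : orderOf (n * y * n⁻¹) = 7 := by rw [← MulAut.conj_apply, MulEquiv.orderOf_eq, hyo]
    obtain ⟨R, hR⟩ := hS hny hno
    obtain ⟨R', hR'⟩ := hS hy hyo
    obtain ⟨m, hm⟩ := MulAction.exists_smul_eq ↥P.Cx R R'
    obtain ⟨w, hw, hwe⟩ := hR.symm ▸ Subgroup.mem_zpowers (n * y * n⁻¹)
    have hwe' : (w : G) = n * y * n⁻¹ := hwe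
    have h1 : m * w * m⁻¹ ∈ (m • R : Sylow 7 ↥P.Cx) := Subgroup.smul_mem_pointwise_smul _ _ _ hw
    rw [hm] at h1
    have h2 : (m : G) * n * y * ((m : G) * n)⁻¹ ∈ Subgroup.zpowers y := hR' ▸ ⟨_, h1, by
      show ((m * w * m⁻¹ : ↥P.Cx) : G) = _
      rw [Subgroup.coe_mul, Subgroup.coe_mul, Subgroup.coe_inv, hwe']
      group⟩
    have hle : (Subgroup.zpowers y).map (MulAut.conj ((m : G) * n)).toMonoidHom ≤ Subgroup.zpowers y := by
      rw [MonoidHom.map_zpowers]; exact Subgroup.zpowers_le.2 h2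
    have he := Subgroup.eq_of_le_of_card_ge hle
      (by rw [Subgroup.card_map_of_injective (MulAut.conj _).injective])
    have hNy : (m : G) * n ∈ Ny := by
      refine Subgroup.mem_normalizer_iff.2 fun v => ⟨fun hv => hle ⟨v, hv, rfl⟩, fun hv => ?_⟩
      rw [← he] at hv
      obtain ⟨v', hv', e⟩ := hv
      exact (mul_left_cancel (mul_right_cancel e) : v' = v) ▸ hv'
    refine ⟨⟨(m : G) * n, NN.mul_mem (hCN m.2) hnN, hNy⟩, ?_⟩
    show ψ (⟨(m : G), hCN m.2⟩ * ⟨n, hnN⟩) = _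
    rw [map_mul, show ψ ⟨(m : G), hCN m.2⟩ = 1 from by
      rw [← MonoidHom.mem_ker, hker]; exact m.2, one_mul]
  have hθk : Nat.card ↥θ.ker = 105 := by
    rw [show θ.ker = (P.Cx ⊓ Ny).subgroupOf M by
      ext a
      rw [MonoidHom.mem_ker, Subgroup.mem_subgroupOf, Subgroup.mem_inf]
      show ψ (Subgroup.inclusion inf_le_left a) = 1 ↔ _
      rw [← MonoidHom.mem_ker, hker]
      exact ⟨fun h => ⟨h, a.2.2⟩, fun h => h.1⟩,
      Nat.card_congr (Subgroup.subgroupOfEquivOfLe (inf_le_inf_right Ny hCN)).toEquiv, hn]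
  have hMc : Nat.card ↥M = 420 := by
    have h := θ.ker.index_mul_card
    rw [Subgroup.index_ker, MonoidHom.range_eq_top.2 hθ, Subgroup.card_top, haut, hθk] at h
    omega
  obtain ⟨T⟩ := (inferInstance : Nonempty (Sylow 2 ↥M))
  have hT4 : Nat.card ↥(T : Subgroup ↥M) = 4 := by
    rw [T.card_eq_multiplicity, hMc, Nat.factorization_def _ Nat.prime_two,
      show (420 : ℕ) = 2 ^ 2 * 105 by norm_num, padicValNat.mul (by norm_num) (by norm_num),
      padicValNat.prime_pow, padicValNat.eq_zero_of_not_dvd (by norm_num)]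
    rfl
  have hinj : ∀ t ∈ (T : Subgroup ↥M), θ t = 1 → t = 1 := by
    intro t ht h
    have o1 := Subgroup.orderOf_dvd_natCard _ ht
    rw [hT4] at o1
    have o2 := Subgroup.orderOf_dvd_natCard _ (show t ∈ θ.ker from h)
    rw [hθk] at o2
    exact orderOf_eq_one_iff.1 (Nat.eq_one_of_dvd_coprimes (by norm_num) o1 o2)
  have hTsurj : ∀ a, ∃ t ∈ (T : Subgroup ↥M), θ t = a := by
    intro a
    have hinj' : Function.Injective (θ.comp (T : Subgroup ↥M).subtype) :=
      (injective_iff_map_eq_one _).2 fun t h => Subtype.ext (hinj t t.2 h)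
    obtain ⟨t, ht⟩ := ((Nat.bijective_iff_injective_and_card _).2 ⟨hinj', by rw [hT4, haut]⟩).2 a
    exact ⟨t, t.2, ht⟩
  obtain ⟨g, hgT, hgψ⟩ := hTsurj (ψ ⟨c, hcN⟩)
  have hgx : (g : G) * P.x * (g : G)⁻¹ = P.x ^ 2 := by
    have h := congrArg (fun φ : MulAut ↥Q => ((φ ⟨P.x, Subgroup.mem_zpowers _⟩ : ↥Q) : G)) hgψ
    exact h.trans hcx
  have hg4 : (g : G) ^ 4 = 1 := by
    have h := pow_card_eq_one' (x := (⟨g, hgT⟩ : ↥(T : Subgroup ↥M)))
    rw [hT4] at h
    exact congrArg (fun a : ↥(T : Subgroup ↥M) => ((a : ↥M) : G)) h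
  set R := Q ⊔ Subgroup.zpowers (g : G)
  have hRN : R ≤ NN := sup_le Subgroup.le_normalizer (Subgroup.zpowers_le.2 g.2.1)
  have hRC : R ⊓ P.Cx = Q := by
    refine le_antisymm ?_ (le_inf le_sup_left (Subgroup.zpowers_le.2 (P.mem_Cx.2 (Commute.refl _))))
    rintro r ⟨hr, hrC⟩
    have hr' : r ∈ (Q : Set G) * (Subgroup.zpowers (g : G) : Set G) := by
      rw [← Subgroup.coe_mul_of_right_le_normalizer_left Q (Subgroup.zpowers (g : G))
        (Subgroup.zpowers_le.2 g.2.1)]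
      exact hr
    obtain ⟨q, hq, t, ht, rfl⟩ := Set.mem_mul.1 hr'
    obtain ⟨k, hk⟩ := Subgroup.mem_zpowers_iff.1 ht
    have htC : t ∈ P.Cx := by
      have := P.Cx.mul_mem (P.Cx.inv_mem (Subgroup.zpowers_le.2 (P.mem_Cx.2 (Commute.refl _)) hq)) hrC
      rwa [inv_mul_cancel_left] at this
    have h1 : g ^ k = 1 := by
      refine hinj _ ((T : Subgroup ↥M).zpow_mem hgT k) ?_
      rw [← MonoidHom.mem_ker]
      show ψ (Subgroup.inclusion inf_le_left (g ^ k)) = 1
      rw [← MonoidHom.mem_ker, hker, Subgroup.mem_subgroupOf]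
      show ((g ^ k : ↥M) : G) ∈ P.Cx
      rw [Subgroup.coe_zpow, hk]
      exact htC
    rw [← hk, ← Subgroup.coe_zpow, h1, Subgroup.coe_one, mul_one]
    exact hq
  refine ⟨g, hgx, g.2.2, hg4, R, le_sup_left, ?_, ?_, ?_,
    Subgroup.mem_sup_right (Subgroup.mem_zpowers _)⟩
  · exact hRN
  · let χ : ↥R →* MulAut ↥Q := ψ.comp (Subgroup.inclusion hRN)
    have hr : χ.range = ⊤ := by
      refine Subgroup.eq_top_of_le_card _ ?_
      rw [haut, ← hord, ← Nat.card_zpowers]
      refine Subgroup.card_le_of_le (Subgroup.zpowers_le.2 ?_)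
      exact ⟨⟨g, Subgroup.mem_sup_right (Subgroup.mem_zpowers _)⟩, hgψ⟩
    have hk : χ.ker = (R ⊓ P.Cx).subgroupOf R := by
      ext a
      rw [MonoidHom.mem_ker, Subgroup.mem_subgroupOf, Subgroup.mem_inf]
      show ψ (Subgroup.inclusion hRN a) = 1 ↔ _
      rw [← MonoidHom.mem_ker, hker]
      exact ⟨fun h => ⟨a.2, h⟩, fun h => h.2⟩
    have h := χ.ker.index_mul_card
    rw [Subgroup.index_ker, hr, Subgroup.card_top, haut, hk,
      Nat.card_congr (Subgroup.subgroupOfEquivOfLe inf_le_left).toEquiv, hRC, Nat.card_zpowers, P.ord] at h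
    omega
  · exact hRC

end FivePt

/-- Every subgroup of order five of `C(z)` is generated by an element over the chosen one, after conjugating
the frame. -/
theorem exists_five_pt (F : Frame G A I) (D : LocalData A I) (hres : Cfsg.pResidual 2 G = ⊤) {Q : Subgroup G}
    (hQ : Nat.card ↥Q = 5) (hQz : Q ≤ F.H) :
    ∃ F' : Frame G A I, ∃ P : FivePt F' D, Subgroup.zpowers P.x = Q := by
  haveI : Fact (Nat.Prime 5) := ⟨by norm_num⟩
  obtain ⟨x, hx, hxi, hxo⟩ := F.exists_five_lift D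
  obtain ⟨⟨q, hq⟩, hqo⟩ := exists_prime_orderOf_dvd_card' (G := ↥Q) 5 (by rw [hQ])
  rw [← Subgroup.orderOf_coe] at hqo
  obtain ⟨h, hh, k, hk⟩ := F.exists_conj_zpowers prime_five.1 prime_five.2 F.H le_rfl (F.C_le_H hx) (hQz hq) hxo hqo
  obtain ⟨hxz, hxp⟩ := F.mem_C.1 hx
  refine ⟨F.conj h, ⟨h * x * h⁻¹, (F.conj h).mem_C.2
    ⟨hxz.map (MulAut.conj h).toMonoidHom, hxp.map (MulAut.conj h).toMonoidHom⟩, ?_, ?_, hres⟩, ?_⟩
  · show F.img (h⁻¹ * (h * x * h⁻¹) * h) = D.x
    rw [show h⁻¹ * (h * x * h⁻¹) * h = x by group, hxi]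
  · rw [← MulAut.conj_apply, MulEquiv.orderOf_eq, hxo]
  · show Subgroup.zpowers (h * x * h⁻¹) = Q
    refine Subgroup.eq_of_le_of_card_ge (Subgroup.zpowers_le.2 (hk ▸ Q.pow_mem hq k)) ?_
    rw [hQ, Nat.card_zpowers, ← MulAut.conj_apply, MulEquiv.orderOf_eq, hxo]

end Frame

end Cfsg.Lib.JankoFour
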