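import Cfsg.Agent.Lib.AltEightSyl.EndOne
import Cfsg.Agent.Lib.Core.Cores
import Cfsg.Agent.Lib.Linear.SLBasic
import Cfsg.Agent.Lib.PGroup.Basic
import Cfsg.Prelude.Def_Transfer
import Mathlib.GroupTheory.SpecificGroups.Cyclic

/-!
# Groups of order six, extraspecial 2-groups, centralizers in Sylow subgroups, `SL₃(2)`
-/

set_option autoImplicit false
set_option linter.style.haveILetI false
set_option linter.unusedSectionVars false

namespace Cfsg.Lib.JankoFour

open Cfsg

/-- A group of order six that is not commutative is `Sym(3)` and has trivial 2-core. -/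
theorem six_facts {H : Type*} [Group H] [Finite H] (h6 : Nat.card H = 6) {a b : H} (hab : ¬ Commute a b) :
    Nonempty (H ≃* Equiv.Perm (Fin 3)) ∧ ∀ M : Subgroup H, M.Normal → IsPGroup 2 ↥M → M = ⊥ := by
  haveI : Fact (Nat.Prime 2) := ⟨Nat.prime_two⟩
  haveI : Fact (Nat.Prime 3) := ⟨Nat.prime_three⟩
  have hcen : ∀ t ∈ Subgroup.center H, orderOf t = 2 → False := by
    intro t ht ht2
    haveI : IsCyclic (H ⧸ Subgroup.center H) := by
      refine isCyclic_of_card_dvd_prime (p := 3) ?_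
      have h := Subgroup.card_eq_card_quotient_mul_card_subgroup (Subgroup.center H)
      obtain ⟨k, hk⟩ : 2 ∣ Nat.card ↥(Subgroup.center H) := ht2 ▸ Subgroup.orderOf_dvd_natCard _ ht
      rw [h6, hk] at h
      exact ⟨k, Nat.eq_of_mul_eq_mul_left (by norm_num : 0 < 2) (by linarith)⟩
    exact hab (commutative_of_cyclic_center_quotient (QuotientGroup.mk' (Subgroup.center H))
      (QuotientGroup.ker_mk' _).le a b)
  obtain ⟨t, ht⟩ := exists_prime_orderOf_dvd_card' (G := H) 2 (h6 ▸ by norm_num)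
  refine ⟨Cfsg.Lib.AltEightSyl.equiv_perm_three h6 ht ?_, fun M hM hp => ?_⟩
  · by_contra hcon
    push Not at hcon
    exact hcen t (Subgroup.mem_center_iff.2 hcon) ht
  obtain ⟨n, hn⟩ := IsPGroup.iff_card.1 hp
  have hd := M.card_subgroup_dvd_card
  rw [h6, hn] at hd
  have h1 : n ≤ 1 := by
    by_contra hc
    exact absurd ((pow_dvd_pow 2 (show 2 ≤ n by omega)).trans hd) (by norm_num)
  rcases (show n = 0 ∨ n = 1 by omega) with rfl | rfl
  · exact Subgroup.eq_bot_of_card_eq M (by rw [hn, pow_zero])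
  exfalso
  haveI := hM
  obtain ⟨⟨m, hm⟩, hm1⟩ := exists_ne_one_of_card (show Nat.card ↥M ≠ 1 by rw [hn]; norm_num)
  have hm0 : m ≠ 1 := fun h => hm1 (Subtype.ext h)
  have hm2 : orderOf m = 2 := orderOf_eq_prime (by
    have h := pow_card_eq_one' (x := (⟨m, hm⟩ : ↥M))
    rw [hn, pow_one] at h
    exact congrArg Subtype.val h) hm0
  have hall : ∀ y ∈ M, y = 1 ∨ y = m := by
    intro y hy
    have e : Subgroup.zpowers m = M := Subgroup.eq_of_le_of_card_ge (Subgroup.zpowers_le.2 hm)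
      (by rw [Nat.card_zpowers, hm2, hn, pow_one])
    rw [← e] at hy
    obtain ⟨k, rfl⟩ := mem_powers_iff_mem_zpowers.2 hy
    show m ^ k = 1 ∨ m ^ k = m
    rw [← pow_mod_orderOf, hm2]
    rcases Nat.mod_two_eq_zero_or_one k with h | h <;> simp [h]
  refine hcen m (Subgroup.mem_center_iff.2 fun g => ?_) hm2
  rcases hall _ (hM.conj_mem m hm g) with h | h
  · exact absurd (conj_eq_one_iff.1 h) hm0
  · exact mul_inv_eq_iff_eq_mul.1 h
where
  exists_ne_one_of_card {K : Type _} [Group K] [Finite K] (h : Nat.card K ≠ 1) : ∃ k : K, k ≠ 1 := by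
    by_contra hcon
    push Not at hcon
    exact h (Nat.card_eq_one_iff_unique.2 ⟨⟨fun a b => (hcon a).trans (hcon b).symm⟩, ⟨1⟩⟩)

/-- A 2-group with all commutators and squares in a central subgroup of order two equal to its centre. -/
theorem isExtraspecial_two {T : Type*} [Group T] [Finite T] {n : ℕ} (hn : Nat.card T = 2 ^ n) {z : T}
    (hz : orderOf z = 2) (hcomm : ∀ a b : T, a * b * a⁻¹ * b⁻¹ = 1 ∨ a * b * a⁻¹ * b⁻¹ = z)
    (hsq : ∀ a : T, a * a = 1 ∨ a * a = z) (hcen : ∀ a, (∀ b, Commute a b) → a = 1 ∨ a = z)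
    (hzc : ∀ b, Commute z b) (hnc : ∃ a b : T, a * b * a⁻¹ * b⁻¹ = z) : Cfsg.IsExtraspecial 2 T := by
  haveI : Fact (Nat.Prime 2) := ⟨Nat.prime_two⟩
  have hT : IsPGroup 2 T := IsPGroup.of_card hn
  have hcenter : Subgroup.center T = Subgroup.zpowers z := by
    refine le_antisymm (fun a ha => ?_) (Subgroup.zpowers_le.2 (Subgroup.mem_center_iff.2 fun b => (hzc b).eq.symm))
    rcases hcen a (fun b => (Subgroup.mem_center_iff.1 ha b).symm) with rfl | rfl
    exacts [one_mem _, Subgroup.mem_zpowers _]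
  have hmem : ∀ {w : T}, w = 1 ∨ w = z → w ∈ Subgroup.center T := by
    rintro w (rfl | rfl)
    exacts [one_mem _, hcenter ▸ Subgroup.mem_zpowers _]
  have hcom : commutator T = Subgroup.center T := by
    refine le_antisymm ?_ ?_
    · rw [commutator_def, Subgroup.commutator_le]
      intro a _ b _
      rw [commutatorElement_def]
      exact hmem (hcomm a b)
    · obtain ⟨a, b, e⟩ := hnc
      rw [hcenter, Subgroup.zpowers_le, commutator_def, ← e, ← commutatorElement_def]
      exact Subgroup.commutator_mem_commutator (Subgroup.mem_top a) (Subgroup.mem_top b)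
  refine ⟨⟨hT, ?_, hcom⟩, by rw [hcenter, Nat.card_zpowers, hz]⟩
  rw [PGroup.frattini_eq_sup hT, hcom]
  refine sup_eq_left.2 ((Subgroup.closure_le _).2 ?_)
  rintro _ ⟨a, rfl⟩
  show a ^ 2 ∈ Subgroup.center T
  rw [pow_two]
  exact hmem (hsq a)

/-- If `q ^ 2` divides the order, so it does for the centralizer of every element of order `q`. -/
theorem sq_dvd_card_centralizer {K : Type*} [Group K] [Finite K] {q : ℕ} [hq : Fact q.Prime]
    (h : q ^ 2 ∣ Nat.card K) {a : K} (ha : orderOf a = q) :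
    q ^ 2 ∣ Nat.card ↥(Subgroup.centralizer ({a} : Set K)) := by
  obtain ⟨P, hP⟩ := (IsPGroup.of_card (n := 1) (by rw [Nat.card_zpowers, ha, pow_one]) :
    IsPGroup q ↥(Subgroup.zpowers a)).exists_le_sylow
  have haP : a ∈ (P : Subgroup K) := hP (Subgroup.mem_zpowers a)
  have hPq : q ^ 2 ∣ Nat.card ↥(P : Subgroup K) := by
    rw [P.card_eq_multiplicity]
    exact pow_dvd_pow q ((hq.out.pow_dvd_iff_le_factorization Nat.card_pos.ne').1 h)
  set C := (P : Subgroup K) ⊓ Subgroup.centralizer ({a} : Set K)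
  refine dvd_trans ?_ (Subgroup.card_dvd_of_le (inf_le_right : C ≤ _))
  obtain ⟨m, hm⟩ := IsPGroup.iff_card.1 (P.isPGroup'.to_le (inf_le_left : C ≤ (P : Subgroup K)))
  rw [hm]
  refine pow_dvd_pow q ?_
  by_contra hlt
  have haC : a ∈ C := ⟨haP, Subgroup.mem_centralizer_singleton_iff.2 rfl⟩
  have hCa : Subgroup.zpowers a = C := by
    refine Subgroup.eq_of_le_of_card_ge (Subgroup.zpowers_le.2 haC) ?_
    rw [Nat.card_zpowers, ha, hm]
    calc q ^ m ≤ q ^ 1 := Nat.pow_le_pow_right hq.out.pos (by omega)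
      _ = q := pow_one q
  haveI : Nontrivial ↥(P : Subgroup K) := by
    refine Finite.one_lt_card_iff_nontrivial.1 (lt_of_lt_of_le ?_ (Nat.le_of_dvd Nat.card_pos hPq))
    exact Nat.one_lt_pow (by norm_num) hq.out.one_lt
  haveI := P.isPGroup'.center_nontrivial
  obtain ⟨c, hc1⟩ := exists_ne (1 : ↥(Subgroup.center ↥(P : Subgroup K)))
  have hcC : ((c : ↥(P : Subgroup K)) : K) ∈ C := ⟨(c : ↥(P : Subgroup K)).2,
    Subgroup.mem_centralizer_singleton_iff.2 (congrArg Subtype.val (Subgroup.mem_center_iff.1 c.2 ⟨a, haP⟩)).symm⟩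
  rw [← hCa] at hcC
  have hcz : Subgroup.zpowers ((c : ↥(P : Subgroup K)) : K) = Subgroup.zpowers a := by
    refine Subgroup.eq_of_le_of_card_ge (Subgroup.zpowers_le.2 hcC) ?_
    rw [Nat.card_zpowers, Nat.card_zpowers, ha]
    have hd := Subgroup.orderOf_dvd_natCard _ hcC
    rw [Nat.card_zpowers, ha] at hd
    rcases (Nat.dvd_prime hq.out).1 hd with e | e
    · exact absurd (Subtype.ext (Subtype.ext (orderOf_eq_one_iff.1 e))) hc1
    · omega
  have hPC : (P : Subgroup K) ≤ C := fun u hu => ⟨hu, Subgroup.mem_centralizer_singleton_iff.2 (by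
    obtain ⟨k, hk⟩ := Subgroup.mem_zpowers_iff.1 (hcz.symm ▸ Subgroup.mem_zpowers a :
      a ∈ Subgroup.zpowers ((c : ↥(P : Subgroup K)) : K))
    have hcu : Commute u ((c : ↥(P : Subgroup K)) : K) :=
      congrArg Subtype.val (Subgroup.mem_center_iff.1 c.2 ⟨u, hu⟩)
    rw [← hk]
    exact (hcu.zpow_right k).eq)⟩
  have := Nat.le_of_dvd Nat.card_pos (hPq.trans (Subgroup.card_dvd_of_le hPC))
  rw [hm] at this
  have h2 := (Nat.pow_le_pow_iff_right hq.out.one_lt).1 this
  omega

theorem card_sl_three : Nat.card (Matrix.SpecialLinearGroup (Fin 3) (ZMod 2)) = 168 := by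
  rw [Nat.card_eq_fintype_card]
  decide +kernel

/-- `PSL₃(2)` is `SL₃(2)`. -/
theorem psl_three_equiv : Nonempty (Matrix.ProjectiveSpecialLinearGroup (Fin 3) (ZMod 2) ≃*
    Matrix.SpecialLinearGroup (Fin 3) (ZMod 2)) := by
  haveI : Fact (Nat.Prime 2) := ⟨Nat.prime_two⟩
  have hc : Subgroup.center (Matrix.SpecialLinearGroup (Fin 3) (ZMod 2)) = ⊥ := Subgroup.eq_bot_of_card_eq _ (by
    rw [Linear.card_center_SL, Fintype.card_fin, ZMod.card]; rfl)
  exact ⟨(QuotientGroup.quotientMulEquivOfEq hc).trans QuotientGroup.quotientBot⟩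

theorem card_psl_three : Nat.card (Matrix.ProjectiveSpecialLinearGroup (Fin 3) (ZMod 2)) = 168 := by
  obtain ⟨e⟩ := psl_three_equiv
  rw [Nat.card_congr e.toEquiv, card_sl_three]

end Cfsg.Lib.JankoFour
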