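import Cfsg.Agent.S0112
import Cfsg.Agent.S0113
import Cfsg.Agent.S3331
import Cfsg.Agent.S4231
import Cfsg.Agent.Lib.Kondo.Transfer
import Cfsg.Agent.Lib.Core.Cores
import Cfsg.Agent.Lib.JankoFourLocal.Group

/-!
# A recognition of the symmetric group of degree five from four centralizers
-/

set_option autoImplicit false
set_option linter.style.haveILetI false
set_option linter.unusedSectionVars false

namespace Cfsg.Lib.JankoFour

open Cfsg

variable {W : Type*} [Group W] [Finite W]

/-- An almost simple group over the alternating group of degree five with index two. -/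
theorem perm_five_of_index_two (E : Subgroup W) [E.Normal] (e : E ≃* alternatingGroup (Fin 5))
    (hC : Subgroup.centralizer (E : Set W) = ⊥) (hidx : E.index = 2) : Nonempty (W ≃* Equiv.Perm (Fin 5)) := by
  let α : W →* MulAut (alternatingGroup (Fin 5)) :=
    (MulAut.congr e).toMonoidHom.comp MulAut.conjNormal
  have hα : Function.Injective α := by
    rw [← MonoidHom.ker_eq_bot_iff, eq_bot_iff]
    intro x hx
    rw [← hC, Subgroup.mem_centralizer_iff]
    intro y hy
    have h := DFunLike.congr_fun (MonoidHom.mem_ker.1 hx) (e ⟨y, hy⟩)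
    have h0 : α x (e ⟨y, hy⟩) = e (MulAut.conjNormal x (e.symm (e ⟨y, hy⟩))) := rfl
    rw [h0, e.symm_apply_apply, MulAut.one_apply, e.apply_eq_iff_eq] at h
    have h' := congrArg Subtype.val h
    rw [MulAut.conjNormal_apply] at h'
    exact (mul_inv_eq_iff_eq_mul.1 h').symm
  let β : Equiv.Perm (Fin 5) ≃* MulAut (alternatingGroup (Fin 5)) :=
    MulEquiv.ofBijective (MulAut.conjNormal : Equiv.Perm (Fin 5) →* MulAut (alternatingGroup (Fin 5)))
      ⟨Cfsg.Agent.S4231.conj_inj 5 (by norm_num),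
        fun φ => Cfsg.Agent.S4231.mem_range 5 le_rfl φ (Or.inl (by norm_num))⟩
  let γ : W →* Equiv.Perm (Fin 5) := β.symm.toMonoidHom.comp α
  have hγ : Function.Injective γ := β.symm.injective.comp hα
  refine ⟨MulEquiv.ofBijective γ ((Nat.bijective_iff_injective_and_card γ).2 ⟨hγ, ?_⟩)⟩
  rw [← Subgroup.card_mul_index E, hidx, Nat.card_congr e.toEquiv, nat_card_alternatingGroup, Nat.card_perm,
    Nat.card_fin]
  norm_num [Nat.factorial]

/-- A cyclic Sylow 2-subgroup has a normal complement of odd order. -/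
theorem exists_odd_normal (T : Sylow 2 W) (hT : Nat.card ↥(T : Subgroup W) = 4) {t : W} (ht : orderOf t = 4) :
    ∃ M : Subgroup W, M.Normal ∧ Odd (Nat.card ↥M) ∧ ∀ e : W, Odd (orderOf e) → e ∈ M := by
  haveI : Fact (Nat.Prime 2) := ⟨Nat.prime_two⟩
  obtain ⟨T', hT'⟩ := (IsPGroup.of_card (n := 2) (by rw [Nat.card_zpowers, ht]; norm_num) :
    IsPGroup 2 ↥(Subgroup.zpowers t)).exists_le_sylow
  have hcy : IsCyclic ↥(T' : Subgroup W) := by
    have hc : Nat.card ↥(T' : Subgroup W) = 4 := by rw [Sylow.card_eq_multiplicity, ← hT, Sylow.card_eq_multiplicity]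
    have e : Subgroup.zpowers t = (T' : Subgroup W) := Subgroup.eq_of_le_of_card_ge hT' (by
      rw [hc, Nat.card_zpowers, ht])
    rw [← e]; infer_instance
  have hmin : (Nat.card W).minFac = 2 := by
    refine Nat.minFac_eq_two_iff _ |>.2 ?_
    exact (show 2 ∣ 4 by norm_num).trans (ht ▸ orderOf_dvd_natCard t)
  have hM := IsCyclic.isComplement' hmin (P := T') hcy
  set M := (MonoidHom.transferSylow T' (hcy.normalizer_le_centralizer hmin)).ker
  refine ⟨M, inferInstance, ?_, fun e he => ?_⟩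
  · have hidx := hM.index_eq_card
    have hodd : ¬ 2 ∣ (T' : Subgroup W).index := T'.not_dvd_index
    rw [hidx] at hodd
    exact Nat.not_even_iff_odd.1 fun hh => hodd hh.two_dvd
  · rw [MonoidHom.mem_ker]
    have h1 := orderOf_map_dvd (MonoidHom.transferSylow T' (hcy.normalizer_le_centralizer hmin)) e
    have h2 := orderOf_dvd_natCard (MonoidHom.transferSylow T' (hcy.normalizer_le_centralizer hmin) e)
    obtain ⟨n, hn⟩ := IsPGroup.iff_card.1 T'.isPGroup'
    rw [hn] at h2
    exact orderOf_eq_one_iff.1 (Nat.eq_one_of_dvd_coprimes ((Nat.coprime_two_right.2 he).pow_right n) h1 h2)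

/-- Transfer: an involution outside a cyclic subgroup of index two of a larger Sylow 2-subgroup. -/
theorem exists_index_two {z : W} (hz : orderOf z = 2) (hCz : Nat.card ↥(Subgroup.centralizer ({z} : Set W)) = 12)
    (T : Sylow 2 W) (hzT : z ∈ (T : Subgroup W)) (hT8 : 8 ≤ Nat.card ↥(T : Subgroup W))
    (hA : Nat.card ↥((T : Subgroup W) ⊓ Subgroup.centralizer ({z} : Set W)) = 4) :
    ∃ M : Subgroup W, M.Normal ∧ M.index = 2 ∧ z ∉ M ∧ ∀ e : W, Odd (orderOf e) → e ∈ M := by
  classical
  haveI : Fact (Nat.Prime 2) := ⟨Nat.prime_two⟩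
  obtain ⟨n, hn⟩ := IsPGroup.iff_card.1 T.isPGroup'
  have hn3 : 3 ≤ n := by
    by_contra hc
    have := Nat.pow_le_pow_right (show 0 < 2 by norm_num) (show n ≤ 2 by omega)
    omega
  have hz2 : z * z = 1 := by rw [← pow_two, ← hz, pow_orderOf_eq_one]
  set A := ((T : Subgroup W) ⊓ Subgroup.centralizer ({z} : Set W)).subgroupOf (T : Subgroup W)
  have hA4 : Nat.card ↥A = 2 ^ 2 := by
    rw [Nat.card_congr (Subgroup.subgroupOfEquivOfLe inf_le_left).toEquiv, hA]; norm_num
  have hAC : Subgroup.centralizer (A : Set ↥(T : Subgroup W)) = A := by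
    refine le_antisymm (fun a ha => ?_) ?_
    · refine Subgroup.mem_subgroupOf.2 ⟨a.2, Subgroup.mem_centralizer_singleton_iff.2 ?_⟩
      have hm : (⟨z, hzT⟩ : ↥(T : Subgroup W)) ∈ A :=
        Subgroup.mem_subgroupOf.2 ⟨hzT, Subgroup.mem_centralizer_singleton_iff.2 rfl⟩
      exact (congrArg Subtype.val (Subgroup.mem_centralizer_iff.1 ha _ hm)).symm
    · haveI := IsPGroup.isMulCommutative_of_card_eq_prime_sq hA4
      intro a ha
      exact Subgroup.mem_centralizer_iff.2 fun b hb =>
        congrArg Subtype.val (mul_comm' (⟨b, hb⟩ : ↥A) ⟨a, ha⟩)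
  have hcl := Agent.S0112.result (p := 2) n hn A hA4 hAC
  obtain ⟨R, hRc, hR2⟩ := Agent.S0113.result n hn3 hn hcl
  haveI : R.Normal := Subgroup.normal_of_index_eq_two hR2
  have hinv : ∀ {a b : ↥(T : Subgroup W)}, a ∈ R → b ∈ R → orderOf a = 2 → orderOf b = 2 → a = b := by
    intro a b ha hb ha2 hb2
    by_contra hne
    haveI := hRc
    have h3 : 3 ≤ Nat.card {u : ↥R // u ^ 2 = 1} := by
      have hs : ({1, ⟨a, ha⟩, ⟨b, hb⟩} : Finset ↥R).card = 3 := by
        have n1 : (⟨a, ha⟩ : ↥R) ≠ 1 := fun h => by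
          have : a = 1 := congrArg Subtype.val h
          rw [this, orderOf_one] at ha2; omega
        have n2 : (⟨b, hb⟩ : ↥R) ≠ 1 := fun h => by
          have : b = 1 := congrArg Subtype.val h
          rw [this, orderOf_one] at hb2; omega
        have n3 : (⟨a, ha⟩ : ↥R) ≠ ⟨b, hb⟩ := fun h => hne (congrArg Subtype.val h)
        rw [Finset.card_insert_of_notMem (by simp [n1.symm, n2.symm]), Finset.card_pair n3]
      haveI : Fintype ↥R := Fintype.ofFinite _
      rw [Nat.card_eq_fintype_card, Fintype.card_subtype]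
      rw [← hs]
      refine Finset.card_le_card fun u hu => ?_
      rw [Finset.mem_filter]
      refine ⟨Finset.mem_univ _, ?_⟩
      simp only [Finset.mem_insert, Finset.mem_singleton] at hu
      rcases hu with rfl | rfl | rfl
      · exact one_pow 2
      · exact Subtype.ext (orderOf_dvd_iff_pow_eq_one.1 (dvd_of_eq ha2))
      · exact Subtype.ext (orderOf_dvd_iff_pow_eq_one.1 (dvd_of_eq hb2))
    haveI : Fintype ↥R := Fintype.ofFinite _
    have h2 := IsCyclic.card_pow_eq_one_le (α := ↥R) (n := 2) (by norm_num)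
    rw [Nat.card_eq_fintype_card, Fintype.card_subtype] at h3
    omega
  -- involutions of the cyclic subgroup are central
  have hcent : ∀ a ∈ R, orderOf a = 2 → ∀ b, Commute a b := fun a ha ha2 b => by
    have h := hinv (‹R.Normal›.conj_mem a ha b) ha (by rw [← MulAut.conj_apply, MulEquiv.orderOf_eq, ha2]) ha2
    exact (mul_inv_eq_iff_eq_mul.1 h).symm
  have hzR : (⟨z, hzT⟩ : ↥(T : Subgroup W)) ∉ R := by
    intro h
    have hle : (T : Subgroup W) ≤ (T : Subgroup W) ⊓ Subgroup.centralizer ({z} : Set W) := fun b hb =>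
      ⟨hb, Subgroup.mem_centralizer_singleton_iff.2 (congrArg Subtype.val
        (hcent _ h (by rw [← Subgroup.orderOf_coe]; exact hz) ⟨b, hb⟩).symm.eq)⟩
    have := Subgroup.card_le_of_le hle
    omega
  -- no conjugate of the involution lies in it
  have hnot : ∀ g : W, ∀ h : g⁻¹ * z * g ∈ (T : Subgroup W), (⟨g⁻¹ * z * g, h⟩ : ↥(T : Subgroup W)) ∉ R := by
    intro g h hR
    have ho : orderOf (⟨g⁻¹ * z * g, h⟩ : ↥(T : Subgroup W)) = 2 := by
      rw [← Subgroup.orderOf_coe]
      show orderOf (g⁻¹ * z * g) = 2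
      rw [show g⁻¹ * z * g = MulAut.conj g⁻¹ z by simp, MulEquiv.orderOf_eq, hz]
    have hle : (T : Subgroup W).map (MulAut.conj g).toMonoidHom ≤ Subgroup.centralizer ({z} : Set W) := by
      rintro _ ⟨b, hb, rfl⟩
      refine Subgroup.mem_centralizer_singleton_iff.2 ?_
      have hc : Commute (g⁻¹ * z * g) b := congrArg Subtype.val (hcent _ hR ho ⟨b, hb⟩).eq
      have h' : (MulAut.conj g (g⁻¹ * z * g)) * MulAut.conj g b = MulAut.conj g b * MulAut.conj g (g⁻¹ * z * g) :=
        (hc.map (MulAut.conj g).toMonoidHom).eq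
      rw [MulAut.conj_apply g (g⁻¹ * z * g), show g * (g⁻¹ * z * g) * g⁻¹ = z by group] at h'
      exact h'.symm
    have hd := Subgroup.card_dvd_of_le hle
    rw [Subgroup.card_map_of_injective (MulAut.conj g).injective, hn, hCz] at hd
    exact absurd ((pow_dvd_pow 2 hn3).trans hd) (by norm_num)
  let φ : ↥(T : Subgroup W) →* ℤˣ :=
    MonoidHom.mk' (fun a => if a ∈ R then 1 else -1) fun a b => by
      show (if a * b ∈ R then (1 : ℤˣ) else -1) = _
      rw [Subgroup.mul_mem_iff_of_index_two hR2]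
      by_cases ha : a ∈ R <;> by_cases hb : b ∈ R <;> simp [ha, hb]
  haveI : Fintype (W ⧸ (T : Subgroup W)) := Fintype.ofFinite _
  have htr : MonoidHom.transfer φ z = -1 := by
    rw [Cfsg.Agent.Kondo.transfer_involution φ z hz2 (fun _ => -1) fun c hc hm => ?_]
    · rw [Finset.prod_const]
      refine Odd.neg_one_pow ?_
      set σ : Equiv.Perm (W ⧸ (T : Subgroup W)) := MulAction.toPerm z
      have hσ : σ ^ 2 ^ 1 = 1 := Equiv.ext fun c => by
        rw [pow_one, pow_two, Equiv.Perm.mul_apply]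
        show z • z • c = c
        rw [smul_smul, hz2, one_smul]
      have h := Equiv.Perm.card_compl_support_modEq (p := 2) (n := 1) hσ
      have e : σ.supportᶜ = Finset.univ.filter fun c : W ⧸ (T : Subgroup W) => z • c = c := by
        ext c
        rw [Finset.mem_compl, Equiv.Perm.notMem_support, Finset.mem_filter]
        exact ⟨fun h => ⟨Finset.mem_univ _, h⟩, fun h => h.2⟩
      rw [e, ← Nat.card_eq_fintype_card] at h
      have hodd : ¬ 2 ∣ Nat.card (W ⧸ (T : Subgroup W)) := T.not_dvd_index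
      rw [Nat.odd_iff]
      unfold Nat.ModEq at h
      omega
    · show (-1 : ℤˣ) = if (⟨c.out⁻¹ * z * c.out, hm⟩ : ↥(T : Subgroup W)) ∈ R then 1 else -1
      rw [if_neg (hnot c.out hm)]
  refine ⟨(MonoidHom.transfer φ).ker, inferInstance, ?_, ?_, fun e he => ?_⟩
  · rw [Subgroup.index_ker]
    have hs : Function.Surjective (MonoidHom.transfer φ) := fun u => by
      rcases Int.units_eq_one_or u with rfl | rfl
      exacts [⟨1, map_one _⟩, ⟨z, htr⟩]
    rw [MonoidHom.range_eq_top.2 hs, Subgroup.card_top, Nat.card_eq_fintype_card]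
    rfl
  · rw [MonoidHom.mem_ker, htr]
    decide
  · rw [MonoidHom.mem_ker]
    rcases Int.units_eq_one_or (MonoidHom.transfer φ e) with h | h
    · exact h
    · have := orderOf_map_dvd (MonoidHom.transfer φ) e
      rw [h, orderOf_units.symm] at this
      exfalso
      have h2 : orderOf ((-1 : ℤˣ) : ℤ) = 2 := by
        rw [orderOf_units]
        exact orderOf_eq_prime (by decide) (by decide)
      rw [h2] at this
      obtain ⟨k, hk⟩ := he
      omega

theorem card_psl_two_seven : Nat.card (Matrix.ProjectiveSpecialLinearGroup (Fin 2) (ZMod 7)) = 168 := by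
  haveI : Fact (Nat.Prime 7) := ⟨by norm_num⟩
  have h := Linear.card_SL_eq_gcd_mul_card_PSL (ι := Fin 2) (F := ZMod 7)
  rw [ZMod.card, Fintype.card_fin] at h
  have h3 := Linear.card_GL_eq_mul_card_SL (ι := Fin 2) (F := ZMod 7)
  rw [Matrix.card_GL_field, ZMod.card] at h3
  norm_num [Fin.prod_univ_two] at h h3
  rw [Nat.card_eq_fintype_card] at *
  omega

/-- The recognition. -/
theorem perm_five_of_centralizers {z p x t : W} (hz : orderOf z = 2) (hp : orderOf p = 3) (hx : orderOf x = 5)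
    (ht : orderOf t = 4) (hzp : Commute z p)
    (hCz : Nat.card ↥(Subgroup.centralizer ({z} : Set W)) = 12)
    (hCp : Nat.card ↥(Subgroup.centralizer ({p} : Set W)) = 6)
    (hCx : Nat.card ↥(Subgroup.centralizer ({x} : Set W)) = 5) :
    Nonempty (W ≃* Equiv.Perm (Fin 5)) := by
  classical
  haveI : Fact (Nat.Prime 2) := ⟨Nat.prime_two⟩
  have hz2 : z * z = 1 := by rw [← pow_two, ← hz, pow_orderOf_eq_one]
  have hp3 : p ^ 3 = 1 := hp ▸ pow_orderOf_eq_one p
  have hx5 : x ^ 5 = 1 := hx ▸ pow_orderOf_eq_one x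
  set Cz := Subgroup.centralizer ({z} : Set W)
  -- a Sylow subgroup of the centralizer of the involution
  obtain ⟨A⟩ := (inferInstance : Nonempty (Sylow 2 ↥Cz))
  have hA : Nat.card ↥(A : Subgroup ↥Cz) = 4 := by
    rw [A.card_eq_multiplicity, hCz, Nat.factorization_def _ Nat.prime_two, show (12 : ℕ) = 2 ^ 2 * 3 by norm_num,
      padicValNat.mul (by norm_num) (by norm_num), padicValNat.prime_pow,
      padicValNat.eq_zero_of_not_dvd (by norm_num)]
    rfl
  have hzC : z ∈ Cz := Subgroup.mem_centralizer_singleton_iff.2 rfl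
  have hzA : (⟨z, hzC⟩ : ↥Cz) ∈ (A : Subgroup ↥Cz) := by
    haveI : (Subgroup.zpowers (⟨z, hzC⟩ : ↥Cz)).Normal := ⟨fun w hw g => by
      obtain ⟨k, rfl⟩ := Subgroup.mem_zpowers_iff.1 hw
      have hc : Commute g (⟨z, hzC⟩ : ↥Cz) := Subtype.ext (Subgroup.mem_centralizer_singleton_iff.1 g.2)
      rw [(hc.zpow_right k).eq, mul_inv_cancel_right]
      exact Subgroup.zpow_mem _ (Subgroup.mem_zpowers _) k⟩
    exact (Core.le_pCore (IsPGroup.of_card (n := 1) (by rw [Nat.card_zpowers, ← Subgroup.orderOf_coe, hz]; rfl) :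
      IsPGroup 2 ↥(Subgroup.zpowers (⟨z, hzC⟩ : ↥Cz)))).trans (Core.pCore_le_sylow A) (Subgroup.mem_zpowers _)
  obtain ⟨T, hAT⟩ := (A.isPGroup'.map Cz.subtype).exists_le_sylow
  have hzT : z ∈ (T : Subgroup W) := hAT ⟨_, hzA, rfl⟩
  have hTA : Nat.card ↥((T : Subgroup W) ⊓ Cz) = 4 := by
    have h1 := Subgroup.card_dvd_of_le (inf_le_right : (T : Subgroup W) ⊓ Cz ≤ Cz)
    have h2 := Subgroup.card_dvd_of_le (le_inf hAT (Subgroup.map_subtype_le _) :
      (A : Subgroup ↥Cz).map Cz.subtype ≤ (T : Subgroup W) ⊓ Cz)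
    rw [Subgroup.card_map_of_injective Cz.subtype_injective, hA] at h2
    obtain ⟨m, hm⟩ := IsPGroup.iff_card.1 (T.isPGroup'.to_le (inf_le_left : (T : Subgroup W) ⊓ Cz ≤ T))
    rw [hCz, hm] at h1
    rw [hm] at h2 ⊢
    have hm2 : m ≤ 2 := by
      by_contra hc
      exact absurd ((pow_dvd_pow 2 (show 3 ≤ m by omega)).trans h1) (by norm_num)
    interval_cases m <;> omega
  -- a normal subgroup avoiding the involution and containing the odd elements
  obtain ⟨M, hMn, hzM, hMor, hodd⟩ : ∃ M : Subgroup W, M.Normal ∧ z ∉ M ∧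
      (M.index = 2 ∨ Odd (Nat.card ↥M)) ∧ ∀ e : W, Odd (orderOf e) → e ∈ M := by
    by_cases hT : Nat.card ↥(T : Subgroup W) = 4
    · obtain ⟨M, h1, h2, h3⟩ := exists_odd_normal T hT ht
      refine ⟨M, h1, fun h => ?_, Or.inr h2, h3⟩
      have := Subgroup.orderOf_dvd_natCard _ h
      rw [hz] at this
      exact Nat.not_even_iff_odd.2 h2 (even_iff_two_dvd.2 this)
    · have h8 : 8 ≤ Nat.card ↥(T : Subgroup W) := by
        obtain ⟨n, hn⟩ := IsPGroup.iff_card.1 T.isPGroup'
        have h4 : 4 ∣ Nat.card ↥(T : Subgroup W) := hTA ▸ Subgroup.card_dvd_of_le inf_le_left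
        rw [hn] at hT h4 ⊢
        have : 3 ≤ n := by
          by_contra hc
          interval_cases n <;> revert hT h4 <;> norm_num
        exact le_trans (by norm_num) (Nat.pow_le_pow_right (show 0 < 2 by norm_num) this)
      obtain ⟨M, h1, h2, h3, h4⟩ := exists_index_two hz hCz T hzT h8 hTA
      exact ⟨M, h1, h3, Or.inl h2, h4⟩
  have hpM : p ∈ M := hodd p (by rw [hp]; decide)
  have hxM : x ∈ M := hodd x (by rw [hx]; decide)
  -- the centralizer of the element of order three in the normal subgroup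
  set Cp := Subgroup.centralizer ({p} : Set W)
  have hpp : Subgroup.zpowers p ≤ M ⊓ Cp :=
    Subgroup.zpowers_le.2 ⟨hpM, Subgroup.mem_centralizer_singleton_iff.2 rfl⟩
  have hMp : M ⊓ Cp = Subgroup.zpowers p := by
    have hd := Subgroup.card_dvd_of_le (inf_le_right : M ⊓ Cp ≤ Cp)
    have h3 := Subgroup.card_dvd_of_le hpp
    rw [hCp] at hd
    rw [Nat.card_zpowers, hp] at h3
    have hne : Nat.card ↥(M ⊓ Cp) ≠ 6 := fun e => hzM
      ((Subgroup.eq_of_le_of_card_ge (inf_le_right : M ⊓ Cp ≤ Cp) (by rw [e, hCp])).ge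
        (Subgroup.mem_centralizer_singleton_iff.2 hzp.eq)).1
    refine (Subgroup.eq_of_le_of_card_ge hpp ?_).symm
    rw [Nat.card_zpowers, hp]
    have := Nat.le_of_dvd (by norm_num) hd
    interval_cases h : Nat.card ↥(M ⊓ Cp) <;> omega
  set pm : ↥M := ⟨p, hpM⟩
  set X := Subgroup.zpowers pm
  have hX : Nat.card ↥X = 3 := by rw [Nat.card_zpowers, ← Subgroup.orderOf_coe]; exact hp
  have hXC : Subgroup.centralizer (X : Set ↥M) = X := by
    refine le_antisymm (fun a ha => ?_) fun a ha => ?_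
    · have hc : (a : W) ∈ M ⊓ Cp := ⟨a.2, Subgroup.mem_centralizer_singleton_iff.2
        (congrArg Subtype.val (Subgroup.mem_centralizer_iff.1 ha pm (Subgroup.mem_zpowers _))).symm⟩
      rw [hMp] at hc
      obtain ⟨k, hk⟩ := Subgroup.mem_zpowers_iff.1 hc
      exact Subgroup.mem_zpowers_iff.2 ⟨k, Subtype.ext (by rw [Subgroup.coe_zpow]; exact hk)⟩
    · refine Subgroup.mem_centralizer_iff.2 fun b hb => ?_
      obtain ⟨i, rfl⟩ := Subgroup.mem_zpowers_iff.1 ha
      obtain ⟨j, rfl⟩ := Subgroup.mem_zpowers_iff.1 hb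
      exact ((Commute.refl pm).zpow_zpow j i).eq
  set xm : ↥M := ⟨x, hxM⟩
  have hxo : orderOf xm = 5 := by rw [← Subgroup.orderOf_coe]; exact hx
  rcases Agent.S3331.result X hX hXC with ⟨N, hN, hnil, -, hq⟩ | ⟨N, hN, hNc, hN2, ⟨f⟩⟩ | ⟨⟨f⟩⟩
  · exfalso
    haveI := hN
    haveI := hnil
    haveI : Fact (Nat.Prime 5) := ⟨by norm_num⟩
    have hxN : xm ∈ N := by
      rw [← QuotientGroup.eq_one_iff]
      have h1 := orderOf_map_dvd (QuotientGroup.mk' N) xm
      rw [hxo] at h1
      have h2 := orderOf_dvd_natCard (QuotientGroup.mk' N xm)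
      have h6 : Nat.card (↥M ⧸ N) ∣ 6 := by
        rcases hq with h | ⟨⟨e⟩⟩
        · rw [h]; norm_num
        · rw [Nat.card_congr e.toEquiv, Nat.card_perm, Nat.card_fin]; decide
      exact orderOf_eq_one_iff.1 (Nat.eq_one_of_dvd_coprimes (by norm_num : Nat.Coprime 5 6) h1 (h2.trans h6))
    -- the Sylow 5-subgroup of `N` is `⟨x⟩` and is normal
    obtain ⟨P, hP⟩ := (IsPGroup.of_card (n := 1) (by rw [Nat.card_zpowers, ← Subgroup.orderOf_coe, hxo, pow_one]) :
      IsPGroup 5 ↥(Subgroup.zpowers (⟨xm, hxN⟩ : ↥N))).exists_le_sylow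
    have hP5 : Nat.card ↥(P : Subgroup ↥N) = 5 := by
      obtain ⟨k, hk⟩ := IsPGroup.iff_card.1 P.isPGroup'
      have hle := Subgroup.card_dvd_of_le hP
      rw [Nat.card_zpowers, ← Subgroup.orderOf_coe, hxo, hk] at hle
      rcases (show k = 0 ∨ k = 1 ∨ 2 ≤ k by omega) with rfl | rfl | h
      · norm_num at hle
      · rw [hk, pow_one]
      · exfalso
        have h25 : 5 ^ 2 ∣ Nat.card ↥N := (pow_dvd_pow 5 h).trans (hk ▸ Subgroup.card_subgroup_dvd_card _)
        have h25' : 5 ^ 2 ∣ Nat.card W :=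
          h25.trans ((Subgroup.card_subgroup_dvd_card N).trans M.card_subgroup_dvd_card)
        have := sq_dvd_card_centralizer h25' hx
        rw [hCx] at this
        exact absurd this (by norm_num)
    have e : Subgroup.zpowers (⟨xm, hxN⟩ : ↥N) = (P : Subgroup ↥N) := Subgroup.eq_of_le_of_card_ge hP
      (by rw [hP5, Nat.card_zpowers, ← Subgroup.orderOf_coe, hxo])
    haveI : Subsingleton (Sylow 5 ↥N) := by
      refine ⟨fun P Q => ?_⟩
      haveI : (P : Subgroup ↥N).Normal := inferInstance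
      haveI := Sylow.unique_of_normal P inferInstance
      exact Subsingleton.elim P Q
    have hmem : pm * xm * pm⁻¹ ∈ N := hN.conj_mem _ hxN pm
    obtain ⟨P', hP'⟩ := (IsPGroup.of_card (n := 1) (by
      rw [Nat.card_zpowers, ← Subgroup.orderOf_coe, pow_one]
      show orderOf (pm * xm * pm⁻¹) = 5
      rw [← MulAut.conj_apply, MulEquiv.orderOf_eq, hxo]) :
      IsPGroup 5 ↥(Subgroup.zpowers (⟨pm * xm * pm⁻¹, hmem⟩ : ↥N))).exists_le_sylow
    have hm := hP' (Subgroup.mem_zpowers _)
    rw [Subsingleton.elim P' P, ← e] at hm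
    obtain ⟨k, hk⟩ := mem_powers_iff_mem_zpowers.2 hm
    have hk' : x ^ k = p * x * p⁻¹ := congrArg (fun a : ↥N => ((a : ↥M) : W)) hk
    have hpw : ∀ j : ℕ, p ^ j * x * (p ^ j)⁻¹ = x ^ (k ^ j) := by
      intro j
      induction j with
      | zero => simp
      | succ j ih =>
        rw [pow_succ' p, show p * p ^ j * x * (p * p ^ j)⁻¹ = p * (p ^ j * x * (p ^ j)⁻¹) * p⁻¹ by group,
          ih, ← conj_pow, ← hk', ← pow_mul, pow_succ' k]
    have h3 := hpw 3
    rw [hp3, one_mul, inv_one, mul_one] at h3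
    have hk1 : k % 5 = 1 := by
      have h := pow_inj_mod.1 ((pow_one x).trans h3)
      rw [hx] at h
      have hlt := Nat.mod_lt k (show 5 > 0 by norm_num)
      rw [Nat.pow_mod] at h
      interval_cases hh : k % 5 <;> omega
    have hcm : p * x * p⁻¹ = x := by rw [← hk', ← pow_mod_orderOf, hx, hk1, pow_one]
    have := Subgroup.orderOf_dvd_natCard _ (Subgroup.mem_centralizer_singleton_iff.2
      (show p * x = x * p from mul_inv_eq_iff_eq_mul.1 hcm) : p ∈ Subgroup.centralizer ({x} : Set W))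
    rw [hp, hCx] at this
    exact absurd this (by norm_num)
  · haveI := hN
    haveI := hMn
    have hNp : IsPGroup 2 ↥N := fun a => ⟨1, Subtype.ext (by rw [pow_one]; exact hN2 a a.2)⟩
    have hcore : Cfsg.pCore 2 ↥M = N := by
      refine le_antisymm ?_ (Core.le_pCore hNp)
      have hb : (Cfsg.pCore 2 ↥M).map (f.toMonoidHom.comp (QuotientGroup.mk' N)) = ⊥ := by
        haveI : ((Cfsg.pCore 2 ↥M).map (f.toMonoidHom.comp (QuotientGroup.mk' N))).Normal :=
          Subgroup.Normal.map inferInstance _ (f.surjective.comp (QuotientGroup.mk'_surjective N))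
        haveI : IsSimpleGroup (alternatingGroup (Fin 5)) := alternatingGroup.isSimpleGroup (by simp)
        refine (IsSimpleGroup.eq_bot_or_eq_top_of_normal _ inferInstance).resolve_right fun h => ?_
        have hg := (Core.pCore_isPGroup 2 ↥M).map (f.toMonoidHom.comp (QuotientGroup.mk' N))
        rw [h] at hg
        obtain ⟨k, hk⟩ := IsPGroup.iff_card.1 hg
        rw [Subgroup.card_top, nat_card_alternatingGroup, Nat.card_fin] at hk
        have h3 : 3 ∣ 2 ^ k := hk ▸ (by decide)
        exact absurd (Nat.prime_three.dvd_of_dvd_pow h3) (by norm_num)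
      rw [Subgroup.map_eq_bot_iff] at hb
      intro a ha
      have := hb ha
      rw [MonoidHom.mem_ker] at this
      exact (QuotientGroup.eq_one_iff a).1 (f.injective (this.trans (map_one f).symm))
    -- the involution fixes only the identity of `N`
    set N' := N.map M.subtype with hN'
    have hN'c : ∀ (g : W), ∀ a ∈ N', g * a * g⁻¹ ∈ N' := by
      rintro g _ ⟨a, ha, rfl⟩
      refine ⟨MulAut.conjNormal g a, ?_, MulAut.conjNormal_apply g a⟩
      have h := Core.map_pCore_equiv (p := 2) (MulAut.conjNormal g : ↥M ≃* ↥M)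
      rw [hcore] at h
      exact h.le ⟨a, ha, rfl⟩
    have hN'2 : ∀ a ∈ N', a * a = 1 := by
      rintro _ ⟨a, ha, rfl⟩
      rw [← map_mul, ← pow_two, hN2 a ha, map_one]
    have hCN : ∀ a ∈ N', Commute a z → a = 1 := by
      intro a ha haz
      by_contra ha1
      have hpa : Commute p a := by
        set S := N' ⊓ Cz
        have hS : Nat.card ↥S ∣ Nat.card ↥(M ⊓ Cz) := Subgroup.card_dvd_of_le (inf_le_inf_right _ (Subgroup.map_subtype_le _))
        have h12 : Nat.card ↥(M ⊓ Cz) ∣ 12 := hCz ▸ Subgroup.card_dvd_of_le inf_le_right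
        have hne12 : Nat.card ↥(M ⊓ Cz) ≠ 12 := fun e => hzM
          ((Subgroup.eq_of_le_of_card_ge (inf_le_right : M ⊓ Cz ≤ Cz) (by rw [e, hCz])).ge hzC).1
        have h3 : 3 ∣ Nat.card ↥(M ⊓ Cz) := hp ▸ Subgroup.orderOf_dvd_natCard _
          (show p ∈ M ⊓ Cz from ⟨hpM, Subgroup.mem_centralizer_singleton_iff.2 hzp.symm.eq⟩)
        obtain ⟨j, hj⟩ := IsPGroup.iff_card.1
          (IsPGroup.to_le ((hNp.map M.subtype) : IsPGroup 2 ↥N') (inf_le_left : S ≤ N'))
        rw [hj] at hS
        have hj1 : j ≤ 1 := by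
          by_contra hc
          have h4 : 4 ∣ Nat.card ↥(M ⊓ Cz) := (show 4 ∣ 2 ^ j from
            dvd_trans (by norm_num) (pow_dvd_pow 2 (show 2 ≤ j by omega))).trans hS
          have h' : 12 ∣ Nat.card ↥(M ⊓ Cz) :=
            (Nat.Coprime.mul_dvd_of_dvd_of_dvd (by norm_num : Nat.Coprime 4 3) h4 h3 :)
          exact hne12 (Nat.dvd_antisymm h12 h')
        have haS : a ∈ S := ⟨ha, Subgroup.mem_centralizer_singleton_iff.2 haz.eq⟩
        have hpa' : p * a * p⁻¹ ∈ S := ⟨hN'c p a ha, Subgroup.mem_centralizer_singleton_iff.2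
          ((hzp.symm.mul_left haz).mul_left hzp.symm.inv_left).eq⟩
        have e : Subgroup.zpowers a = S := Subgroup.eq_of_le_of_card_ge (Subgroup.zpowers_le.2 haS) (by
          rw [Nat.card_zpowers, hj, orderOf_eq_prime (by rw [pow_two]; exact hN'2 a ha) ha1]
          exact Nat.pow_le_pow_right (by norm_num) hj1)
        rw [← e] at hpa'
        obtain ⟨k, hk⟩ := mem_powers_iff_mem_zpowers.2 hpa'
        have hk' : a ^ (k % 2) = p * a * p⁻¹ := by
          rw [← orderOf_eq_prime (p := 2) (by rw [pow_two]; exact hN'2 a ha) ha1, pow_mod_orderOf]; exact hk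
        rcases Nat.mod_two_eq_zero_or_one k with h | h <;> rw [h] at hk'
        · rw [pow_zero, eq_comm, conj_eq_one_iff] at hk'; exact absurd hk' ha1
        · rw [pow_one] at hk'; exact mul_inv_eq_iff_eq_mul.1 hk'.symm
      have : a ∈ M ⊓ Cp := ⟨Subgroup.map_subtype_le _ ha, Subgroup.mem_centralizer_singleton_iff.2 hpa.symm.eq⟩
      rw [hMp] at this
      have h1 := Subgroup.orderOf_dvd_natCard _ this
      rw [Nat.card_zpowers, hp, orderOf_eq_prime (p := 2) (by rw [pow_two]; exact hN'2 a ha) ha1] at h1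
      omega
    have hNbot : N = ⊥ := by
      refine (Subgroup.eq_bot_iff_forall _).2 fun a ha => Subtype.ext ?_
      have haN : (a : W) ∈ N' := ⟨a, ha, rfl⟩
      have hbN := hN'c z a haN
      have hc : Commute (a : W) (z * a * z⁻¹) := by
        obtain ⟨b, hb, hbe⟩ := hbN
        rw [← hbe]
        haveI := hNc
        exact congrArg (fun q : ↥N => ((q : ↥M) : W)) (mul_comm' (⟨a, ha⟩ : ↥N) ⟨b, hb⟩)
      have hzi : z⁻¹ = z := inv_eq_of_mul_eq_one_right hz2
      have h1 : (a : W) * (z * a * z⁻¹) = 1 := by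
        refine hCN _ (Subgroup.mul_mem _ haN hbN) ?_
        show (a : W) * (z * a * z⁻¹) * z = z * ((a : W) * (z * a * z⁻¹))
        calc (a : W) * (z * a * z⁻¹) * z = (z * a * z⁻¹) * a * z := by rw [hc.eq]
          _ = z * a * z * a * (z * z) * z⁻¹ := by rw [hz2, mul_one, hzi]
          _ = z * ((a : W) * (z * a * z⁻¹)) := by rw [hz2, hzi]; group
      refine hCN a haN ?_
      have e : z * a * z⁻¹ = a := by
        rw [← inv_eq_of_mul_eq_one_right h1]
        exact inv_eq_of_mul_eq_one_right (hN'2 a haN)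
      exact (mul_inv_eq_iff_eq_mul.1 e).symm
    subst hNbot
    let e : ↥M ≃* alternatingGroup (Fin 5) := QuotientGroup.quotientBot.symm.trans f
    have hidx : M.index = 2 := by
      refine hMor.resolve_right fun h => ?_
      rw [Nat.card_congr e.toEquiv, nat_card_alternatingGroup, Nat.card_fin] at h
      exact absurd h (by decide)
    refine perm_five_of_index_two M e ((Subgroup.eq_bot_iff_forall _).2 fun a ha => ?_) hidx
    have hax : a ∈ Subgroup.centralizer ({x} : Set W) :=
      Subgroup.mem_centralizer_singleton_iff.2 (Subgroup.mem_centralizer_iff.1 ha x hxM).symm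
    have hap : a ∈ Cp := Subgroup.mem_centralizer_singleton_iff.2 (Subgroup.mem_centralizer_iff.1 ha p hpM).symm
    have h1 := Subgroup.orderOf_dvd_natCard _ hax
    have h2 := Subgroup.orderOf_dvd_natCard _ hap
    rw [hCx] at h1
    rw [hCp] at h2
    exact orderOf_eq_one_iff.1 (Nat.eq_one_of_dvd_coprimes (by norm_num) h1 h2)
  · exfalso
    have h1 := orderOf_dvd_natCard xm
    rw [hxo, Nat.card_congr f.toEquiv] at h1
    have h168 : Nat.card (Matrix.ProjectiveSpecialLinearGroup (Fin 2) (ZMod 7)) = 168 := card_psl_two_seven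
    rw [h168] at h1
    exact absurd h1 (by norm_num)
end Cfsg.Lib.JankoFour
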