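import Cfsg.Agent.Lib.JankoFourLocal.SevenKey
import Cfsg.Agent.Lib.JankoFourLocal.SymFive

/-!
# The centralizer and the normalizer of an element of order seven
-/

set_option autoImplicit false
set_option linter.style.haveILetI false
set_option linter.unusedSectionVars false

namespace Cfsg.Lib.JankoFour

open Cfsg Cfsg.Lib.Extra Module
open scoped Pointwise

/-- The preimage of the centralizer of an image modulo a central subgroup of coprime prime order. -/
theorem card_cent_mk {K : Type*} [Group K] [Finite K] {Z : Subgroup K} [Z.Normal] {q : ℕ}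
    (hZ : Nat.card ↥Z = q) (hc : ∀ c ∈ Z, ∀ b : K, Commute c b) {a : K} (hco : (orderOf a).Coprime q) :
    orderOf (QuotientGroup.mk' Z a) = orderOf a ∧
      Nat.card ↥(Subgroup.centralizer ({a} : Set K)) =
        q * Nat.card ↥(Subgroup.centralizer ({QuotientGroup.mk' Z a} : Set (K ⧸ Z))) := by
  have hq : ∀ c ∈ Z, c ^ q = 1 := fun c hm => by
    have h := pow_card_eq_one' (x := (⟨c, hm⟩ : ↥Z))
    rw [hZ] at h
    exact congrArg Subtype.val h
  refine ⟨Nat.dvd_antisymm (orderOf_map_dvd _ a) ?_, ?_⟩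
  · set k := orderOf (QuotientGroup.mk' Z a)
    refine orderOf_dvd_of_pow_eq_one ?_
    have hm : a ^ k ∈ Z := by
      rw [← QuotientGroup.eq_one_iff, ← QuotientGroup.mk'_apply, map_pow, pow_orderOf_eq_one]
    have h1 : (a ^ k) ^ orderOf a = 1 := by rw [← pow_mul, mul_comm, pow_mul, pow_orderOf_eq_one, one_pow]
    have := pow_gcd_eq_one.2 ⟨h1, hq _ hm⟩
    rwa [hco, pow_one] at this
  · have hcom : (Subgroup.centralizer ({QuotientGroup.mk' Z a} : Set (K ⧸ Z))).comap (QuotientGroup.mk' Z) =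
        Subgroup.centralizer ({a} : Set K) := by
      ext w
      rw [Subgroup.mem_comap, Subgroup.mem_centralizer_singleton_iff, Subgroup.mem_centralizer_singleton_iff]
      refine ⟨fun h => ?_, fun h => by rw [← map_mul, ← map_mul, h]⟩
      set c := w * a * w⁻¹ * a⁻¹
      have hm : c ∈ Z := by
        rw [← QuotientGroup.eq_one_iff, ← QuotientGroup.mk'_apply, map_mul, map_mul, map_mul, map_inv, map_inv, h,
          mul_inv_cancel_right, mul_inv_cancel]
      have e : w * a * w⁻¹ = c * a := (inv_mul_cancel_right _ a).symm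
      have h2 := congrArg (· ^ orderOf a) e
      simp only [conj_pow, pow_orderOf_eq_one, mul_one, mul_inv_cancel, (hc c hm a).mul_pow] at h2
      have h3 := pow_gcd_eq_one.2 ⟨h2.symm, hq c hm⟩
      rw [hco, pow_one] at h3
      rw [h3, one_mul] at e
      exact mul_inv_eq_iff_eq_mul.1 e
    rw [← hcom, Core.card_comap_eq _ (QuotientGroup.mk'_surjective Z), QuotientGroup.ker_mk', hZ]

namespace Frame

variable {G : Type*} [Group G] [Finite G] {A : Type} [Group A] {I : Subgroup A}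

/-- An element of order seven of `C` over the chosen one. -/
structure SevenPt (F : Frame G A I) (D : LocalData A I) where
  /-- The element. -/
  y : G
  mem : y ∈ F.C
  img_y : F.img y = D.y
  ord : orderOf y = 7
  res : Cfsg.pResidual 2 G = ⊤

namespace SevenPt

variable {F : Frame G A I} {D : LocalData A I} (S : SevenPt F D)

/-- The centralizer of the element. -/
abbrev W : Subgroup G := Subgroup.centralizer ({S.y} : Set G)

theorem mem_W {g : G} : g ∈ S.W ↔ Commute g S.y := Subgroup.mem_centralizer_singleton_iff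

theorem yz : Commute S.y F.z := (F.mem_C.1 S.mem).1

theorem yp : Commute S.y F.p := (F.mem_C.1 S.mem).2

theorem y_pow : S.y ^ 7 = 1 := S.ord ▸ pow_orderOf_eq_one S.y

theorem y_ne : F.img S.y ≠ 1 := fun h => by
  have := D.y_ord
  rw [← S.img_y, h, orderOf_one] at this
  omega

theorem card_WH : Nat.card ↥(F.H ⊓ S.W) = 84 := by
  haveI : Fact (Nat.Prime 7) := ⟨by norm_num⟩
  rw [F.card_cent_H prime_seven.1 prime_seven.2 S.mem S.ord, F.card_E_cent S.mem,
    F.fix_seven S.mem S.y_pow S.y_ne, finrank_bot, S.img_y, D.y_cent]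
  norm_num

theorem card_WC : Nat.card ↥(F.C ⊓ S.W) = 42 := by
  rw [F.card_cent_C prime_seven.1 S.mem S.y_pow, S.img_y, D.y_centI]

theorem card_Wp : Nat.card ↥(S.W ⊓ Subgroup.centralizer ({F.p} : Set G)) = 42 := by
  have e : S.W ⊓ Subgroup.centralizer ({F.p} : Set G) = F.C ⊓ S.W := by
    refine le_antisymm (fun g hg => ⟨F.mem_C.2 ⟨?_, Subgroup.mem_centralizer_singleton_iff.1 hg.2⟩, hg.1⟩)
      fun g hg => ⟨hg.2, Subgroup.mem_centralizer_singleton_iff.2 (F.mem_C.1 hg.1).2.eq⟩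
    exact F.commute_z_of_commute_p S.res (Subgroup.mem_centralizer_singleton_iff.1 hg.2)
  rw [e, S.card_WC]

/-- No element inverts the element. -/
theorem no_inv (g : G) : g * S.y * g⁻¹ ≠ S.y⁻¹ := by
  intro h
  haveI : Fact (Nat.Prime 3) := ⟨Nat.prime_three⟩
  have hnorm : ∀ {t}, t ∈ S.W → g * t * g⁻¹ ∈ S.W := fun {t} ht => S.mem_W.2 (by
    have h1 := (S.mem_W.1 ht).map (MulAut.conj g).toMonoidHom
    simp only [MulEquiv.coe_toMonoidHom, MulAut.conj_apply, h] at h1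
    exact inv_inv S.y ▸ h1.inv_right)
  have hpW : F.p ∈ S.W := S.mem_W.2 S.yp.symm
  have h9 : ¬ 3 ^ 2 ∣ Nat.card ↥S.W := by
    intro h9
    have := sq_dvd_card_centralizer (K := ↥S.W) h9 (a := ⟨F.p, hpW⟩)
      (by rw [← Subgroup.orderOf_coe]; exact F.p_ord)
    have hle : (Subgroup.centralizer ({⟨F.p, hpW⟩} : Set ↥S.W)).map S.W.subtype ≤
        S.W ⊓ Subgroup.centralizer ({F.p} : Set G) := by
      rintro _ ⟨w, hw, rfl⟩
      exact ⟨w.2, Subgroup.mem_centralizer_singleton_iff.2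
        (congrArg Subtype.val (Subgroup.mem_centralizer_singleton_iff.1 hw))⟩
    have h2 := Subgroup.card_dvd_of_le hle
    rw [Subgroup.card_map_of_injective S.W.subtype_injective, S.card_Wp] at h2
    exact absurd (this.trans h2) (by norm_num)
  obtain ⟨⟨w, hw⟩, k, hk⟩ := exists_conj_of_sq_not_dvd (K := ↥S.W) h9
    (a := ⟨g * F.p * g⁻¹, hnorm hpW⟩) (b := ⟨F.p, hpW⟩) (by
      rw [← Subgroup.orderOf_coe]
      show orderOf (g * F.p * g⁻¹) = 3
      rw [← MulAut.conj_apply, MulEquiv.orderOf_eq, F.p_ord]) (by rw [← Subgroup.orderOf_coe]; exact F.p_ord)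
  have hk' : w * (g * F.p * g⁻¹) * w⁻¹ = F.p ^ k := congrArg Subtype.val hk
  set a := w * g
  have ha : a * F.p * a⁻¹ = F.p ∨ a * F.p * a⁻¹ = F.p⁻¹ := by
    rw [show a * F.p * a⁻¹ = w * (g * F.p * g⁻¹) * w⁻¹ by show w * g * F.p * (w * g)⁻¹ = _; group, hk']
    refine F.pow_eq_or (pow_mem (Subgroup.mem_zpowers _) k) fun h1 => F.not_mem_p ?_
    rw [h1] at hk'
    rw [show w * (g * F.p * g⁻¹) * w⁻¹ = (w * g) * F.p * (w * g)⁻¹ by group] at hk'
    rw [conj_eq_one_iff.1 hk']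
    exact one_mem _
  have haz : Commute a F.z := F.commute_z_of_normalize S.res ha
  have hay : a * S.y * a⁻¹ = S.y⁻¹ := by
    calc a * S.y * a⁻¹ = w * (g * S.y * g⁻¹) * w⁻¹ := by show w * g * S.y * (w * g)⁻¹ = _; group
      _ = w * S.y⁻¹ * w⁻¹ := by rw [h]
      _ = S.y⁻¹ := by rw [(S.mem_W.1 hw).inv_right.eq, mul_inv_cancel_right]
  refine D.y_no_inv (F.img a) ?_
  rw [← S.img_y, ← F.img_conj haz S.yz, hay, F.img_inv S.yz]

/-- Elements of order five and four of the centralizer. -/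
theorem exists_five_in : ∃ x ∈ S.W, ∃ g ∈ S.W, orderOf x = 5 ∧
    Nat.card ↥(S.W ⊓ Subgroup.centralizer ({x} : Set G)) = 35 ∧ g ^ 4 = 1 ∧ g * x * g⁻¹ = x ^ 2 := by
  haveI : Fact (Nat.Prime 7) := ⟨by norm_num⟩
  obtain ⟨x0, hx0, hxi, hxo⟩ := F.exists_five_lift D
  let P : FivePt F D := ⟨x0, hx0, hxi, hxo, S.res⟩
  obtain ⟨y0, hy0, hy0o, hn⟩ := P.exists_seven
  obtain ⟨-, g, hgx, hgy, hg4, -⟩ := P.normalizer_data hy0 hy0o hn
  have h35 := P.card_cent_seven hy0 hy0o hn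
  obtain ⟨m, hm⟩ := P.exists_conj_seven hy0 hy0o
  obtain ⟨h, -, k, hk⟩ := F.exists_conj_zpowers prime_seven.1 prime_seven.2 F.H le_rfl
    (F.C_le_H hm) (F.C_le_H S.mem) (by rw [← MulAut.conj_apply, MulEquiv.orderOf_eq, hy0o]) S.ord
  set a := h * m
  have hay : a * y0 * a⁻¹ = S.y ^ k := by
    rw [← hk]; show h * m * y0 * (h * m)⁻¹ = _; group
  -- the power generates
  have hzp : Subgroup.zpowers (S.y ^ k) = Subgroup.zpowers S.y :=
    Subgroup.eq_of_le_of_card_ge (Subgroup.zpowers_le.2 (pow_mem (Subgroup.mem_zpowers _) k))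
      (by rw [Nat.card_zpowers, Nat.card_zpowers, ← hay, ← MulAut.conj_apply, MulEquiv.orderOf_eq, hy0o, S.ord])
  have hcomm : ∀ {t}, Commute t (S.y ^ k) → Commute t S.y := fun {t} ht => by
    obtain ⟨j, hj⟩ := Subgroup.mem_zpowers_iff.1 (hzp.symm ▸ Subgroup.mem_zpowers S.y :
      S.y ∈ Subgroup.zpowers (S.y ^ k))
    rw [← hj]
    exact ht.zpow_right j
  have hxW : a * x0 * a⁻¹ ∈ S.W := S.mem_W.2 (hcomm (hay ▸ ((P.mem_Cx.1 hy0).symm.map (MulAut.conj a).toMonoidHom)))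
  refine ⟨a * x0 * a⁻¹, hxW, a * g * a⁻¹, ?_, by rw [← MulAut.conj_apply, MulEquiv.orderOf_eq, hxo], ?_, ?_, ?_⟩
  · refine S.mem_W.2 (hcomm ?_)
    -- the normalizing element acts with order dividing four and does not invert
    obtain ⟨j, hj⟩ := mem_powers_iff_mem_zpowers.2 ((Subgroup.mem_normalizer_iff.1 hgy y0).1 (Subgroup.mem_zpowers _))
    have hj : y0 ^ j = g * y0 * g⁻¹ := hj
    have hpw : ∀ i : ℕ, g ^ i * y0 * (g ^ i)⁻¹ = y0 ^ (j ^ i) := by
      intro i
      induction i with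
      | zero => simp
      | succ i ih =>
        rw [pow_succ' g, show g * g ^ i * y0 * (g * g ^ i)⁻¹ = g * (g ^ i * y0 * (g ^ i)⁻¹) * g⁻¹ by group,
          ih, ← conj_pow, ← hj, ← pow_mul, pow_succ' j]
    have h4 := hpw 4
    rw [hg4, one_mul, inv_one, mul_one] at h4
    have hj4 : j % 7 = 1 ∨ j % 7 = 6 := by
      have h' := pow_inj_mod.1 ((pow_one y0).trans h4)
      rw [hy0o, Nat.pow_mod] at h'
      have hlt := Nat.mod_lt j (show 7 > 0 by norm_num)
      interval_cases hh : j % 7 <;> omega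
    have hgy0 : g * y0 * g⁻¹ = y0 := by
      rw [← hj, ← pow_mod_orderOf, hy0o]
      rcases hj4 with e | e <;> rw [e]
      · exact pow_one y0
      · exfalso
        have hinv : g * y0 * g⁻¹ = y0⁻¹ := by
          rw [← hj, ← pow_mod_orderOf, hy0o, e]
          refine eq_inv_of_mul_eq_one_left ?_
          rw [← pow_succ]
          exact orderOf_dvd_iff_pow_eq_one.1 (dvd_of_eq hy0o)
        refine S.no_inv (a * g * a⁻¹) ?_
        obtain ⟨i, hi⟩ := Subgroup.mem_zpowers_iff.1 (hzp.symm ▸ Subgroup.mem_zpowers S.y :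
          S.y ∈ Subgroup.zpowers (S.y ^ k))
        rw [← hi, ← conj_zpow, show a * g * a⁻¹ * S.y ^ k * (a * g * a⁻¹)⁻¹ = a * (g * y0 * g⁻¹) * a⁻¹ by
          rw [← hay]; group, hinv, show a * y0⁻¹ * a⁻¹ = (a * y0 * a⁻¹)⁻¹ by group, hay, inv_zpow]
    exact hay ▸ ((show Commute g y0 from mul_inv_eq_iff_eq_mul.1 hgy0).map (MulAut.conj a).toMonoidHom)
  · rw [← h35]
    have e : S.W ⊓ Subgroup.centralizer ({a * x0 * a⁻¹} : Set G) =
        (P.Cx ⊓ Subgroup.centralizer ({y0} : Set G)).map (MulAut.conj a).toMonoidHom := by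
      refine le_antisymm (fun t ht => ?_) ?_
      · refine ⟨a⁻¹ * t * a, ⟨P.mem_Cx.2 (commute_conj.2 (Subgroup.mem_centralizer_singleton_iff.1 ht.2)),
          Subgroup.mem_centralizer_singleton_iff.2 (commute_conj.2 ?_).eq⟩, ?_⟩
        · rw [hay]
          exact (S.mem_W.1 ht.1).pow_right k
        · show a * (a⁻¹ * t * a) * a⁻¹ = t
          group
      · rintro _ ⟨t, ⟨ht1, ht2⟩, rfl⟩
        exact ⟨S.mem_W.2 (hcomm (hay ▸ ((show Commute t y0 from Subgroup.mem_centralizer_singleton_iff.1 ht2).map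
          (MulAut.conj a).toMonoidHom))), Subgroup.mem_centralizer_singleton_iff.2
          ((P.mem_Cx.1 ht1).map (MulAut.conj a).toMonoidHom).eq⟩
    rw [e, Subgroup.card_map_of_injective (MulAut.conj a).injective]
  · rw [conj_pow, hg4]; group
  · have hgx' : g * x0 * g⁻¹ = x0 ^ 2 := hgx
    rw [conj_pow, ← hgx']; group

/-- The subgroup generated by the element. -/
def Z : Subgroup ↥S.W := (Subgroup.zpowers S.y).subgroupOf S.W

theorem Z_central {c : ↥S.W} (hc : c ∈ S.Z) (b : ↥S.W) : Commute c b := by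
  obtain ⟨i, hi⟩ := Subgroup.mem_zpowers_iff.1 (Subgroup.mem_subgroupOf.1 hc)
  refine Subtype.ext ?_
  show (c : G) * b = b * c
  rw [← hi]
  exact ((S.mem_W.1 b.2).symm.zpow_left i).eq

instance Z_normal : S.Z.Normal := ⟨fun n hn g => by rw [(S.Z_central hn g).symm.eq, mul_inv_cancel_right]; exact hn⟩

theorem card_Z : Nat.card ↥S.Z = 7 := by
  rw [Z, Nat.card_congr (Subgroup.subgroupOfEquivOfLe
    (Subgroup.zpowers_le.2 (S.mem_W.2 (Commute.refl _)))).toEquiv, Nat.card_zpowers, S.ord]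

theorem card_cent_sub {a : G} (ha : a ∈ S.W) : Nat.card ↥(Subgroup.centralizer ({⟨a, ha⟩} : Set ↥S.W)) =
    Nat.card ↥(S.W ⊓ Subgroup.centralizer ({a} : Set G)) := by
  have e : (Subgroup.centralizer ({⟨a, ha⟩} : Set ↥S.W)).map S.W.subtype =
      S.W ⊓ Subgroup.centralizer ({a} : Set G) := by
    refine le_antisymm ?_ fun t ht => ⟨⟨t, ht.1⟩, Subgroup.mem_centralizer_singleton_iff.2
      (Subtype.ext (Subgroup.mem_centralizer_singleton_iff.1 ht.2)), rfl⟩
    rintro _ ⟨w, hw, rfl⟩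
    exact ⟨w.2, Subgroup.mem_centralizer_singleton_iff.2
      (congrArg Subtype.val (Subgroup.mem_centralizer_singleton_iff.1 hw))⟩
  rw [← e, Subgroup.card_map_of_injective S.W.subtype_injective]

/-- The centralizer modulo the element is `Sym(5)`. -/
theorem quotient_perm : Nonempty (↥S.W ⧸ S.Z ≃* Equiv.Perm (Fin 5)) := by
  obtain ⟨x, hx, g, hg, hxo, hx35, hg4, hgx⟩ := S.exists_five_in
  have hzW : F.z ∈ S.W := S.mem_W.2 S.yz.symm
  have hpW : F.p ∈ S.W := S.mem_W.2 S.yp.symm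
  have key : ∀ {a : G} (ha : a ∈ S.W), (orderOf a).Coprime 7 →
      orderOf (QuotientGroup.mk' S.Z ⟨a, ha⟩) = orderOf a ∧
      Nat.card ↥(S.W ⊓ Subgroup.centralizer ({a} : Set G)) =
        7 * Nat.card ↥(Subgroup.centralizer ({QuotientGroup.mk' S.Z ⟨a, ha⟩} : Set (↥S.W ⧸ S.Z))) := by
    intro a ha hco
    obtain ⟨h1, h2⟩ := card_cent_mk S.card_Z (fun c hc b => S.Z_central hc b) (a := (⟨a, ha⟩ : ↥S.W))
      (by rwa [← Subgroup.orderOf_coe])
    exact ⟨h1.trans (Subgroup.orderOf_coe (⟨a, ha⟩ : ↥S.W)).symm, (S.card_cent_sub ha).symm.trans h2⟩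
  have hzo : orderOf F.z = 2 := orderOf_eq_prime (by rw [pow_two, F.ctx.sq_z]) F.ctx.ne_one
  have hgo : orderOf g = 4 := by
    have hd := orderOf_dvd_of_pow_eq_one hg4
    obtain ⟨i, hi, e⟩ := (Nat.dvd_prime_pow Nat.prime_two).1 (show orderOf g ∣ 2 ^ 2 from hd)
    rcases (show i = 2 ∨ i ≤ 1 by omega) with rfl | hi'
    · exact e
    exfalso
    have h2 : g ^ 2 = 1 := orderOf_dvd_iff_pow_eq_one.1 (e ▸ (pow_dvd_pow 2 hi').trans (by norm_num))
    have e2 : g ^ 2 * x * (g ^ 2)⁻¹ = x ^ 4 := by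
      rw [pow_two, show g * g * x * (g * g)⁻¹ = g * (g * x * g⁻¹) * g⁻¹ by group, hgx, ← conj_pow, hgx, ← pow_mul]
    rw [h2, one_mul, inv_one, mul_one] at e2
    have h3 := pow_inj_mod.1 ((pow_one x).trans e2)
    rw [hxo] at h3
    omega
  obtain ⟨hz1, hz2⟩ := key hzW (by rw [hzo]; norm_num)
  obtain ⟨hp1, hp2⟩ := key hpW (by rw [F.p_ord]; norm_num)
  obtain ⟨hx1, hx2⟩ := key hx (by rw [hxo]; norm_num)
  obtain ⟨hg1, -⟩ := key hg (by rw [hgo]; norm_num)
  rw [inf_comm, show Nat.card ↥(Subgroup.centralizer ({F.z} : Set G) ⊓ S.W) = 84 from S.card_WH] at hz2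
  rw [S.card_Wp] at hp2
  rw [hx35] at hx2
  refine perm_five_of_centralizers (hz1.trans hzo) (hp1.trans F.p_ord) (hx1.trans hxo) (hg1.trans hgo) ?_
    (by omega) (by omega) (by omega)
  exact (show Commute (⟨F.z, hzW⟩ : ↥S.W) ⟨F.p, hpW⟩ from Subtype.ext F.p_comm.symm.eq).map (QuotientGroup.mk' S.Z)

theorem card_W : Nat.card ↥S.W = 840 := by
  obtain ⟨e⟩ := S.quotient_perm
  rw [Subgroup.card_eq_card_quotient_mul_card_subgroup S.Z, S.card_Z, Nat.card_congr e.toEquiv, Nat.card_perm,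
    Nat.card_fin]
  rfl

include S in
/-- The element generates a Sylow subgroup. -/
theorem not_sq_dvd : ¬ 49 ∣ Nat.card G := by
  intro h
  haveI : Fact (Nat.Prime 7) := ⟨by norm_num⟩
  have h' := sq_dvd_card_centralizer (K := G) (q := 7) (by norm_num; exact h) (a := S.y) S.ord
  rw [S.card_W] at h'
  exact absurd h' (by norm_num)

theorem centralizer_y : Subgroup.centralizer (Subgroup.zpowers S.y : Set G) = S.W := by
  ext g
  rw [Subgroup.mem_centralizer_iff, S.mem_W]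
  refine ⟨fun h => (h S.y (Subgroup.mem_zpowers _)).symm, fun h w hw => ?_⟩
  obtain ⟨i, rfl⟩ := Subgroup.mem_zpowers_iff.1 hw
  exact (h.zpow_right i).eq.symm

/-- The centralizer is the product of the element with a copy of `Sym(5)`. -/
theorem cent_structure : ∃ J : Subgroup G,
    Cfsg.IsInternalDirectProduct (Subgroup.zpowers S.y) J S.W ∧ Nonempty (↥J ≃* Equiv.Perm (Fin 5)) := by
  obtain ⟨f⟩ := S.quotient_perm
  obtain ⟨J0, hJ⟩ := Subgroup.exists_right_complement'_of_coprime (N := S.Z) (by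
    rw [S.card_Z, show S.Z.index = Nat.card (↥S.W ⧸ S.Z) from rfl, Nat.card_congr f.toEquiv, Nat.card_perm,
      Nat.card_fin]
    decide)
  have hbij : Function.Bijective ((QuotientGroup.mk' S.Z).comp J0.subtype) := by
    refine ⟨(injective_iff_map_eq_one _).2 fun a ha => Subtype.ext ?_, fun w => ?_⟩
    · exact (Subgroup.disjoint_def.1 hJ.disjoint) ((QuotientGroup.eq_one_iff (a : ↥S.W)).1 ha) a.2
    · obtain ⟨t, rfl⟩ := QuotientGroup.mk'_surjective S.Z w
      obtain ⟨⟨c, j⟩, e⟩ := hJ.2 t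
      refine ⟨j, ?_⟩
      show QuotientGroup.mk' S.Z (j : ↥S.W) = QuotientGroup.mk' S.Z t
      rw [← e, map_mul, show QuotientGroup.mk' S.Z (c : ↥S.W) = 1 from (QuotientGroup.eq_one_iff _).2 c.2, one_mul]
  refine ⟨J0.map S.W.subtype, ⟨Subgroup.zpowers_le.2 (S.mem_W.2 (Commute.refl _)), Subgroup.map_subtype_le _,
    ?_, ?_, ?_⟩, ⟨((Subgroup.equivMapOfInjective J0 _ S.W.subtype_injective).symm.trans
      (MulEquiv.ofBijective _ hbij)).trans f⟩⟩
  · rintro a ha b ⟨b', -, rfl⟩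
    obtain ⟨i, rfl⟩ := Subgroup.mem_zpowers_iff.1 ha
    exact ((S.mem_W.1 b'.2).zpow_right i).eq.symm
  · refine (Subgroup.eq_bot_iff_forall _).2 ?_
    rintro a ⟨ha, b, hb, rfl⟩
    have : b = 1 := (Subgroup.disjoint_def.1 hJ.disjoint) (Subgroup.mem_subgroupOf.2 ha) hb
    rw [this, map_one]
  · refine le_antisymm (sup_le (Subgroup.zpowers_le.2 (S.mem_W.2 (Commute.refl _)))
      (Subgroup.map_subtype_le _)) fun t ht => ?_
    obtain ⟨⟨c, j⟩, h⟩ := hJ.2 ⟨t, ht⟩
    rw [show t = ((c : ↥S.W) : G) * ((j : ↥S.W) : G) from congrArg Subtype.val h.symm]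
    exact Subgroup.mul_mem_sup (Subgroup.mem_subgroupOf.1 c.2) ⟨_, j.2, rfl⟩

/-- The normalizer of the element. -/
theorem card_normalizer : Nat.card ↥(Subgroup.normalizer (Subgroup.zpowers S.y : Set G)) = 3 * Nat.card ↥S.W := by
  classical
  haveI : Fact (Nat.Prime 7) := ⟨by norm_num⟩
  set Q := Subgroup.zpowers S.y
  set NN := Subgroup.normalizer (Q : Set G)
  haveI : IsCyclic ↥Q := inferInstance
  have haut : Nat.card (MulAut ↥Q) = 6 := by
    rw [IsCyclic.card_mulAut, Nat.card_zpowers, S.ord]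
    decide
  set ψ := Q.normalizerMonoidHom
  have hker : ψ.ker = S.W.subgroupOf NN := by
    show (Q.normalizerMonoidHom).ker = _
    rw [Subgroup.normalizerMonoidHom_ker, S.centralizer_y]
  -- an element squaring the element
  obtain ⟨c, hc, hci⟩ := F.mem_I_iff.1 D.g_mem
  obtain ⟨hcz, -⟩ := F.mem_C.1 hc
  have hcy : c * S.y * c⁻¹ = S.y ^ 2 := by
    set k := c * S.y * c⁻¹ * (S.y ^ 2)⁻¹ with hk
    have hkC : k ∈ F.C := mul_mem (mul_mem (mul_mem hc S.mem) (inv_mem hc)) (inv_mem (pow_mem S.mem 2))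
    have hki : F.img k = 1 := by
      rw [hk, F.img_mul _ _ ((hcz.mul_left S.yz).mul_left hcz.inv_left) (S.yz.pow_left 2).inv_left,
        F.img_conj hcz S.yz, F.img_inv (S.yz.pow_left 2), F.img_pow S.yz, hci, S.img_y, D.g_y, mul_inv_cancel]
    have e : c * S.y * c⁻¹ = k * S.y ^ 2 := by rw [hk, inv_mul_cancel_right]
    have h7 : k ^ 7 = 1 := by
      have h := congrArg (· ^ 7) e
      simp only [conj_pow, S.y_pow, mul_one, mul_inv_cancel,
        (F.ker_C_comm hkC hki (pow_mem S.mem 2)).mul_pow] at h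
      rw [← pow_mul, show 2 * 7 = 7 * 2 from rfl, pow_mul, S.y_pow, one_pow, mul_one] at h
      exact h.symm
    rw [e, F.ker_eq_one (F.mem_C.1 hkC).1 hki (n := 7) (by norm_num) h7, one_mul]
  have hcN : c ∈ NN := by
    have hle : Q.map (MulAut.conj c).toMonoidHom ≤ Q := by
      rw [MonoidHom.map_zpowers]
      exact Subgroup.zpowers_le.2 (by
        show c * S.y * c⁻¹ ∈ Q
        rw [hcy]; exact Q.pow_mem (Subgroup.mem_zpowers _) 2)
    have he : Q.map (MulAut.conj c).toMonoidHom = Q := Subgroup.eq_of_le_of_card_ge hle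
      (by rw [Subgroup.card_map_of_injective (MulAut.conj c).injective])
    refine Subgroup.mem_normalizer_iff.2 fun w => ⟨fun hw => hle ⟨w, hw, rfl⟩, fun hw => ?_⟩
    rw [← he] at hw
    obtain ⟨w', hw', e⟩ := hw
    exact (mul_left_cancel (mul_right_cancel e) : w' = w) ▸ hw'
  have hne : ∀ a ∈ ψ.range, a ^ 2 = 1 → a = 1 := by
    rintro _ ⟨⟨n, hn⟩, rfl⟩ h2
    obtain ⟨j, hj⟩ := mem_powers_iff_mem_zpowers.2 ((Subgroup.mem_normalizer_iff.1 hn S.y).1 (Subgroup.mem_zpowers _))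
    have hj : S.y ^ j = n * S.y * n⁻¹ := hj
    have h2' : n * (n * S.y * n⁻¹) * n⁻¹ = S.y := by
      have h := congrArg (fun φ : MulAut ↥Q => ((φ ⟨S.y, Subgroup.mem_zpowers _⟩ : ↥Q) : G)) h2
      rw [pow_two] at h
      exact h
    rw [← hj, ← conj_pow, ← hj, ← pow_mul] at h2'
    have h' := pow_inj_mod.1 (h2'.trans (pow_one S.y).symm)
    rw [S.ord, Nat.mul_mod] at h'
    have hlt := Nat.mod_lt j (show 7 > 0 by norm_num)
    have hj7 : j % 7 = 1 ∨ j % 7 = 6 := by interval_cases hh : j % 7 <;> omega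
    rcases hj7 with e | e
    · rw [← MonoidHom.mem_ker, hker, Subgroup.mem_subgroupOf]
      refine S.mem_W.2 (mul_inv_eq_iff_eq_mul.1 ?_)
      show n * S.y * n⁻¹ = S.y
      rw [← hj, ← pow_mod_orderOf, S.ord, e, pow_one]
    · exfalso
      refine S.no_inv n ?_
      rw [← hj, ← pow_mod_orderOf, S.ord, e]
      exact eq_inv_of_mul_eq_one_left (by rw [← pow_succ, S.y_pow])
  have hr3 : Nat.card ↥ψ.range = 3 := by
    have hd : Nat.card ↥ψ.range ∣ 6 := haut ▸ Subgroup.card_subgroup_dvd_card _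
    have h2 : ¬ 2 ∣ Nat.card ↥ψ.range := by
      intro h
      haveI : Fact (Nat.Prime 2) := ⟨Nat.prime_two⟩
      obtain ⟨a, ha⟩ := exists_prime_orderOf_dvd_card' (G := ↥ψ.range) 2 h
      have h1 := hne a a.2 (congrArg Subtype.val (ha ▸ pow_orderOf_eq_one a : a ^ 2 = 1))
      rw [show a = 1 from Subtype.ext h1, orderOf_one] at ha
      omega
    have h1 : Nat.card ↥ψ.range ≠ 1 := by
      intro h
      have hm : ψ ⟨c, hcN⟩ ∈ ψ.range := ⟨_, rfl⟩
      rw [Subgroup.eq_bot_of_card_eq _ h, Subgroup.mem_bot, ← MonoidHom.mem_ker, hker,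
        Subgroup.mem_subgroupOf] at hm
      have e := hcy
      rw [(S.mem_W.1 hm).eq, mul_inv_cancel_right, pow_two] at e
      have := S.ord
      rw [left_eq_mul.1 e, orderOf_one] at this
      omega
    have hle := Nat.le_of_dvd (by norm_num) hd
    interval_cases h : Nat.card ↥ψ.range <;> omega
  have hCN : S.W ≤ NN := by
    rw [← S.centralizer_y]; exact Subgroup.centralizer_le_normalizer _
  have h := ψ.ker.index_mul_card
  rw [Subgroup.index_ker, hr3, hker, Nat.card_congr (Subgroup.subgroupOfEquivOfLe hCN).toEquiv] at h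
  exact h.symm

end SevenPt

/-- Every subgroup of order seven of `C(z)` is generated by an element over the chosen one, after conjugating
the frame. -/
theorem exists_seven_pt (F : Frame G A I) (D : LocalData A I) (hres : Cfsg.pResidual 2 G = ⊤) {Q : Subgroup G}
    (hQ : Nat.card ↥Q = 7) (hQz : Q ≤ F.H) :
    ∃ F' : Frame G A I, ∃ S : SevenPt F' D, Subgroup.zpowers S.y = Q := by
  haveI : Fact (Nat.Prime 7) := ⟨by norm_num⟩
  obtain ⟨y, hy, hyi, hyo⟩ := F.exists_lift_prime D.y_mem D.y_ord (q := 7) (k := 36) (by norm_num) (by norm_num)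
  obtain ⟨⟨q, hq⟩, hqo⟩ := exists_prime_orderOf_dvd_card' (G := ↥Q) 7 (by rw [hQ])
  rw [← Subgroup.orderOf_coe] at hqo
  obtain ⟨h, -, k, hk⟩ := F.exists_conj_zpowers prime_seven.1 prime_seven.2 F.H le_rfl (F.C_le_H hy) (hQz hq) hyo hqo
  obtain ⟨hyz, hyp⟩ := F.mem_C.1 hy
  refine ⟨F.conj h, ⟨h * y * h⁻¹, (F.conj h).mem_C.2
    ⟨hyz.map (MulAut.conj h).toMonoidHom, hyp.map (MulAut.conj h).toMonoidHom⟩, ?_, ?_, hres⟩, ?_⟩
  · show F.img (h⁻¹ * (h * y * h⁻¹) * h) = D.y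
    rw [show h⁻¹ * (h * y * h⁻¹) * h = y by group, hyi]
  · rw [← MulAut.conj_apply, MulEquiv.orderOf_eq, hyo]
  · show Subgroup.zpowers (h * y * h⁻¹) = Q
    refine Subgroup.eq_of_le_of_card_ge (Subgroup.zpowers_le.2 (hk ▸ Q.pow_mem hq k)) ?_
    rw [hQ, Nat.card_zpowers, ← MulAut.conj_apply, MulEquiv.orderOf_eq, hyo]

end Frame

end Cfsg.Lib.JankoFour
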