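import Cfsg.Agent.Lib.JankoFourLocal.Group
import Mathlib.GroupTheory.Transfer
import Mathlib.GroupTheory.NoncommCoprod
import Mathlib.GroupTheory.SpecificGroups.Alternating

/-!
# Group lemmas for the two-local subgroup with quotient `Sym(5) × L₃(2)`
-/

set_option autoImplicit false
set_option linter.style.haveILetI false
set_option linter.unusedSectionVars false

namespace Cfsg.Lib.JankoFour

open scoped commutatorElement IsMulCommutative

/-- `SL₃(2)`. -/
abbrev SLThree := Matrix.SpecialLinearGroup (Fin 3) (ZMod 2)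

theorem sl_three_simple : IsSimpleGroup SLThree := by
  haveI : Fact (Nat.Prime 2) := ⟨Nat.prime_two⟩
  obtain ⟨e⟩ := psl_three_equiv
  exact e.isSimpleGroup_congr.1 (Linear.PSL_simple_of_three_le (by simp))

/-- A transvection. -/
def transA : SLThree := ⟨!![1,1,0;0,1,0;0,0,1], by decide⟩

/-- Another transvection. -/
def transB : SLThree := ⟨!![1,0,0;0,1,1;0,0,1], by decide⟩

/-- An element of order three. -/
def cycleC : SLThree := ⟨!![0,1,0;0,0,1;1,0,0], by decide⟩

theorem trans_facts : transA * transA = 1 ∧ transB * transB = 1 ∧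
    transA * transB * (transA * transB) ≠ 1 ∧
    transA * transB * (transA * transB) * (transA * transB * (transA * transB)) = 1 ∧
    cycleC * (cycleC * cycleC) = 1 ∧ cycleC ≠ 1 := by decide +kernel

theorem sl_three_commutator : commutator SLThree = ⊤ := by
  haveI := sl_three_simple
  refine (IsSimpleGroup.eq_bot_or_eq_top_of_normal (commutator SLThree) inferInstance).resolve_left fun h => ?_
  have hm : ⁅transA, transB⁆ ∈ commutator SLThree :=
    Subgroup.commutator_mem_commutator (Subgroup.mem_top _) (Subgroup.mem_top _)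
  rw [h, Subgroup.mem_bot] at hm
  obtain ⟨hA, hB, hAB, -⟩ := trans_facts
  refine hAB ?_
  rwa [commutatorElement_def, inv_eq_of_mul_eq_one_right hA, inv_eq_of_mul_eq_one_right hB, mul_assoc] at hm

theorem upper_list : ∀ m : SLThree, (m.1 1 0 = 0 ∧ m.1 2 0 = 0 ∧ m.1 2 1 = 0) ↔
    m ∈ [1, transA, transB, transA * transB, transB * transA, transA * transB * transA,
      transB * transA * transB, transA * transB * transA * transB] := by decide +kernel

theorem card_upper :
    (Finset.univ.filter fun m : SLThree => m.1 1 0 = 0 ∧ m.1 2 0 = 0 ∧ m.1 2 1 = 0).card = 8 := by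
  decide +kernel

theorem upper_closed : ∀ m ∈ [transA, transB], ∀ n ∈ [1, transA, transB, transA * transB, transB * transA,
    transA * transB * transA, transB * transA * transB, transA * transB * transA * transB],
    m * n ∈ [1, transA, transB, transA * transB, transB * transA, transA * transB * transA,
      transB * transA * transB, transA * transB * transA * transB] := by decide +kernel

theorem card_closure_trans : Nat.card ↥(Subgroup.closure ({transA, transB} : Set SLThree)) = 8 := by
  classical
  obtain ⟨hA, hB, -⟩ := trans_facts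
  have hset : (Subgroup.closure ({transA, transB} : Set SLThree) : Set SLThree) =
      {m | m.1 1 0 = 0 ∧ m.1 2 0 = 0 ∧ m.1 2 1 = 0} := by
    refine Set.Subset.antisymm (fun m hm => (upper_list m).2 ?_) fun m hm => ?_
    · have hgen : ∀ x ∈ ({transA, transB} : Set SLThree), x ∈ [transA, transB] := by
        rintro x (rfl | rfl) <;> simp
      induction hm using Subgroup.closure_induction_left with
      | one => simp
      | mul_left x hx y _ ih => exact upper_closed x (hgen x hx) y ih
      | inv_mul_cancel x hx y _ ih =>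
        rcases hx with rfl | rfl
        · rw [inv_eq_of_mul_eq_one_right hA]; exact upper_closed _ (by simp) y ih
        · rw [inv_eq_of_mul_eq_one_right hB]; exact upper_closed _ (by simp) y ih
    · have ha : transA ∈ Subgroup.closure ({transA, transB} : Set SLThree) :=
        Subgroup.subset_closure (Or.inl rfl)
      have hb : transB ∈ Subgroup.closure ({transA, transB} : Set SLThree) :=
        Subgroup.subset_closure (Or.inr rfl)
      have hl := (upper_list m).1 hm
      simp only [List.mem_cons, List.not_mem_nil, or_false] at hl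
      rcases hl with rfl | rfl | rfl | rfl | rfl | rfl | rfl | rfl
      exacts [one_mem _, ha, hb, mul_mem ha hb, mul_mem hb ha, mul_mem (mul_mem ha hb) ha,
        mul_mem (mul_mem hb ha) hb, mul_mem (mul_mem (mul_mem ha hb) ha) hb]
  rw [← card_upper, ← Set.ncard_coe_finset, ← Nat.card_coe_set_eq]
  refine Nat.card_congr (Equiv.setCongr ?_)
  rw [hset]
  simp

theorem perm_five_commutant : ∀ g : Equiv.Perm (Fin 5), g ≠ 1 →
    ∃ h : Equiv.Perm (Fin 5), (g * (h * g * h⁻¹)) ^ 8 ≠ 1 := by decide +kernel

theorem perm_five_center : ∀ g : Equiv.Perm (Fin 5), (∀ h : Equiv.Perm (Fin 5), g * h = h * g) → g = 1 := by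
  decide +kernel

theorem perm_five_cent_three : ∀ g : Equiv.Perm (Fin 5), g * (g * g) = 1 → g ≠ 1 →
    (Finset.univ.filter fun h : Equiv.Perm (Fin 5) => h * g = g * h).card = 6 := by decide +kernel

/-- `Sym(5)` has no normal 2-subgroup. -/
theorem eq_bot_of_equiv_perm_five {W : Type*} [Group W] (e : W ≃* Equiv.Perm (Fin 5)) {N : Subgroup W}
    (hN : N.Normal) (h2 : IsPGroup 2 ↥N) : N = ⊥ := by
  haveI : Finite W := Finite.of_equiv _ e.symm.toEquiv
  refine (Subgroup.eq_bot_iff_forall _).2 fun g hg => ?_
  by_contra hne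
  obtain ⟨h, hh⟩ := perm_five_commutant (e g) fun h => hne (e.injective (h.trans (map_one e).symm))
  obtain ⟨h', rfl⟩ := e.surjective h
  set u : ↥N := ⟨g * (h' * g * h'⁻¹), N.mul_mem hg (hN.conj_mem g hg h')⟩
  obtain ⟨k, hk⟩ := IsPGroup.iff_orderOf.1 h2 u
  have hd : orderOf u ∣ 120 := by
    have h1 := orderOf_dvd_natCard (u : W)
    rwa [Nat.card_congr e.toEquiv, Nat.card_perm, Nat.card_fin, show Nat.factorial 5 = 120 from rfl,
      Subgroup.orderOf_coe] at h1
  rw [hk] at hd
  have hk3 : k ≤ 3 := by
    by_contra hc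
    exact absurd ((pow_dvd_pow 2 (show 4 ≤ k by omega)).trans hd) (by norm_num)
  have h8 : u ^ 8 = 1 := orderOf_dvd_iff_pow_eq_one.1 (hk ▸ pow_dvd_pow 2 hk3)
  refine hh ?_
  have := congrArg (fun v : ↥N => e (v : W)) h8
  simpa [u, map_mul, map_pow, map_inv, mul_assoc] using this

theorem center_of_equiv_perm_five {W : Type*} [Group W] (e : W ≃* Equiv.Perm (Fin 5)) {a : W}
    (h : ∀ b : W, a * b = b * a) : a = 1 := e.injective (by
  rw [map_one]
  refine perm_five_center _ fun g => ?_
  obtain ⟨b, rfl⟩ := e.surjective g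
  rw [← map_mul, ← map_mul, h b])

theorem card_cent_three_of_equiv {W : Type*} [Group W] (e : W ≃* Equiv.Perm (Fin 5)) {g : W}
    (hg : orderOf g = 3) : Nat.card ↥(Subgroup.centralizer ({g} : Set W)) = 6 := by
  classical
  have hg' : orderOf (e g) = 3 := by rw [MulEquiv.orderOf_eq, hg]
  have h1 := perm_five_cent_three (e g) (by
    have h3 := pow_orderOf_eq_one (e g)
    rw [hg'] at h3
    simpa [pow_succ, mul_assoc] using h3) fun h => by
      rw [h, orderOf_one] at hg'; omega
  rw [← h1, ← Subgroup.card_map_of_injective (f := e.toMonoidHom) e.injective, ← Set.ncard_coe_finset,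
    ← Nat.card_coe_set_eq]
  refine Nat.card_congr (Equiv.setCongr ?_)
  ext h
  obtain ⟨b, rfl⟩ := e.surjective h
  simp only [SetLike.mem_coe, Subgroup.mem_map, MulEquiv.coe_toMonoidHom, Finset.coe_filter, Finset.mem_univ,
    true_and, Set.mem_setOf_eq]
  constructor
  · rintro ⟨c, hc, hce⟩
    rw [← hce, ← map_mul, ← map_mul, Subgroup.mem_centralizer_singleton_iff.1 hc]
  · exact fun h => ⟨b, Subgroup.mem_centralizer_singleton_iff.2 (e.injective (by simpa using h)), rfl⟩

/-- A group generated by a normal subgroup and its centralizer, with simple quotient. -/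
theorem equiv_prod_of_center {M : Type*} [Group M] {B : Subgroup M} [hB : B.Normal]
    (hs : IsSimpleGroup (M ⧸ B)) (hc : ∀ a ∈ B, (∀ b ∈ B, a * b = b * a) → a = 1) {y : M} (hy : y ∉ B)
    (hyc : ∀ b ∈ B, y * b = b * y) : Nonempty (M ≃* ↥B × (M ⧸ B)) := by
  set C := Subgroup.centralizer (B : Set M) with hC
  haveI : C.Normal := by rw [hC]; infer_instance
  let q : ↥C →* M ⧸ B := (QuotientGroup.mk' B).comp C.subtype
  have hdis : ∀ {a}, a ∈ B → a ∈ C → a = 1 := fun {a} ha hac =>
    hc a ha fun b hb => ((Subgroup.mem_centralizer_iff.1 hac) b hb).symm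
  have hq : Function.Bijective q := by
    refine ⟨(injective_iff_map_eq_one q).2 fun a ha => Subtype.ext
      (hdis ((QuotientGroup.eq_one_iff (a : M)).1 ha) a.2), ?_⟩
    rw [← MonoidHom.range_eq_top, MonoidHom.range_comp, Subgroup.range_subtype]
    haveI : (C.map (QuotientGroup.mk' B)).Normal :=
      Subgroup.Normal.map inferInstance _ (QuotientGroup.mk'_surjective B)
    refine (IsSimpleGroup.eq_bot_or_eq_top_of_normal _ inferInstance).resolve_left fun h => hy ?_
    have hm : QuotientGroup.mk' B y ∈ C.map (QuotientGroup.mk' B) :=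
      ⟨y, Subgroup.mem_centralizer_iff.2 fun b hb => (hyc b hb).symm, rfl⟩
    rw [h, Subgroup.mem_bot] at hm
    exact (QuotientGroup.eq_one_iff y).1 hm
  let f : ↥B × ↥C →* M := B.subtype.noncommCoprod C.subtype fun b c =>
    Subgroup.mem_centralizer_iff.1 c.2 b b.2
  have hf : Function.Bijective f := by
    refine ⟨(injective_iff_map_eq_one f).2 ?_, fun m => ?_⟩
    · rintro ⟨b, c⟩ h
      have h' : (b : M) * c = 1 := h
      have hcB : (c : M) ∈ B := by rw [eq_inv_of_mul_eq_one_right h']; exact B.inv_mem b.2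
      have hc1 := hdis hcB c.2
      rw [hc1, mul_one] at h'
      exact Prod.ext (Subtype.ext h') (Subtype.ext hc1)
    · obtain ⟨c, hc'⟩ := hq.2 (QuotientGroup.mk' B m)
      have hb : m * (c : M)⁻¹ ∈ B := by
        have := (QuotientGroup.eq (s := B)).1 hc'
        have h' := hB.conj_mem _ this (c : M)
        simpa [mul_assoc] using h'
      exact ⟨(⟨_, hb⟩, c), inv_mul_cancel_right m (c : M)⟩
  exact ⟨(MulEquiv.ofBijective f hf).symm.trans
    ((MulEquiv.refl _).prodCongr (MulEquiv.ofBijective q hq))⟩

/-- At most `168` automorphisms of an elementary abelian group of order eight. -/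
theorem card_mulAut_eight {Q : Type*} [Group Q] [Finite Q] (h8 : Nat.card Q = 8) (h2 : ∀ a : Q, a * a = 1) :
    Nat.card (MulAut Q) ≤ 168 := by
  classical
  haveI : Fintype Q := Fintype.ofFinite Q
  have hcard : Fintype.card Q = 8 := by rw [← Nat.card_eq_fintype_card, h8]
  have hi : ∀ a : Q, a⁻¹ = a := fun a => inv_eq_of_mul_eq_one_right (h2 a)
  have hcm : ∀ a b : Q, a * b = b * a := fun a b => by rw [← hi (a * b), mul_inv_rev, hi, hi]
  set S1 : Finset Q := Finset.univ \ {1}
  set S2 : Q → Finset Q := fun u => Finset.univ \ {1, u}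
  set S3 : Q → Q → Finset Q := fun u v => Finset.univ \ {1, u, v, u * v}
  have h4 : ∀ {u v : Q}, u ∈ S1 → v ∈ S2 u → ({1, u, v, u * v} : Finset Q).card = 4 := by
    intro u v hu hv
    simp only [S1, S2, Finset.mem_sdiff, Finset.mem_univ, true_and, Finset.mem_insert, Finset.mem_singleton,
      not_or] at hu hv
    have n1 : u * v ≠ 1 := fun h => hv.2 ((eq_inv_of_mul_eq_one_right h).trans (hi u))
    have n2 : u * v ≠ u := fun h => hv.1 (mul_eq_left.1 h)
    have n3 : u * v ≠ v := fun h => hu (mul_eq_right.1 h)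
    simp [Ne.symm hu, Ne.symm hv.1, Ne.symm hv.2, n1.symm, n2.symm, n3.symm]
  set T := S1.sigma fun u => (S2 u).sigma fun v => S3 u v
  have hT : T.card ≤ 168 := by
    rw [Finset.card_sigma]
    refine (Finset.sum_le_card_nsmul _ _ 24 fun u hu => ?_).trans ?_
    · rw [Finset.card_sigma]
      refine (Finset.sum_le_card_nsmul _ _ 4 fun v hv => ?_).trans ?_
      · simp only [S3]
        rw [Finset.card_sdiff_of_subset (Finset.subset_univ _), h4 hu hv, Finset.card_univ, hcard]
      · simp only [S2, smul_eq_mul]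
        rw [Finset.card_sdiff_of_subset (Finset.subset_univ _), Finset.card_univ, hcard,
          Finset.card_pair (Ne.symm (by simpa [S1] using hu))]
    · simp only [S1, smul_eq_mul]
      rw [Finset.card_sdiff_of_subset (Finset.subset_univ _), Finset.card_univ, hcard, Finset.card_singleton]
  have hex : ∀ s : Finset Q, s.card < 8 → ∃ q, q ∉ s := fun s hs => by
    by_contra h
    push Not at h
    have := Finset.card_le_card (fun q _ => h q : Finset.univ ⊆ s)
    rw [Finset.card_univ, hcard] at this
    omega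
  obtain ⟨u, hu⟩ := hex {1} (by simp)
  obtain ⟨v, hv⟩ := hex {1, u} (lt_of_le_of_lt Finset.card_le_two (by norm_num))
  obtain ⟨w, hw⟩ := hex {1, u, v, u * v} (lt_of_le_of_lt Finset.card_le_four (by norm_num))
  simp only [Finset.mem_insert, Finset.mem_singleton, not_or] at hu hv hw
  -- the three elements generate
  have hgen : Subgroup.closure ({u, v, w} : Set Q) = ⊤ := by
    set K := Subgroup.closure ({u, v, w} : Set Q)
    have hm : ∀ {q}, q ∈ ({u, v, w} : Set Q) → q ∈ K := fun h => Subgroup.subset_closure h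
    have hu' := hm (q := u) (by simp)
    have hv' := hm (q := v) (by simp)
    have hw' := hm (q := w) (by simp)
    have h5 : ({1, u, v, u * v, w} : Finset Q).card = 5 := by
      have e4 := h4 (u := u) (v := v) (by simpa [S1] using hu) (by simp [S2, hv.1, hv.2])
      rw [show ({1, u, v, u * v, w} : Finset Q) = insert w {1, u, v, u * v} by
        ext q; simp only [Finset.mem_insert, Finset.mem_singleton]; tauto,
        Finset.card_insert_of_notMem (by simp [hw.1, hw.2.1, hw.2.2.1, hw.2.2.2]), e4]
    have hsub : ({1, u, v, u * v, w} : Finset Q) ⊆ (Finset.univ.filter fun q => q ∈ K) := by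
      intro q hq
      simp only [Finset.mem_insert, Finset.mem_singleton] at hq
      refine Finset.mem_filter.2 ⟨Finset.mem_univ _, ?_⟩
      rcases hq with rfl | rfl | rfl | rfl | rfl
      exacts [one_mem _, hu', hv', mul_mem hu' hv', hw']
    have hc := Finset.card_le_card hsub
    rw [h5, ← Fintype.card_subtype, ← Nat.card_eq_fintype_card] at hc
    have hc' : 5 ≤ Nat.card ↥K := hc
    refine Subgroup.eq_top_of_card_eq _ ?_
    have hd := h8 ▸ K.card_subgroup_dvd_card
    rw [h8]
    have h8' := Nat.le_of_dvd (by norm_num) hd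
    interval_cases h : Nat.card ↥K <;> omega
  let f : MulAut Q → (Σ _ : Q, Σ _ : Q, Q) := fun φ => ⟨φ u, φ v, φ w⟩
  have hf : ∀ φ, f φ ∈ T := fun φ => by
    have hne : ∀ {a b : Q}, a ≠ b → φ a ≠ φ b := fun h e => h (φ.injective e)
    simp only [T, f, S1, S2, S3, Finset.mem_sigma, Finset.mem_sdiff, Finset.mem_univ, true_and,
      Finset.mem_insert, Finset.mem_singleton, not_or]
    have h0 : ∀ {a : Q}, a ≠ 1 → φ a ≠ 1 := fun h e => h (φ.injective (e.trans (map_one φ).symm))
    exact ⟨h0 hu, ⟨h0 hv.1, hne hv.2⟩, h0 hw.1, hne hw.2.1, hne hw.2.2.1,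
      fun e => hne hw.2.2.2 (e.trans (map_mul φ u v).symm)⟩
  have hinj : Function.Injective (fun φ => (⟨f φ, hf φ⟩ : ↥T)) := fun φ χ h => by
    have h' : f φ = f χ := congrArg Subtype.val h
    simp only [f, Sigma.mk.injEq, heq_eq_eq] at h'
    refine MulEquiv.toMonoidHom_injective (MonoidHom.eq_of_eqOn_dense hgen ?_)
    rintro q (rfl | rfl | rfl)
    exacts [h'.1, h'.2.1, h'.2.2]
  exact (Nat.card_le_card_of_injective _ hinj).trans (by
    rw [Nat.card_eq_fintype_card, Fintype.card_coe]; exact hT)

/-- A central extension of `SL₃(2)` by a group of order dividing six whose involutions lift to involutions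
splits. -/
theorem exists_sl_lift {S : Type*} [Group S] [Finite S] (φ : S →* SLThree) (hφ : Function.Surjective φ)
    (hcen : ∀ k ∈ φ.ker, ∀ s : S, Commute k s) (h6 : ∀ k ∈ φ.ker, k ^ 6 = 1)
    (hinv : ∀ s : S, φ s * φ s = 1 → (s * s) ^ 3 = 1) : Nonempty (↥(commutator S) ≃* SLThree) := by
  classical
  have hmap : (commutator S).map φ = ⊤ := by
    rw [commutator_def, Subgroup.map_commutator, Subgroup.map_top_of_surjective φ hφ, ← commutator_def,
      sl_three_commutator]
  have hidx : ∀ U : Subgroup SLThree, (U.comap φ).index * Nat.card ↥U = 168 := fun U => by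
    rw [Subgroup.index_comap_of_surjective U hφ, mul_comm, U.card_mul_index, card_sl_three]
  have hkey : ∀ (H : Subgroup S) (k : S), k ∈ φ.ker →
      ∀ (j : ℕ) (g : S), g⁻¹ * k ^ j * g ∈ H → g⁻¹ * k ^ j * g = k ^ j := fun H k hk j g _ => by
    rw [mul_assoc, ((hcen k hk g).pow_left j).eq, inv_mul_cancel_left]
  suffices hdis : ∀ k ∈ φ.ker, k ∈ commutator S → k = 1 by
    exact ⟨MulEquiv.ofBijective (φ.comp (commutator S).subtype)
      ⟨(injective_iff_map_eq_one _).2 fun a ha => Subtype.ext (hdis a ha a.2), by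
        rw [← MonoidHom.range_eq_top, MonoidHom.range_comp, Subgroup.range_subtype, hmap]⟩⟩
  intro k hk hkc
  obtain ⟨hA0, hB0, hAB, hAB2, hC3, hC1⟩ := trans_facts
  -- the two parts
  have hk3 : k ^ 3 = 1 := by
    obtain ⟨a, ha⟩ := hφ transA
    obtain ⟨b, hb⟩ := hφ transB
    set X := a ^ 3 with hX
    set Y := b ^ 3 with hY
    have hX1 : φ X = transA := by rw [hX, map_pow, ha, pow_succ, pow_two, hA0, one_mul]
    have hY1 : φ Y = transB := by rw [hY, map_pow, hb, pow_succ, pow_two, hB0, one_mul]
    have hX2 : X * X = 1 := by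
      rw [hX, ← (Commute.refl a).mul_pow]; exact hinv a (by rw [ha, hA0])
    have hY2 : Y * Y = 1 := by
      rw [hY, ← (Commute.refl b).mul_pow]; exact hinv b (by rw [hb, hB0])
    have hXi : X⁻¹ = X := inv_eq_of_mul_eq_one_right hX2
    have hYi : Y⁻¹ = Y := inv_eq_of_mul_eq_one_right hY2
    set c := X * Y * (X * Y) with hc
    have hφc : φ c = transA * transB * (transA * transB) := by simp [hc, hX1, hY1]
    have hc6 : (c * c) ^ 3 = 1 := hinv c (by rw [hφc]; exact hAB2)
    set U := Subgroup.closure ({transA, transB} : Set SLThree)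
    set P := U.comap φ
    have hXP : X ∈ P := Subgroup.mem_comap.2 (hX1 ▸ Subgroup.subset_closure (Or.inl rfl))
    have hYP : Y ∈ P := Subgroup.mem_comap.2 (hY1 ▸ Subgroup.subset_closure (Or.inr rfl))
    have hkP : k ∈ P := Subgroup.mem_comap.2 (by rw [MonoidHom.mem_ker.1 hk]; exact one_mem _)
    have hcP : c ∈ P := P.mul_mem (P.mul_mem hXP hYP) (P.mul_mem hXP hYP)
    set C := Subgroup.zpowers (⟨c, hcP⟩ : ↥P)
    have hPgen : ∀ s ∈ P, s ∈ Subgroup.closure (insert X (insert Y (φ.ker : Set S))) := by
      intro s hs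
      have hK : φ.ker ≤ Subgroup.closure (insert X (insert Y (φ.ker : Set S))) := fun u hu =>
        Subgroup.subset_closure (Set.mem_insert_of_mem _ (Set.mem_insert_of_mem _ hu))
      have hU : U = (Subgroup.closure ({X, Y} : Set S)).map φ := by
        rw [MonoidHom.map_closure, Set.image_pair, hX1, hY1]
      have hs' := Subgroup.mem_comap.1 hs
      rw [hU] at hs'
      obtain ⟨s', hs', e⟩ := hs'
      have h1 : s'⁻¹ * s ∈ φ.ker := by rw [MonoidHom.mem_ker, map_mul, map_inv, e, inv_mul_cancel]
      have := mul_mem (Subgroup.closure_mono (k := insert X (insert Y (φ.ker : Set S)))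
        (Set.insert_subset_insert (Set.singleton_subset_iff.2 (Set.mem_insert _ _))) hs') (hK h1)
      rwa [mul_inv_cancel_left] at this
    -- conjugation on the cyclic group
    have hconj : ∀ s ∈ P, s * c * s⁻¹ = c ∨ s * c * s⁻¹ = c⁻¹ := by
      intro s hs
      have hX' : X * c * X⁻¹ = c⁻¹ := by
        rw [hc]
        simp only [mul_inv_rev, hXi, hYi]
        simp only [← mul_assoc, hX2, one_mul]
      have hY' : Y * c * Y⁻¹ = c⁻¹ := by
        rw [hc]
        simp only [mul_inv_rev, hXi, hYi]
        simp only [mul_assoc, hY2, mul_one]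
      have hgen := hPgen s hs
      clear hs
      induction hgen using Subgroup.closure_induction with
      | mem u hu =>
        rcases hu with rfl | rfl | hu
        · exact Or.inr hX'
        · exact Or.inr hY'
        · exact Or.inl (by rw [(hcen u hu c).eq, mul_inv_cancel_right])
      | one => simp
      | mul u v _ _ hu hv =>
        rw [show u * v * c * (u * v)⁻¹ = u * (v * c * v⁻¹) * u⁻¹ by group]
        rcases hv with hv | hv <;> rw [hv]
        · exact hu
        · rw [← conj_inv]
          rcases hu with hu | hu <;> rw [hu]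
          exacts [Or.inr rfl, Or.inl (inv_inv c)]
      | inv u _ hu =>
        rcases hu with hu | hu
        · refine Or.inl ?_
          conv_lhs => rw [← hu]
          group
        · refine Or.inr ?_
          have h' : u⁻¹ * c⁻¹ * u = c := by rw [← hu]; group
          rw [inv_inv, ← inv_inj, inv_inv, mul_inv_rev, mul_inv_rev, inv_inv, ← mul_assoc]
          exact h'
    haveI hCn : C.Normal := ⟨fun n hn g => by
      obtain ⟨i, rfl⟩ := Subgroup.mem_zpowers_iff.1 hn
      rw [← conj_zpow]
      refine Subgroup.zpow_mem _ ?_ i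
      rcases hconj g g.2 with e | e
      · exact Subgroup.mem_zpowers_iff.2 ⟨1, Subtype.ext (by simpa using e.symm)⟩
      · exact Subgroup.mem_zpowers_iff.2 ⟨-1, Subtype.ext (by simpa using e.symm)⟩⟩
    haveI : IsMulCommutative (↥P ⧸ C) := by
      refine ⟨⟨fun x y => ?_⟩⟩
      obtain ⟨g, rfl⟩ := QuotientGroup.mk'_surjective C x
      obtain ⟨h, rfl⟩ := QuotientGroup.mk'_surjective C y
      set π := QuotientGroup.mk' C
      have gens : ∀ u ∈ insert X (insert Y (φ.ker : Set S)), u ∈ P := by
        rintro u (rfl | rfl | hu)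
        exacts [hXP, hYP, Subgroup.mem_comap.2 (by rw [MonoidHom.mem_ker.1 hu]; exact one_mem _)]
      have hXY : Commute (π ⟨X, hXP⟩) (π ⟨Y, hYP⟩) := by
        show π ⟨X, hXP⟩ * π ⟨Y, hYP⟩ = π ⟨Y, hYP⟩ * π ⟨X, hXP⟩
        rw [← map_mul, ← map_mul]
        refine QuotientGroup.eq.2 (Subgroup.mem_zpowers_iff.2 ⟨-1, Subtype.ext ?_⟩)
        simp [hc, mul_inv_rev, hXi, hYi, mul_assoc]
      have pair : ∀ u (hu : u ∈ insert X (insert Y (φ.ker : Set S))), ∀ v
          (hv : v ∈ insert X (insert Y (φ.ker : Set S))),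
          Commute (π ⟨u, gens u hu⟩) (π ⟨v, gens v hv⟩) := by
        intro u hu v hv
        rcases hu with rfl | rfl | hu'
        · rcases hv with rfl | rfl | hv'
          exacts [Commute.refl _, hXY, (show Commute (⟨X, hXP⟩ : ↥P) ⟨v, _⟩ from
            Subtype.ext (hcen v hv' X).eq.symm).map π]
        · rcases hv with rfl | rfl | hv'
          exacts [hXY.symm, Commute.refl _, (show Commute (⟨Y, hYP⟩ : ↥P) ⟨v, _⟩ from
            Subtype.ext (hcen v hv' Y).eq.symm).map π]
        · exact (show Commute (⟨u, gens u (Set.mem_insert_of_mem _ (Set.mem_insert_of_mem _ hu'))⟩ : ↥P)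
            ⟨v, gens v hv⟩ from Subtype.ext (hcen u hu' v).eq).map π
      have step : ∀ u (hu : u ∈ insert X (insert Y (φ.ker : Set S))), ∀ g : ↥P,
          Commute (π ⟨u, gens u hu⟩) (π g) := by
        intro u hu g
        have : ∀ s ∈ Subgroup.closure (insert X (insert Y (φ.ker : Set S))), ∀ hs : s ∈ P,
            Commute (π ⟨u, gens u hu⟩) (π ⟨s, hs⟩) := by
          intro s hs
          induction hs using Subgroup.closure_induction with
          | mem v hv => exact fun _ => pair u hu v hv
          | one =>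
            intro h1
            rw [show (⟨1, h1⟩ : ↥P) = 1 from rfl, map_one]
            exact Commute.one_right _
          | mul v w hv hw ihv ihw =>
            intro hvw
            have hv' : v ∈ P := (Subgroup.closure_le P).2 gens hv
            have hw' : w ∈ P := (Subgroup.closure_le P).2 gens hw
            rw [show (⟨v * w, hvw⟩ : ↥P) = ⟨v, hv'⟩ * ⟨w, hw'⟩ from rfl, map_mul]
            exact (ihv hv').mul_right (ihw hw')
          | inv v hv ihv =>
            intro hvi
            have hv' : v ∈ P := (Subgroup.closure_le P).2 gens hv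
            rw [show (⟨v⁻¹, hvi⟩ : ↥P) = ⟨v, hv'⟩⁻¹ from rfl, map_inv]
            exact (ihv hv').inv_right
        exact this g (hPgen g g.2) g.2
      have : ∀ s ∈ Subgroup.closure (insert X (insert Y (φ.ker : Set S))), ∀ hs : s ∈ P,
          Commute (π ⟨s, hs⟩) (π h) := by
        intro s hs
        induction hs using Subgroup.closure_induction with
        | mem v hv => exact fun _ => step v hv h
        | one =>
          intro h1
          rw [show (⟨1, h1⟩ : ↥P) = 1 from rfl, map_one]
          exact Commute.one_left _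
        | mul v w hv hw ihv ihw =>
          intro hvw
          have hv' : v ∈ P := (Subgroup.closure_le P).2 gens hv
          have hw' : w ∈ P := (Subgroup.closure_le P).2 gens hw
          rw [show (⟨v * w, hvw⟩ : ↥P) = ⟨v, hv'⟩ * ⟨w, hw'⟩ from rfl, map_mul]
          exact (ihv hv').mul_left (ihw hw')
        | inv v hv ihv =>
          intro hvi
          have hv' : v ∈ P := (Subgroup.closure_le P).2 gens hv
          rw [show (⟨v⁻¹, hvi⟩ : ↥P) = ⟨v, hv'⟩⁻¹ from rfl, map_inv]
          exact (ihv hv').inv_left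
      exact (this g (hPgen g g.2) g.2).eq
    have hT := (Abelianization.commutator_subset_ker (MonoidHom.transfer (QuotientGroup.mk' C))) hkc
    rw [MonoidHom.mem_ker, MonoidHom.transfer_eq_pow _ k (hkey P k hk), QuotientGroup.mk'_apply,
      QuotientGroup.eq_one_iff] at hT
    have hPi : P.index = 21 := by
      have := hidx U
      rw [card_closure_trans] at this
      show (U.comap φ).index = 21
      omega
    obtain ⟨i, hi⟩ := Subgroup.mem_zpowers_iff.1 hT
    have hi' : c ^ i = k ^ 21 := by
      have h' := congrArg Subtype.val hi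
      simp only [Subgroup.coe_zpow] at h'
      rwa [hPi] at h'
    have hev : Even i := by
      by_contra hodd
      obtain ⟨j, rfl⟩ := Int.not_even_iff_odd.1 hodd
      refine hAB ?_
      have h' := congrArg φ hi'
      rw [map_zpow, map_pow, MonoidHom.mem_ker.1 hk, one_pow, hφc, zpow_add, zpow_mul, zpow_two, hAB2,
        one_zpow, one_mul, zpow_one] at h'
      exact h'
    obtain ⟨j, rfl⟩ := hev
    have h63 : k ^ 63 = 1 := by
      rw [show 63 = 21 * 3 from rfl, pow_mul, ← hi', zpow_add, ← (Commute.refl c).mul_zpow, ← zpow_natCast,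
        ← zpow_mul, mul_comm, zpow_mul, zpow_natCast, hc6, one_zpow]
    have := pow_gcd_eq_one.2 ⟨h63, h6 k hk⟩
    rwa [show Nat.gcd 63 6 = 3 by norm_num] at this
  obtain ⟨s, hs⟩ := hφ cycleC
  set U := Subgroup.zpowers cycleC
  set P := U.comap φ
  haveI : IsMulCommutative ↥P := by
    refine ⟨⟨fun x y => Subtype.ext ?_⟩⟩
    have hdec : ∀ g ∈ P, ∃ i : ℤ, ∃ u ∈ φ.ker, g = s ^ i * u := by
      intro g hg
      obtain ⟨i, hi⟩ := Subgroup.mem_zpowers_iff.1 (Subgroup.mem_comap.1 hg)
      exact ⟨i, (s ^ i)⁻¹ * g, by rw [MonoidHom.mem_ker, map_mul, map_inv, map_zpow, hs, hi, inv_mul_cancel],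
        (mul_inv_cancel_left _ _).symm⟩
    obtain ⟨i, u, hu, hx⟩ := hdec x x.2
    obtain ⟨j, v, hv, hy⟩ := hdec y y.2
    show (x : S) * y = y * x
    rw [hx, hy]
    exact ((((Commute.refl s).zpow_zpow i j).mul_right ((hcen v hv _).symm)).mul_left
      ((hcen u hu _).mul_right (hcen u hu v))).eq
  have hT := (Abelianization.commutator_subset_ker (MonoidHom.transfer (MonoidHom.id ↥P))) hkc
  rw [MonoidHom.mem_ker, MonoidHom.transfer_eq_pow _ k (hkey P k hk), MonoidHom.id_apply] at hT
  have h56 : k ^ 56 = 1 := by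
    have hU : Nat.card ↥U = 3 := by
      haveI : Fact (Nat.Prime 3) := ⟨Nat.prime_three⟩
      rw [Nat.card_zpowers]
      exact orderOf_eq_prime (by rw [pow_succ', pow_two]; exact hC3) hC1
    have := hidx U
    rw [hU] at this
    have h := congrArg Subtype.val hT
    simp only [Subgroup.coe_one] at h
    rwa [show P.index = 56 by show (U.comap φ).index = 56; omega] at h
  have := pow_gcd_eq_one.2 ⟨h56, hk3⟩
  rwa [show Nat.gcd 56 3 = 1 by norm_num, pow_one] at this

end Cfsg.Lib.JankoFour
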