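import Cfsg.Agent.Lib.JankoFourLocal.Seven
import Cfsg.Agent.Lib.JankoFourLocal.PentadGroup

/-!
# The normalizer and the centralizer of the elements over the duad line
-/

set_option autoImplicit false
set_option linter.style.haveILetI false
set_option linter.unusedSectionVars false

namespace Cfsg.Lib.JankoFour

open Cfsg Cfsg.Lib.Extra Module
open scoped Pointwise

/-- An element normalizes a finite subgroup if it maps it into itself. -/
theorem mem_normalizer_of_conj {K : Type*} [Group K] [Finite K] {H : Subgroup K} {g : K}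
    (h : ∀ a ∈ H, g * a * g⁻¹ ∈ H) : g ∈ Subgroup.normalizer (H : Set K) := by
  refine Subgroup.mem_normalizer_iff.2 fun a => ⟨h a, fun ha => ?_⟩
  have := conj_inv_mem h ha
  rwa [show g⁻¹ * (g * a * g⁻¹) * g = a by group] at this

/-- The fixed points of an element of prime order on a subgroup it normalizes. -/
theorem card_cent_inf_modEq {K : Type*} [Group K] [Finite K] {q : ℕ} [hq : Fact q.Prime] {w : K}
    (hw : orderOf w = q) {P : Subgroup K} (hn : w ∈ Subgroup.normalizer (P : Set K)) :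
    Nat.card ↥P ≡ Nat.card ↥(P ⊓ Subgroup.centralizer ({w} : Set K)) [MOD q] := by
  have hle : Subgroup.zpowers w ≤ Subgroup.normalizer (P : Set K) := Subgroup.zpowers_le.2 hn
  let φ : ↥(Subgroup.zpowers w) →* MulAut ↥P := P.normalizerMonoidHom.comp (Subgroup.inclusion hle)
  letI : MulAction ↥(Subgroup.zpowers w) ↥P := MulAction.compHom ↥P φ
  have h := (IsPGroup.of_card (n := 1) (by rw [Nat.card_zpowers, hw, pow_one]) :
    IsPGroup q ↥(Subgroup.zpowers w)).card_modEq_card_fixedPoints (α := ↥P)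
  have e : Nat.card ↥(MulAction.fixedPoints ↥(Subgroup.zpowers w) ↥P) =
      Nat.card ↥(P ⊓ Subgroup.centralizer ({w} : Set K)) := by
    refine Nat.card_congr
      { toFun := fun a => ⟨((a : ↥P) : K), (a : ↥P).2, Subgroup.mem_centralizer_singleton_iff.2 ?_⟩
        invFun := fun a => ⟨⟨a, a.2.1⟩, fun s => Subtype.ext ?_⟩
        left_inv := fun a => rfl
        right_inv := fun a => rfl }
    · have h1 : w * ((a : ↥P) : K) * w⁻¹ = (a : ↥P) := congrArg Subtype.val (a.2 ⟨w, Subgroup.mem_zpowers w⟩)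
      exact (mul_inv_eq_iff_eq_mul.1 h1).symm
    · obtain ⟨i, hi⟩ := Subgroup.mem_zpowers_iff.1 s.2
      show (s : K) * a * (s : K)⁻¹ = a
      rw [← hi, ((show Commute (a : K) w from
        Subgroup.mem_centralizer_singleton_iff.1 a.2.2).zpow_right i).symm.eq, mul_inv_cancel_right]
  rwa [e] at h

/-- Commuting with a power of an element of prime order. -/
theorem commute_of_commute_pow {K : Type*} [Group K] {q : ℕ} [hq : Fact q.Prime] {g w : K} {k : ℕ}
    (hw : w ^ q = 1) (hk : w ^ k ≠ 1) (h : Commute g (w ^ k)) : Commute g w := by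
  have hco : Nat.Coprime k q := by
    refine Nat.Coprime.symm ((hq.out.coprime_iff_not_dvd).2 fun hd => hk ?_)
    obtain ⟨c, rfl⟩ := hd
    rw [pow_mul, hw, one_pow]
  have hw1 : w ≠ 1 := fun e => hk (by rw [e, one_pow])
  have ho : orderOf w = q := orderOf_eq_prime hw hw1
  obtain ⟨j, hj⟩ := exists_pow_eq_self_of_coprime (x := w) (n := k) (by rw [ho]; exact hco)
  exact hj ▸ h.pow_right j

/-- Centralizers of elements of a prime order whose square does not divide the order. -/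
theorem card_centralizer_of_prime {K : Type*} [Group K] [Finite K] {q : ℕ} [hq : Fact q.Prime]
    (h : ¬ q ^ 2 ∣ Nat.card K) {a b : K} (ha : orderOf a = q) (hb : orderOf b = q) :
    Nat.card ↥(Subgroup.centralizer ({a} : Set K)) = Nat.card ↥(Subgroup.centralizer ({b} : Set K)) := by
  obtain ⟨m, k, hk⟩ := exists_conj_of_sq_not_dvd h ha hb
  have hbk : b ^ k ≠ 1 := fun e => by
    rw [e, conj_eq_one_iff] at hk
    rw [hk, orderOf_one] at ha
    exact hq.out.one_lt.ne ha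
  have hbq : b ^ q = 1 := hb ▸ pow_orderOf_eq_one b
  have e : (Subgroup.centralizer ({a} : Set K)).map (MulAut.conj m).toMonoidHom =
      Subgroup.centralizer ({b} : Set K) := by
    ext g
    simp only [Subgroup.mem_map, MulEquiv.coe_toMonoidHom, MulAut.conj_apply,
      Subgroup.mem_centralizer_singleton_iff]
    constructor
    · rintro ⟨c, hc, rfl⟩
      exact (commute_of_commute_pow hbq hbk (hk ▸ (show Commute c a from hc).map (MulAut.conj m).toMonoidHom)).eq
    · intro hg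
      refine ⟨m⁻¹ * g * m, ?_, by group⟩
      have h1 : Commute g (m * a * m⁻¹) := hk ▸ (show Commute g b from hg).pow_right k
      have h2 := h1.map (MulAut.conj m⁻¹).toMonoidHom
      simp only [MulEquiv.coe_toMonoidHom, MulAut.conj_apply, inv_inv] at h2
      rwa [show m⁻¹ * (m * a * m⁻¹) * m = a by group] at h2
  rw [← e, Subgroup.card_map_of_injective (MulAut.conj m).injective]

namespace Frame

variable {G : Type*} [Group G] [Finite G] {A : Type} [Group A] {I : Subgroup A}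

/-- The elements over the duad line. -/
noncomputable abbrev duadQ (F : Frame G A I) (D : LocalData A I) : Subgroup G := F.pre (F.fixR D.Rd)

/-- Their normalizer. -/
noncomputable abbrev duadM (F : Frame G A I) (D : LocalData A I) : Subgroup G :=
  Subgroup.normalizer (F.duadQ D : Set G)

/-- Their centralizer. -/
noncomputable abbrev duadK (F : Frame G A I) (D : LocalData A I) : Subgroup G :=
  Subgroup.centralizer (F.duadQ D : Set G)

variable {F : Frame G A I} {D : LocalData A I}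

theorem mem_duadK {g : G} : g ∈ F.duadK D ↔ ∀ a ∈ F.duadQ D, Commute g a := by
  rw [Subgroup.mem_centralizer_iff]
  exact ⟨fun h a ha => (h a ha).symm, fun h a ha => (h a ha).symm⟩

theorem duadK_le_M : F.duadK D ≤ F.duadM D := Subgroup.centralizer_le_normalizer _

theorem duadK_comm_z {g : G} (hg : g ∈ F.duadK D) : Commute g F.z := mem_duadK.1 hg _ (F.z_mem_pre _)

theorem duadK_conj {m g : G} (hm : m ∈ F.duadM D) (hg : g ∈ F.duadK D) : m * g * m⁻¹ ∈ F.duadK D :=
  mem_duadK.2 fun a ha => by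
    have h1 := (Subgroup.mem_normalizer_iff.1 (inv_mem hm) a).1 ha
    have h2 := (mem_duadK.1 hg _ h1).map (MulAut.conj m).toMonoidHom
    simp only [MulEquiv.coe_toMonoidHom, MulAut.conj_apply, inv_inv] at h2
    rwa [show m * (m⁻¹ * a * m) * m⁻¹ = a by group] at h2

theorem p_mem_duadM : F.p ∈ F.duadM D := mem_normalizer_of_conj fun a ha =>
  ⟨F.conj_mem F.p_comm ha.1, by
    show JankoFour.cls F.ctx _ ∈ _
    rw [← act_cls F.ctx F.p_comm ha.1]
    exact F.p_fixR _ ha.2⟩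

namespace FivePt

variable (P : FivePt F D)

include P in
theorem card_duadQ : Nat.card ↥(F.duadQ D) = 8 := by
  haveI : FiniteDimensional (ZMod 2) F.V := Module.Finite.of_finite
  obtain ⟨v, hv0, -, hU, -⟩ := F.duad_line D P.mem P.img_x P.ord
  rw [F.card_pre, hU, F.finrank_line hv0]
  norm_num

include P in
theorem duadQ_sq {a : G} (ha : a ∈ F.duadQ D) : a * a = 1 := by
  obtain ⟨v, -, hq, hU, -⟩ := F.duad_line D P.mem P.img_x P.ord
  refine (qf_cls F.ctx ha.1).1 ?_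
  rcases F.mem_line.1 (hU ▸ ha.2 : F.cls a ∈ F.line v) with e | e | e | e
  · rw [show JankoFour.cls F.ctx a = 0 from e, qf_zero]
  · rw [show JankoFour.cls F.ctx a = v from e, hq]
  · rw [show JankoFour.cls F.ctx a = _ from e, qf_act F.ctx F.p_comm, hq]
  · rw [show JankoFour.cls F.ctx a = _ from e, qf_act F.ctx F.p_comm, qf_act F.ctx F.p_comm, hq]

include P in
theorem duadQ_comm {a b : G} (ha : a ∈ F.duadQ D) (hb : b ∈ F.duadQ D) : Commute a b := by
  show a * b = b * a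
  have hi : ∀ {c}, c ∈ F.duadQ D → c⁻¹ = c := fun hc => inv_eq_of_mul_eq_one_right (P.duadQ_sq hc)
  rw [← hi (mul_mem ha hb), mul_inv_rev, hi ha, hi hb]

theorem x_mem_K : P.x ∈ F.duadK D :=
  mem_duadK.2 fun _ ha => (P.mem_Cx.1 (P.pre_le_Cx ha)).symm

theorem Cx_le_M : P.Cx ≤ F.duadM D := fun g hg => by
  obtain ⟨-, -, N, hN, hcomm, h2, h8, -⟩ := P.exists_eight
  exact mem_normalizer_of_conj fun a ha => P.conj_pre hcomm h2 h8 hg ha

/-- The normalizer of the element of order five normalizes the elements over the duad line. -/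
theorem normalizer_x_le : Subgroup.normalizer (Subgroup.zpowers P.x : Set G) ≤ F.duadM D := by
  intro g hg
  obtain ⟨-, -, N, hN, hcomm, h2, h8, -⟩ := P.exists_eight
  set Q := F.duadQ D
  have hnorm : ∀ {h : G}, h ∈ Subgroup.normalizer (Subgroup.zpowers P.x : Set G) → ∀ w ∈ P.Cx,
      h * w * h⁻¹ ∈ P.Cx := by
    intro h hh w hw
    rw [← P.centralizer_x, Subgroup.mem_centralizer_iff] at hw ⊢
    intro u hu
    have hu' := (Subgroup.mem_normalizer_iff.1 (inv_mem hh) u).1 hu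
    rw [inv_inv] at hu'
    have := (show Commute (h⁻¹ * u * h) w from hw _ hu').map (MulAut.conj h).toMonoidHom
    simp only [MulEquiv.coe_toMonoidHom, MulAut.conj_apply] at this
    rw [show h * (h⁻¹ * u * h) * h⁻¹ = u by group] at this
    exact this.eq
  set Q' := Q.map (MulAut.conj g).toMonoidHom
  have hQ'le : Q' ≤ P.Cx := by
    rintro _ ⟨a, ha, rfl⟩
    exact hnorm hg a (P.pre_le_Cx ha)
  have hQ'conj : ∀ c ∈ P.Cx, ∀ a ∈ Q', c * a * c⁻¹ ∈ Q' := by
    rintro c hc _ ⟨a, ha, rfl⟩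
    have hc' : g⁻¹ * c * g ∈ P.Cx := by
      have := hnorm (inv_mem hg) c hc
      rwa [inv_inv] at this
    refine ⟨g⁻¹ * c * g * a * (g⁻¹ * c * g)⁻¹, P.conj_pre hcomm h2 h8 hc' ha, ?_⟩
    simp only [MulEquiv.coe_toMonoidHom, MulAut.conj_apply]
    group
  have hQ'sq : ∀ a ∈ Q', a * a = 1 := by
    rintro _ ⟨a, ha, rfl⟩
    rw [← map_mul, P.duadQ_sq ha, map_one]
  have hQ'comm : ∀ a ∈ Q', ∀ b ∈ Q', Commute a b := by
    rintro _ ⟨a, ha, rfl⟩ _ ⟨b, hb, rfl⟩
    exact (P.duadQ_comm ha hb).map _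
  have hx1 : ∀ {i : ℤ}, (P.x ^ i) * (P.x ^ i) = 1 → P.x ^ i = 1 := fun {i} h => by
    refine orderOf_dvd_iff_zpow_eq_one.1 ?_
    rw [← zpow_add] at h
    have := orderOf_dvd_iff_zpow_eq_one.2 h
    rw [P.ord] at this ⊢
    omega
  set N' := (Q'.subgroupOf P.Cx).map P.pr with hN'def
  haveI hN' : N'.Normal := by
    haveI : (Q'.subgroupOf P.Cx).Normal := ⟨fun n hn c => hQ'conj c c.2 n hn⟩
    exact Subgroup.Normal.map inferInstance _ P.pr_surj
  have hcomm' : IsMulCommutative ↥N' := by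
    refine ⟨⟨?_⟩⟩
    rintro ⟨_, a, ha, rfl⟩ ⟨_, b, hb, rfl⟩
    refine Subtype.ext ?_
    show P.pr a * P.pr b = P.pr b * P.pr a
    rw [← map_mul, ← map_mul]
    exact congrArg P.pr (Subtype.ext (hQ'comm _ ha _ hb).eq)
  have h2' : ∀ n ∈ N', n ^ 2 = 1 := by
    rintro _ ⟨a, ha, rfl⟩
    rw [pow_two, ← map_mul, show a * a = 1 from Subtype.ext (hQ'sq _ ha), map_one]
  have h8' : Nat.card ↥N' = 8 := by
    have e : Nat.card ↥(Q'.subgroupOf P.Cx) = 8 := by
      rw [Nat.card_congr (Subgroup.subgroupOfEquivOfLe hQ'le).toEquiv,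
        Subgroup.card_map_of_injective (MulAut.conj g).injective, P.card_duadQ]
    rw [← e]
    refine (Nat.card_congr (Equiv.ofBijective (fun a : ↥(Q'.subgroupOf P.Cx) =>
      (⟨P.pr a, a, a.2, rfl⟩ : ↥N')) ⟨fun a b h => ?_, ?_⟩)).symm
    · have hab : (a : ↥P.Cx)⁻¹ * b ∈ Q'.subgroupOf P.Cx := mul_mem (inv_mem a.2) b.2
      obtain ⟨i, hi⟩ := Subgroup.mem_zpowers_iff.1 (P.pr_eq_iff.1 (congrArg Subtype.val h))
      have h1 := hQ'sq _ hab
      change ((a : ↥P.Cx) : G)⁻¹ * ((b : ↥P.Cx) : G) * (((a : ↥P.Cx) : G)⁻¹ * ((b : ↥P.Cx) : G)) = 1 at h1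
      rw [← hi] at h1
      have h0 : ((a : ↥P.Cx) : G)⁻¹ * ((b : ↥P.Cx) : G) = 1 := hi.symm.trans (hx1 h1)
      exact Subtype.ext (Subtype.ext (inv_mul_eq_one.1 h0))
    · rintro ⟨_, a, ha, rfl⟩
      exact ⟨⟨a, ha⟩, rfl⟩
  obtain ⟨hle, -⟩ := P.eight_le hcomm' h2' h8'
  refine mem_normalizer_of_conj fun a ha => ?_
  have hb : g * a * g⁻¹ ∈ Q' := ⟨a, ha, rfl⟩
  set bc : ↥P.Cx := ⟨g * a * g⁻¹, hQ'le hb⟩
  obtain ⟨e, he, hee⟩ := hle (show P.pr bc ∈ N' from ⟨bc, hb, rfl⟩)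
  obtain ⟨i, hi⟩ := Subgroup.mem_zpowers_iff.1 (P.pr_eq_iff.1 hee)
  have e1 : g * a * g⁻¹ = (e : G) * P.x ^ i := by rw [hi]; exact (mul_inv_cancel_left _ _).symm
  have hex : Commute (e : G) (P.x ^ i) := (P.mem_Cx.1 e.2).zpow_right i
  have h1 := hQ'sq _ hb
  rw [e1, hex.symm.mul_mul_mul_comm] at h1
  have hm : P.x ^ i * P.x ^ i ∈ F.E := by
    rw [eq_inv_of_mul_eq_one_right h1]; exact inv_mem (mul_mem he he)
  have hxi := hx1 (P.eq_one_E hm (mul_mem (Subgroup.zpow_mem _ (Subgroup.mem_zpowers _) i)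
    (Subgroup.zpow_mem _ (Subgroup.mem_zpowers _) i)))
  rw [e1, hxi, mul_one]
  have hin : (e : G) ∈ P.above N' := P.mem_above.2 ⟨e.2, he, by
    show P.pr e ∈ N'
    rw [hee]; exact ⟨bc, hb, rfl⟩⟩
  rwa [P.above_eight hcomm' h2' h8'] at hin

/-- An element of order seven of the centralizer does not fix an element over the duad line. -/
theorem fix_eq_one {y : G} (hy : y ∈ P.Cx) (hyo : orderOf y = 7)
    (hn : Nat.card ↥(P.Cx ⊓ Subgroup.normalizer (Subgroup.zpowers y : Set G)) = 105) {a : G}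
    (ha : a ∈ F.duadQ D) (hc : Commute a y) : a = 1 := by
  have hd := Subgroup.orderOf_dvd_natCard _ (show a ∈ P.Cx ⊓ Subgroup.centralizer ({y} : Set G) from
    ⟨P.pre_le_Cx ha, Subgroup.mem_centralizer_singleton_iff.2 hc.eq⟩)
  rw [P.card_cent_seven hy hyo hn] at hd
  have h2 := orderOf_dvd_of_pow_eq_one (show a ^ 2 = 1 by rw [pow_two, P.duadQ_sq ha])
  exact orderOf_eq_one_iff.1 (Nat.eq_one_of_dvd_coprimes (by norm_num) hd h2)

/-- The conjugates under the element of order seven exhaust the nontrivial elements. -/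
theorem orbit_seven {y : G} (hy : y ∈ P.Cx) (hyo : orderOf y = 7)
    (hn : Nat.card ↥(P.Cx ⊓ Subgroup.normalizer (Subgroup.zpowers y : Set G)) = 105) {a b : G}
    (ha : a ∈ F.duadQ D) (ha1 : a ≠ 1) (hb : b ∈ F.duadQ D) (hb1 : b ≠ 1) :
    ∃ i : ℕ, y ^ i * a * (y ^ i)⁻¹ = b := by
  classical
  haveI : Fact (Nat.Prime 7) := ⟨by norm_num⟩
  haveI : Fintype ↥(F.duadQ D) := Fintype.ofFinite _
  have hyM : ∀ i : ℕ, y ^ i ∈ F.duadM D := fun i => pow_mem (P.Cx_le_M hy) i
  let f : Fin 7 → {q : ↥(F.duadQ D) // q ≠ 1} := fun i =>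
    ⟨⟨y ^ (i : ℕ) * a * (y ^ (i : ℕ))⁻¹, (Subgroup.mem_normalizer_iff.1 (hyM i) a).1 ha⟩,
      fun h => ha1 (conj_eq_one_iff.1 (congrArg Subtype.val h))⟩
  have hf : Function.Injective f := by
    intro i j h
    have h' : y ^ (i : ℕ) * a * (y ^ (i : ℕ))⁻¹ = y ^ (j : ℕ) * a * (y ^ (j : ℕ))⁻¹ :=
      congrArg (fun q : {q : ↥(F.duadQ D) // q ≠ 1} => ((q.1 : ↥(F.duadQ D)) : G)) h
    have key : ∀ {i j : ℕ}, i < j → j < 7 → y ^ i * a * (y ^ i)⁻¹ = y ^ j * a * (y ^ j)⁻¹ → False := by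
      intro i j hij hj e
      obtain ⟨d, rfl⟩ := Nat.exists_eq_add_of_lt hij
      rw [show i + d + 1 = i + (d + 1) from rfl, pow_add, show y ^ i * y ^ (d + 1) * a * (y ^ i * y ^ (d + 1))⁻¹ =
        y ^ i * (y ^ (d + 1) * a * (y ^ (d + 1))⁻¹) * (y ^ i)⁻¹ by group] at e
      have e' := mul_left_cancel (mul_right_cancel e)
      refine ha1 (P.fix_eq_one hy hyo hn ha (commute_of_commute_pow (hyo ▸ pow_orderOf_eq_one y) (k := d + 1)
        (fun h1 => ?_) (mul_inv_eq_iff_eq_mul.1 e'.symm).symm))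
      have := Nat.le_of_dvd (by omega) (hyo ▸ orderOf_dvd_of_pow_eq_one h1)
      omega
    refine Fin.ext ?_
    rcases lt_trichotomy (i : ℕ) j with hl | hl | hl
    · exact (key hl j.isLt h').elim
    · exact hl
    · exact (key hl i.isLt h'.symm).elim
  have hcard : Fintype.card {q : ↥(F.duadQ D) // q ≠ 1} = 7 := by
    have h := Fintype.card_subtype_compl (fun q : ↥(F.duadQ D) => q = 1)
    rw [Fintype.card_subtype_eq, show Fintype.card ↥(F.duadQ D) = 8 by
      rw [← Nat.card_eq_fintype_card, P.card_duadQ]] at h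
    exact (Fintype.card_congr (Equiv.refl _)).trans h
  obtain ⟨i, hi⟩ := ((Fintype.bijective_iff_injective_and_card f).2 ⟨hf, by rw [hcard, Fintype.card_fin]⟩).2
    ⟨⟨b, hb⟩, fun h => hb1 (congrArg Subtype.val h)⟩
  exact ⟨i, congrArg (fun q : {q : ↥(F.duadQ D) // q ≠ 1} => ((q.1 : ↥(F.duadQ D)) : G)) hi⟩

/-- The action on the elements over the duad line. -/
theorem exists_quot : ∃ q : ↥(F.duadM D) →* SLThree, Function.Surjective q ∧
    (∀ m : ↥(F.duadM D), q m = 1 ↔ (m : G) ∈ F.duadK D) ∧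
    ∀ w : SLThree, ∃ m : ↥(F.duadM D), (m : G) ∈ P.Cx ∧ q m = w := by
  classical
  obtain ⟨hcard, -, N, hN, hcomm, h2, h8, ⟨f⟩⟩ := P.exists_eight
  obtain ⟨y, hy, hyo, hn⟩ := P.exists_seven
  haveI : Fact (Nat.Prime 2) := ⟨Nat.prime_two⟩
  haveI := Linear.PSL_simple_of_three_le (F := ZMod 2) (ι := Fin 3) (by simp)
  haveI hsimp : IsSimpleGroup (P.Gb ⧸ N) := f.isSimpleGroup_congr.2 inferInstance
  set Q := F.duadQ D
  set ψ := Q.normalizerMonoidHom
  have hker : ∀ m : ↥(F.duadM D), ψ m = 1 ↔ (m : G) ∈ F.duadK D := fun m => by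
    have h : ψ.ker = (F.duadK D).subgroupOf (F.duadM D) := Subgroup.normalizerMonoidHom_ker _
    rw [← MonoidHom.mem_ker, h, Subgroup.mem_subgroupOf]
  let φ : ↥P.Cx →* MulAut ↥Q := ψ.comp (Subgroup.inclusion P.Cx_le_M)
  have hφ : ∀ c : ↥P.Cx, φ c = 1 ↔ (c : G) ∈ F.duadK D := fun c => hker _
  have hZ : P.Z ≤ φ.ker := fun c hc => (hφ c).2 (Subgroup.zpowers_le.2 P.x_mem_K (P.mem_Z.1 hc))
  let φ1 : P.Gb →* MulAut ↥Q := QuotientGroup.lift P.Z φ hZ
  have hN1 : N ≤ φ1.ker := by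
    intro n hn'
    obtain ⟨b, hb, rfl⟩ := (P.eight_le hcomm h2 h8).1 hn'
    have hbQ : (b : G) ∈ Q := by
      show (b : G) ∈ F.pre _
      rw [← P.above_eight hcomm h2 h8]
      exact P.mem_above.2 ⟨b.2, hb, hn'⟩
    exact (hφ b).2 (mem_duadK.2 fun a ha => P.duadQ_comm hbQ ha)
  let φ2 : P.Gb ⧸ N →* MulAut ↥Q := QuotientGroup.lift N φ1 hN1
  have hyK : φ ⟨y, hy⟩ ≠ 1 := fun h => P.not_seven_cent hyo (mem_duadK.1 ((hφ _).1 h))
  have hinj : Function.Injective φ2 := by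
    rw [← MonoidHom.ker_eq_bot_iff]
    refine (IsSimpleGroup.eq_bot_or_eq_top_of_normal φ2.ker inferInstance).resolve_right fun h => hyK ?_
    have : φ2 (QuotientGroup.mk' N (P.pr ⟨y, hy⟩)) = 1 := MonoidHom.mem_ker.1 (h ▸ Subgroup.mem_top _)
    exact this
  have h168 : Nat.card (P.Gb ⧸ N) = 168 := by rw [Nat.card_congr f.toEquiv, card_psl_three]
  have haut := card_mulAut_eight (Q := ↥Q) P.card_duadQ fun a => Subtype.ext (P.duadQ_sq a.2)
  haveI : Finite (MulAut ↥Q) := Finite.of_injective _ MulEquiv.toEquiv_injective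
  have hb : Function.Bijective φ2 :=
    (Nat.bijective_iff_injective_and_card _).2 ⟨hinj, le_antisymm (Nat.card_le_card_of_injective _ hinj)
      (h168 ▸ haut)⟩
  obtain ⟨g⟩ := psl_three_equiv
  let e : MulAut ↥Q ≃* SLThree := (MulEquiv.ofBijective φ2 hb).symm.trans (f.trans g)
  refine ⟨e.toMonoidHom.comp ψ, ?_, fun m => ?_, ?_⟩
  rotate_left 2
  · intro w
    obtain ⟨u, hu⟩ := hb.2 (e.symm w)
    obtain ⟨u1, rfl⟩ := QuotientGroup.mk'_surjective N u
    obtain ⟨u0, rfl⟩ := P.pr_surj u1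
    refine ⟨Subgroup.inclusion P.Cx_le_M u0, u0.2, ?_⟩
    show e (φ u0) = w
    rw [show φ u0 = e.symm w from hu, MulEquiv.apply_symm_apply]
  · intro w
    obtain ⟨u, hu⟩ := hb.2 (e.symm w)
    obtain ⟨u1, rfl⟩ := QuotientGroup.mk'_surjective N u
    obtain ⟨u0, rfl⟩ := P.pr_surj u1
    refine ⟨Subgroup.inclusion P.Cx_le_M u0, ?_⟩
    show e (φ u0) = w
    rw [show φ u0 = e.symm w from hu, MulEquiv.apply_symm_apply]
  · show e (ψ m) = 1 ↔ _
    rw [MulEquiv.map_eq_one_iff, hker]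

end FivePt

end Frame

end Cfsg.Lib.JankoFour
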