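import Mathlib.GroupTheory.Perm.Basic
import Mathlib.GroupTheory.Subgroup.Centralizer
import Mathlib.GroupTheory.OrderOfElement
import Mathlib.SetTheory.Cardinal.Finite

/-!
# The data of the automorphism group of M22 used for elements of order five and seven
-/

set_option autoImplicit false

namespace Cfsg.Lib.JankoFour

/-- Elements of order five and seven of `A`, an outer involution, a duad group and a hexad group. -/
structure LocalData (A : Type) [Group A] (I : Subgroup A) where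
  /-- The element of order five. -/
  x : A
  /-- The outer involution commuting with it. -/
  s : A
  /-- An element squaring it. -/
  f : A
  /-- An element of order three normalizing the duad group. -/
  c : A
  /-- The element of order seven. -/
  y : A
  /-- An element squaring it. -/
  g : A
  /-- The duad group. -/
  Rd : Subgroup A
  /-- The hexad group. -/
  Rh : Subgroup A
  x_mem : x ∈ I
  x_ord : orderOf x = 5
  x_cent : Nat.card ↥(Subgroup.centralizer ({x} : Set A)) = 10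
  x_centI : Nat.card ↥(I ⊓ Subgroup.centralizer ({x} : Set A)) = 5
  s_notMem : s ∉ I
  s_x : Commute s x
  f_mem : f ∈ I
  f_x : f * x * f⁻¹ = x ^ 2
  Rd_le : Rd ≤ I
  Rd_two : ∀ r ∈ Rd, r * r = 1
  Rd_comm : ∀ r ∈ Rd, ∀ r' ∈ Rd, Commute r r'
  Rd_card : Nat.card ↥Rd = 16
  x_Rd : ∀ r ∈ Rd, x * r * x⁻¹ ∈ Rd
  s_Rd : ∀ r ∈ Rd, Commute s r
  c_mem : c ∈ I
  c_ord : orderOf c = 3
  c_Rd : ∀ r ∈ Rd, c * r * c⁻¹ ∈ Rd
  Rd_conj : ∀ R : Subgroup A, R ≤ I → (∀ r ∈ R, r * r = 1) → (∀ r ∈ R, ∀ r' ∈ R, Commute r r') →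
    Nat.card ↥R = 16 → ∀ a : A, a ∉ I → (∀ r ∈ R, Commute a r) → ∃ h ∈ I, ∀ r ∈ R, h * r * h⁻¹ ∈ Rd
  Rh_le : Rh ≤ I
  Rh_two : ∀ r ∈ Rh, r * r = 1
  Rh_comm : ∀ r ∈ Rh, ∀ r' ∈ Rh, Commute r r'
  Rh_card : Nat.card ↥Rh = 16
  x_Rh : ∀ r ∈ Rh, x * r * x⁻¹ ∈ Rh
  no_five : ∀ (φ : ↥(I ⊓ Subgroup.normalizer (Rh : Set A)) →* Equiv.Perm (Fin 5))
    (hx : x ∈ I ⊓ Subgroup.normalizer (Rh : Set A)), φ ⟨x, hx⟩ = 1
  eleven : ∃ w ∈ Rh ⊔ Rh.map (MulAut.conj s).toMonoidHom, orderOf w = 11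
  y_mem : y ∈ I
  y_ord : orderOf y = 7
  y_cent : Nat.card ↥(Subgroup.centralizer ({y} : Set A)) = 14
  y_centI : Nat.card ↥(I ⊓ Subgroup.centralizer ({y} : Set A)) = 7
  g_mem : g ∈ I
  g_y : g * y * g⁻¹ = y ^ 2
  y_no_inv : ∀ a : A, a * y * a⁻¹ ≠ y⁻¹

end Cfsg.Lib.JankoFour
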