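import Cfsg.Agent.Lib.JankoFourLocal.Form
import Cfsg.Agent.Lib.JankoFour.Center

/-!
# Common fixed spaces of elementary abelian subgroups of `I` on `E/⟨z⟩`
-/

set_option autoImplicit false
set_option linter.style.haveILetI false
set_option linter.unusedSectionVars false

namespace Cfsg.Lib.JankoFour

open Cfsg Cfsg.Lib.Extra Module

/-- An element mapping a finite subgroup into itself maps it onto itself. -/
theorem conj_inv_mem {A : Type*} [Group A] {R : Subgroup A} [Finite ↥R] {a : A}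
    (h : ∀ r ∈ R, a * r * a⁻¹ ∈ R) {r : A} (hr : r ∈ R) : a⁻¹ * r * a ∈ R := by
  have hs : Function.Surjective (fun q : ↥R => (⟨a * q * a⁻¹, h q q.2⟩ : ↥R)) :=
    Finite.injective_iff_surjective.1 fun u v huv =>
      Subtype.ext (mul_left_cancel (mul_right_cancel (congrArg Subtype.val huv)))
  obtain ⟨q, hq⟩ := hs ⟨r, hr⟩
  have hq' : a * q * a⁻¹ = r := congrArg Subtype.val hq
  rw [← hq', show a⁻¹ * (a * q * a⁻¹) * a = (q : A) by group]
  exact q.2

namespace Frame

variable {G : Type*} [Group G] [Finite G] {A : Type} [Group A] {I : Subgroup A} (F : Frame G A I)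

theorem B_v_pv (v : F.V) : JankoFour.B F.ctx v (F.act F.p v) = JankoFour.qf F.ctx v := by
  have e := qf_add F.ctx v (F.act F.p v)
  rw [← F.act_p_sq, qf_act F.ctx F.p_comm, qf_act F.ctx F.p_comm, bit_self, zero_add] at e
  exact e.symm

/-- The lifts of involutory elements. -/
def Lifts (R : Subgroup A) : Set G := {c | c ∈ F.C ∧ F.img c ∈ R ∧ (c * c = 1 ∨ c * c = F.z)}

/-- The common fixed space. -/
noncomputable def fixR (R : Subgroup A) : Submodule (ZMod 2) F.V := ⨅ c ∈ F.Lifts R, F.fix c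

theorem mem_fixR {R : Subgroup A} {v : F.V} : v ∈ F.fixR R ↔ ∀ c ∈ F.Lifts R, F.act c v = v := by
  simp only [fixR, Submodule.mem_iInf]
  exact forall₂_congr fun c _ => F.mem_ker_disp

theorem exists_lift_R {R : Subgroup A} (hR : R ≤ I) (h2 : ∀ r ∈ R, r * r = 1) {r : A} (hr : r ∈ R) :
    ∃ c ∈ F.Lifts R, F.img c = r := by
  obtain ⟨c, hc, e, h⟩ := F.exists_lift_two (hR hr) (h2 r hr)
  exact ⟨c, ⟨hc, by rw [e]; exact hr, h⟩, e⟩

theorem act_sq_of_lift {R : Subgroup A} {c : G} (hc : c ∈ F.Lifts R) (v : F.V) : F.act c (F.act c v) = v := by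
  rw [← act_mul F.ctx (F.mem_C.1 hc.1).1 (F.mem_C.1 hc.1).1, F.act_z_pow hc.2.2]

/-- Elements over `R` with involutory action fix the fixed space. -/
theorem fix_of_img {R : Subgroup A} {x : G} (hx : Commute x F.z) (hI : F.img x ∈ I) (hR : F.img x ∈ R)
    (hR2 : F.img x * F.img x = 1) (hx2 : ∀ v, F.act x (F.act x v) = v) {v : F.V} (hv : v ∈ F.fixR R) :
    F.act x v = v := by
  obtain ⟨c, hc, hci, hc2⟩ := F.exists_lift_two hI hR2
  rw [← F.act_eq_lift hx hc hci hx2 hc2 v]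
  exact F.mem_fixR.1 hv c ⟨hc, hci.symm ▸ hR, hc2⟩

/-- Conjugation maps fixed spaces. -/
theorem maps_fixR {R R' : Subgroup A} {h : G} (hh : Commute h F.z) (hI : R ≤ I) (h2 : ∀ r ∈ R, r * r = 1)
    (hmap : ∀ r ∈ R', (F.img h)⁻¹ * r * F.img h ∈ R) {v : F.V} (hv : v ∈ F.fixR R) :
    F.act h v ∈ F.fixR R' := by
  refine F.mem_fixR.2 fun c hc => ?_
  obtain ⟨hcz, -⟩ := F.mem_C.1 hc.1
  set x := h⁻¹ * c * h with hx
  have hxz : Commute x F.z := (hh.inv_left.mul_left hcz).mul_left hh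
  have hxi : F.img x ∈ R := by
    rw [hx, F.img_mul _ _ (hh.inv_left.mul_left hcz) hh, F.img_mul _ _ hh.inv_left hcz, F.img_inv hh]
    exact hmap _ hc.2.1
  have hxact : ∀ w, F.act x w = F.act h⁻¹ (F.act c (F.act h w)) := fun w => by
    rw [hx, act_mul F.ctx (hh.inv_left.mul_left hcz) hh, act_mul F.ctx hh.inv_left hcz]
  have hhh : ∀ w, F.act h (F.act h⁻¹ w) = w := fun w => by
    rw [← act_mul F.ctx hh hh.inv_left, mul_inv_cancel, act_one]
  have hx2 : ∀ w, F.act x (F.act x w) = w := fun w => by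
    rw [hxact, hxact, hhh, F.act_sq_of_lift hc, act_inv_act F.ctx hh]
  have e := F.fix_of_img hxz (hI hxi) hxi (h2 _ hxi) hx2 hv
  rw [hxact] at e
  calc F.act c (F.act h v) = F.act h (F.act h⁻¹ (F.act c (F.act h v))) := (hhh _).symm
    _ = F.act h v := by rw [e]

/-- The fixed space is invariant under the scalar. -/
theorem p_fixR {R : Subgroup A} : ∀ v ∈ F.fixR R, F.act F.p v ∈ F.fixR R := fun v hv =>
  F.mem_fixR.2 fun c hc => by
    have hcC := F.mem_C.1 hc.1
    rw [← act_mul F.ctx hcC.1 F.p_comm, hcC.2.eq, act_mul F.ctx F.p_comm hcC.1, F.mem_fixR.1 hv c hc]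

theorem lifts_comm {R : Subgroup A} (hI : R ≤ I) (hcomm : ∀ r ∈ R, ∀ r' ∈ R, Commute r r') {c d : G}
    (hc : c ∈ F.Lifts R) (hd : d ∈ F.Lifts R) (v : F.V) : F.act c (F.act d v) = F.act d (F.act c v) := by
  obtain ⟨hcz, -⟩ := F.mem_C.1 hc.1
  obtain ⟨hdz, -⟩ := F.mem_C.1 hd.1
  set x := c * d * c⁻¹ with hx
  have hxz : Commute x F.z := (hcz.mul_left hdz).mul_left hcz.inv_left
  have hxi : F.img d = F.img x := by
    rw [hx, F.img_conj hcz hdz, (hcomm _ hc.2.1 _ hd.2.1).eq, mul_inv_cancel_right]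
  have hxact : ∀ w, F.act x (F.act c w) = F.act c (F.act d w) := fun w => by
    rw [← act_mul F.ctx hxz hcz, hx, inv_mul_cancel_right, act_mul F.ctx hcz hdz]
  have hsurj : ∀ w, ∃ u, F.act c u = w := fun w => ⟨F.act c w, F.act_sq_of_lift hc w⟩
  have hx2 : ∀ w, F.act x (F.act x w) = w := fun w => by
    obtain ⟨u, rfl⟩ := hsurj w
    rw [hxact, hxact, F.act_sq_of_lift hd]
  rw [← hxact, F.act_eq_lift hxz hd.1 hxi hx2 hd.2.2]

/-- An invariant subspace contains a nonzero common fixed vector. -/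
theorem exists_fixed_lifts {R : Subgroup A} (hI : R ≤ I) (h2 : ∀ r ∈ R, r * r = 1)
    (hcomm : ∀ r ∈ R, ∀ r' ∈ R, Commute r r') (W : Submodule (ZMod 2) F.V)
    (hW : ∀ c ∈ F.Lifts R, ∀ w ∈ W, F.act c w ∈ W) (hne : W ≠ ⊥) : ∃ v ∈ W, v ≠ 0 ∧ v ∈ F.fixR R := by
  classical
  haveI : Finite A := F.finite_A
  haveI : Fintype ↥R := Fintype.ofFinite _
  choose l hl hli using fun r : ↥R => F.exists_lift_R hI h2 r.2
  have key : ∀ s : Finset ↥R, ∃ v ∈ W, v ≠ 0 ∧ ∀ r ∈ s, F.act (l r) v = v := by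
    intro s
    induction s using Finset.induction with
    | empty =>
      obtain ⟨v, hv, hv0⟩ := (Submodule.ne_bot_iff _).1 hne
      exact ⟨v, hv, hv0, fun r hr => absurd hr (Finset.notMem_empty r)⟩
    | insert a s _ ih =>
      obtain ⟨v, hv, hv0, hfix⟩ := ih
      by_cases h : F.act (l a) v = v
      · refine ⟨v, hv, hv0, fun r hr => ?_⟩
        rcases Finset.mem_insert.1 hr with rfl | hr
        exacts [h, hfix r hr]
      · refine ⟨F.act (l a) v + v, W.add_mem (hW _ (hl a) v hv) hv,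
          fun e => h ((add_eq_zero_iff_eq' F.ctx).1 e), fun r hr => ?_⟩
        rcases Finset.mem_insert.1 hr with rfl | hr
        · rw [map_add, F.act_sq_of_lift (hl r), add_comm]
        · rw [map_add, F.lifts_comm hI hcomm (hl r) (hl a), hfix r hr]
  obtain ⟨v, hv, hv0, hfix⟩ := key Finset.univ
  refine ⟨v, hv, hv0, F.mem_fixR.2 fun c hc => ?_⟩
  obtain ⟨hcz, -⟩ := F.mem_C.1 hc.1
  set r : ↥R := ⟨F.img c, hc.2.1⟩
  rw [← F.act_eq_lift hcz (hl r).1 (hli r) (F.act_sq_of_lift hc) (hl r).2.2 v]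
  exact hfix r (Finset.mem_univ r)

/-- The common fixed space has dimension less than eight. -/
theorem finrank_fixR_lt {R : Subgroup A} (hI : R ≤ I) (h2 : ∀ r ∈ R, r * r = 1)
    (hcomm : ∀ r ∈ R, ∀ r' ∈ R, Commute r r') (h16 : Nat.card ↥R = 16) :
    finrank (ZMod 2) ↥(F.fixR R) < 8 := by
  classical
  haveI : FiniteDimensional (ZMod 2) F.V := Module.Finite.of_finite
  haveI : Finite A := F.finite_A
  by_contra hlt
  push Not at hlt
  choose l hl hli using fun r : ↥R => F.exists_lift_R hI h2 r.2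
  have heq : ∀ r : ↥R, r ≠ 1 → F.fix (l r) = F.fixR R ∧
      LinearMap.range (F.disp (l r)) = F.perp (F.fixR R) := by
    intro r hr
    have hne : F.img (l r) ≠ 1 := fun e => hr (Subtype.ext ((hli r).symm.trans e))
    have h4 := F.finrank_range_disp (hl r).1 hne (hl r).2.2
    have hs : finrank (ZMod 2) ↥(LinearMap.range (F.disp (l r))) + finrank (ZMod 2) ↥(F.fix (l r)) = 12 :=
      (LinearMap.finrank_range_add_finrank_ker (F.disp (l r))).trans F.finrank_V
    have h8 : finrank (ZMod 2) ↥(F.fix (l r)) ≤ finrank (ZMod 2) ↥(F.fixR R) := by rw [h4] at hs; omega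
    have e : F.fix (l r) = F.fixR R := (Submodule.eq_of_le_of_finrank_le
      (fun v hv => F.mem_ker_disp.2 (F.mem_fixR.1 hv _ (hl r))) h8).symm
    exact ⟨e, by rw [← e, (F.perp_range_disp (hl r).1 hne (hl r).2.2).2]⟩
  obtain ⟨r₀, hr₀⟩ : ∃ r : ↥R, r ≠ 1 := by
    haveI : Nontrivial ↥R := Finite.one_lt_card_iff_nontrivial.1 (by omega)
    exact exists_ne 1
  obtain ⟨heq₀, heq₀'⟩ := heq r₀ hr₀
  set U := F.fixR R
  set W := F.perp U with hWdef
  have hWU : W ≤ U := by
    rw [← heq₀', ← heq₀]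
    rintro _ ⟨w, rfl⟩
    refine F.mem_ker_disp.2 ?_
    rw [disp_apply, map_add, F.act_sq_of_lift (hl r₀), add_comm]
  have hW4 : finrank (ZMod 2) ↥W = 4 := by
    rw [← heq₀']
    exact F.finrank_range_disp (hl r₀).1 (fun e => hr₀ (Subtype.ext ((hli r₀).symm.trans e))) (hl r₀).2.2
  have hqW : ∀ w ∈ W, JankoFour.qf F.ctx w = 0 := by
    intro w hw
    rw [← F.B_v_pv, B_symm]
    exact hw _ (F.p_fixR w (hWU hw))
  obtain ⟨u, hu⟩ : ∃ u, u ∉ U := by
    by_contra h
    push Not at h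
    have hdim := F.finrank_perp U
    rw [show U = ⊤ from eq_top_iff.2 fun v _ => h v, finrank_top, F.finrank_V] at hdim
    rw [hWdef, show U = ⊤ from eq_top_iff.2 fun v _ => h v] at hW4
    omega
  set W1 := W ⊓ F.perp (Submodule.span (ZMod 2) {u})
  have hW1 : finrank (ZMod 2) ↥W1 < 4 := by
    rw [← hW4]
    refine Submodule.finrank_lt_finrank_of_lt (lt_of_le_of_ne inf_le_left fun e => hu ?_)
    have h1 : u ∈ F.perp W := fun w hw => by
      rw [← e] at hw
      rw [B_symm]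
      exact hw.2 u (Submodule.mem_span_singleton_self u)
    rwa [hWdef, F.perp_perp] at h1
  have hmem : ∀ r : ↥R, F.act (l r) u + u ∈ W1 := by
    intro r
    by_cases hr : r = 1
    · have hone : F.act (l r) u = u := by
        have h1 := F.mem_E_of_two (F.mem_C.1 (hl r).1).1 (by rw [hli, hr]; rfl) (n := 2) (by
          rw [show (2 : ℕ) ^ 2 = 2 * 2 from rfl, pow_mul, pow_two (l r)]
          rcases (hl r).2.2 with e | e <;> rw [e, pow_two]
          exacts [one_mul 1, F.ctx.sq_z])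
        exact act_of_mem F.ctx h1 u
      rw [hone, bar_self]; exact zero_mem _
    · have hd : F.act (l r) u + u ∈ W := (heq r hr).2 ▸ (⟨u, rfl⟩ : F.disp (l r) u ∈ LinearMap.range (F.disp (l r)))
      refine ⟨hd, fun x hx => ?_⟩
      obtain ⟨t, rfl⟩ := Submodule.mem_span_singleton.1 hx
      have e := qf_add F.ctx (F.act (l r) u) u
      rw [hqW _ hd, qf_act F.ctx (F.mem_C.1 (hl r).1).1, bit_self, zero_add] at e
      rw [map_smul, LinearMap.smul_apply, map_add, B_self, add_zero, B_symm, ← e, smul_zero]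
  have hinj : Function.Injective fun r : ↥R => (⟨_, hmem r⟩ : ↥W1) := by
    intro a b hab
    have hab' : F.act (l a) u + u = F.act (l b) u + u := congrArg Subtype.val hab
    have hab'' : F.act (l a) u = F.act (l b) u := add_right_cancel hab'
    by_contra hne
    have hne' : a * b ≠ 1 := fun h => hne (by
      have hb : b * b = 1 := Subtype.ext (h2 b b.2)
      rw [mul_eq_one_iff_eq_inv] at h
      exact h.trans (inv_eq_of_mul_eq_one_right hb))
    obtain ⟨hab1, -⟩ := heq (a * b) hne'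
    refine hu (hab1 ▸ F.mem_ker_disp.2 ?_)
    obtain ⟨haz, -⟩ := F.mem_C.1 (hl a).1
    obtain ⟨hbz, -⟩ := F.mem_C.1 (hl b).1
    have hx2 : ∀ w, F.act (l a * l b) (F.act (l a * l b) w) = w := fun w => by
      rw [act_mul F.ctx haz hbz, act_mul F.ctx haz hbz, F.lifts_comm hI hcomm (hl b) (hl a),
        F.act_sq_of_lift (hl a), F.act_sq_of_lift (hl b)]
    rw [F.act_eq_lift (haz.mul_left hbz) (hl (a * b)).1 (by
      rw [hli, F.img_mul _ _ haz hbz, hli, hli]; rfl) hx2 (hl (a * b)).2.2, act_mul F.ctx haz hbz, ← hab'',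
      F.act_sq_of_lift (hl a)]
  have hc := Nat.card_le_card_of_injective _ hinj
  rw [h16, F.card_sub] at hc
  have : 2 ^ finrank (ZMod 2) ↥W1 ≤ 2 ^ 3 := Nat.pow_le_pow_right (by norm_num) (by omega)
  omega

theorem fixR_ne_bot {R : Subgroup A} (hI : R ≤ I) (h2 : ∀ r ∈ R, r * r = 1)
    (hcomm : ∀ r ∈ R, ∀ r' ∈ R, Commute r r') : F.fixR R ≠ ⊥ := by
  haveI : Nontrivial F.V := Finite.one_lt_card_iff_nontrivial.1 (by rw [F.card_V]; norm_num)
  obtain ⟨v, -, hv0, hv⟩ := F.exists_fixed_lifts hI h2 hcomm ⊤ (fun _ _ _ _ => Submodule.mem_top) top_ne_bot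
  exact (Submodule.ne_bot_iff _).2 ⟨v, hv, hv0⟩

/-- The orthogonal of an invariant subspace is invariant. -/
theorem perp_invariant {c : G} (hc : Commute c F.z) {W : Submodule (ZMod 2) F.V}
    (hW : ∀ w ∈ W, F.act c w ∈ W) : ∀ u ∈ F.perp W, F.act c u ∈ F.perp W := by
  haveI : FiniteDimensional (ZMod 2) F.V := Module.Finite.of_finite
  intro u hu w hw
  have e : W.map (F.act c) = W := Submodule.eq_of_le_of_finrank_le
    (by rintro _ ⟨a, ha, rfl⟩; exact hW a ha)
    (Submodule.equivMapOfInjective (F.act c) (act_injective F.ctx hc) W).finrank_eq.le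
  rw [← e] at hw
  obtain ⟨a, ha, rfl⟩ := hw
  rw [B_act F.ctx hc]
  exact hu a ha

end Frame

end Cfsg.Lib.JankoFour
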