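import Cfsg.Agent.Lib.JankoFour.Perfect
import Mathlib.GroupTheory.Sylow

/-!
# Elements of order prime to six in `C(z)`: lifts, conjugacy and centralizers
-/

set_option autoImplicit false
set_option linter.style.haveILetI false
set_option linter.unusedSectionVars false

namespace Cfsg.Lib.JankoFour

open Cfsg Cfsg.Lib.Extra Module
open scoped Pointwise

namespace Frame

variable {G : Type*} [Group G] [Finite G] {A : Type} [Group A] {I : Subgroup A} (F : Frame G A I)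

/-- The centralizer of the involution. -/
abbrev H : Subgroup G := Subgroup.centralizer ({F.z} : Set G)

theorem mem_H {g : G} : g ∈ F.H ↔ Commute g F.z := Subgroup.mem_centralizer_singleton_iff

theorem C_le_H : F.C ≤ F.H := inf_le_left

/-- The kernel has exponent dividing twelve. -/
theorem ker_pow {y : G} (hy : Commute y F.z) (h1 : F.img y = 1) : y ^ 12 = 1 := by
  obtain ⟨e, he, i, rfl⟩ := (F.img_ker y hy).1 h1
  have hq : Commute (F.p ^ i) F.z := F.p_comm.pow_left i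
  have h3 : (e * F.p ^ i) ^ 3 ∈ F.E := by
    have hm := mul_mem (mul_mem he (F.conj_mem hq he)) (F.conj_mem (hq.mul_left hq) he)
    have e3 : (e * F.p ^ i) ^ 3 = e * (F.p ^ i * e * (F.p ^ i)⁻¹) *
        (F.p ^ i * F.p ^ i * e * (F.p ^ i * F.p ^ i)⁻¹) * (F.p ^ i) ^ 3 := by
      simp only [pow_succ, pow_zero, one_mul]; group
    rw [e3, F.p_pow_six, mul_one]
    exact hm
  rw [show 12 = 3 * 2 ^ 2 by norm_num, pow_mul]
  exact F.pow_two_E h3

/-- A kernel element of order prime to six is trivial. -/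
theorem ker_eq_one {y : G} (hy : Commute y F.z) (h1 : F.img y = 1) {n : ℕ} (hn : n.Coprime 12)
    (h : y ^ n = 1) : y = 1 := by
  have := pow_gcd_eq_one.2 ⟨h, F.ker_pow hy h1⟩
  rwa [hn, pow_one] at this

theorem orderOf_img {x : G} (hx : Commute x F.z) {q : ℕ} (hq : q.Prime) (hq12 : q.Coprime 12)
    (ho : orderOf x = q) : orderOf (F.img x) = q := by
  haveI : Fact q.Prime := ⟨hq⟩
  refine orderOf_eq_prime (by rw [← F.img_pow hx, ← ho, pow_orderOf_eq_one, F.img_one]) fun h => ?_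
  have := F.ker_eq_one hx h hq12 (by rw [← ho]; exact pow_orderOf_eq_one x)
  rw [this, orderOf_one] at ho
  exact hq.one_lt.ne ho

theorem img_mem_of_prime {x : G} (hx : Commute x F.z) {q : ℕ} (hq12 : q.Coprime 12)
    (ho : orderOf x = q) : F.img x ∈ I := by
  refine F.img_mem_I hx (n := q) ?_ (ho ▸ pow_orderOf_eq_one x)
  rw [← Nat.not_even_iff_odd]
  exact fun he => absurd (hq12 ▸ Nat.dvd_gcd he.two_dvd (by norm_num : 2 ∣ 12)) (by norm_num)

/-- Sylow subgroups of `C(z)` for large primes are small. -/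
theorem card_pgroup_dvd {q : ℕ} [Fact q.Prime] (hq12 : q.Coprime 12) (P : Subgroup G) (hP : P ≤ F.H)
    (hp : IsPGroup q ↥P) : Nat.card ↥P ∣ 887040 := by
  haveI := F.finite_A
  have hz : ∀ {g}, g ∈ P → Commute g F.z := fun hg => F.mem_H.1 (hP hg)
  let θ : ↥P →* A :=
    { toFun := fun g => F.img g
      map_one' := F.img_one
      map_mul' := fun a b => F.img_mul _ _ (hz a.2) (hz b.2) }
  have hinj : Function.Injective θ := (injective_iff_map_eq_one θ).2 fun g hg => by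
    obtain ⟨k, hk⟩ := hp g
    exact Subtype.ext (F.ker_eq_one (hz g.2) hg (hq12.pow_left k) (congrArg Subtype.val hk))
  rw [Nat.card_congr (MonoidHom.ofInjective hinj).toEquiv, ← F.facts.card_A]
  exact θ.range.card_subgroup_dvd_card

theorem card_pgroup_le {q : ℕ} [hq : Fact q.Prime] (hq12 : q.Coprime 12) (h2 : ¬ q ^ 2 ∣ 887040)
    (P : Subgroup G) (hP : P ≤ F.H) (hp : IsPGroup q ↥P) : Nat.card ↥P ≤ q := by
  obtain ⟨n, hn⟩ := IsPGroup.iff_card.1 hp
  have h := F.card_pgroup_dvd hq12 P hP hp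
  rw [hn] at h ⊢
  calc q ^ n ≤ q ^ 1 := Nat.pow_le_pow_right hq.out.pos (by
        by_contra hc
        exact h2 ((pow_dvd_pow q (by omega : 2 ≤ n)).trans h))
    _ = q := pow_one q

/-- A cyclic subgroup of the large prime order is a Sylow subgroup of every subgroup of `C(z)` containing it. -/
theorem exists_conj_zpowers {q : ℕ} [hq : Fact q.Prime] (hq12 : q.Coprime 12) (h2 : ¬ q ^ 2 ∣ 887040)
    (M : Subgroup G) (hM : M ≤ F.H) {x x' : G} (hx : x ∈ M) (hx' : x' ∈ M) (ho : orderOf x = q)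
    (ho' : orderOf x' = q) : ∃ m ∈ M, ∃ k : ℕ, m * x * m⁻¹ = x' ^ k := by
  have hS : ∀ {w : G}, w ∈ M → orderOf w = q →
      ∃ P : Sylow q ↥M, (P : Subgroup ↥M).map M.subtype = Subgroup.zpowers w := by
    intro w hw hwo
    have hp : IsPGroup q ↥((Subgroup.zpowers w).subgroupOf M) :=
      (IsPGroup.of_card (n := 1) (by rw [Nat.card_zpowers, hwo, pow_one]) :
        IsPGroup q ↥(Subgroup.zpowers w)).of_equiv
        (Subgroup.subgroupOfEquivOfLe (Subgroup.zpowers_le.2 hw)).symm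
    obtain ⟨P, hP⟩ := hp.exists_le_sylow
    refine ⟨P, (Subgroup.eq_of_le_of_card_ge ?_ ?_).symm⟩
    · intro a ha
      exact ⟨⟨a, Subgroup.zpowers_le.2 hw ha⟩, hP (Subgroup.mem_subgroupOf.2 ha), rfl⟩
    · rw [Nat.card_zpowers, hwo]
      exact F.card_pgroup_le hq12 h2 _ ((Subgroup.map_subtype_le _).trans hM) (P.isPGroup'.map _)
  obtain ⟨P, hP⟩ := hS hx ho
  obtain ⟨P', hP'⟩ := hS hx' ho'
  obtain ⟨m, hm⟩ := MulAction.exists_smul_eq ↥M P P'
  obtain ⟨⟨w, hwM⟩, hw, hwe⟩ := hP.symm ▸ Subgroup.mem_zpowers x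
  have hwx : w = x := hwe
  subst hwx
  have h1 : m * ⟨w, hwM⟩ * m⁻¹ ∈ (m • P : Sylow q ↥M) := Subgroup.smul_mem_pointwise_smul _ _ _ hw
  rw [hm] at h1
  have h1' : (m : G) * w * (m : G)⁻¹ ∈ Subgroup.zpowers x' := hP' ▸ ⟨_, h1, rfl⟩
  obtain ⟨k, hk⟩ := mem_powers_iff_mem_zpowers.2 h1'
  exact ⟨m, m.2, k, hk.symm⟩

/-- Lifts of elements of large prime order. -/
theorem exists_lift_prime {a : A} (ha : a ∈ I) {q : ℕ} [hq : Fact q.Prime] (ho : orderOf a = q) {k : ℕ}
    (h6 : 6 ∣ k) (hk : k % q = 1) : ∃ x ∈ F.C, F.img x = a ∧ orderOf x = q := by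
  obtain ⟨x, hx, rfl⟩ := F.mem_I_iff.1 ha
  have hx' := (F.mem_C.1 hx).1
  have himg : F.img (x ^ k) = F.img x := by
    rw [F.img_pow hx', ← pow_mod_orderOf, ho, hk, pow_one]
  have hk' := hx'.pow_left k
  refine ⟨x ^ k, pow_mem hx k, himg, orderOf_eq_prime ?_ fun h => ?_⟩
  · rw [← pow_mul, mul_comm, pow_mul]
    have h1 : F.img (x ^ q) = 1 := by rw [F.img_pow hx', ← ho, pow_orderOf_eq_one]
    obtain ⟨c, hc⟩ := h6
    obtain ⟨i, e | e⟩ := F.ker_C (pow_mem hx q) h1 <;> rw [e, hc, pow_mul]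
    · rw [show (F.p ^ i) ^ 6 = ((F.p ^ i) ^ 3) ^ 2 from pow_mul _ 3 2, F.p_pow_six, one_pow, one_pow]
    · rw [(F.p_comm.symm.pow_right i).mul_pow, show (F.p ^ i) ^ 6 = ((F.p ^ i) ^ 3) ^ 2 from pow_mul _ 3 2,
        F.p_pow_six, show F.z ^ 6 = (F.z * F.z) ^ 3 by rw [← pow_two, ← pow_mul], F.ctx.sq_z, one_pow, one_pow,
        one_mul, one_pow]
  · rw [h, F.img_one] at himg
    rw [← himg, orderOf_one] at ho
    exact hq.out.one_lt.ne ho

/-- Lifts in `C` of elements centralizing the image centralize. -/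
theorem commute_lift {c x : G} (hc : c ∈ F.C) (hx : x ∈ F.C) {q : ℕ} (hq12 : q.Coprime 12)
    (hxq : x ^ q = 1) (h : Commute (F.img c) (F.img x)) : Commute c x := by
  have hc' := F.mem_C.1 hc
  have hx' := F.mem_C.1 hx
  set k := c * x * c⁻¹ * x⁻¹ with hk
  have hkC : k ∈ F.C := mul_mem (mul_mem (mul_mem hc hx) (inv_mem hc)) (inv_mem hx)
  have hki : F.img k = 1 := by
    rw [hk, F.img_mul _ _ ((hc'.1.mul_left hx'.1).mul_left hc'.1.inv_left) hx'.1.inv_left,
      F.img_conj hc'.1 hx'.1, F.img_inv hx'.1, h.eq, mul_inv_cancel_right, mul_inv_cancel]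
  have e1 : c * x * c⁻¹ = k * x := by rw [hk, inv_mul_cancel_right]
  have hkq : k ^ q = 1 := by
    have h2 := congrArg (· ^ q) e1
    simp only [conj_pow, hxq, mul_one, mul_inv_cancel, (F.ker_C_comm hkC hki hx).mul_pow] at h2
    exact h2.symm
  rw [F.ker_eq_one (F.mem_C.1 hkC).1 hki hq12 hkq, one_mul] at e1
  exact mul_inv_eq_iff_eq_mul.1 e1

/-- Elements centralizing the image lift to the centralizer. -/
theorem exists_cent_lift {q : ℕ} [hq : Fact q.Prime] (hq12 : q.Coprime 12) (h2 : ¬ q ^ 2 ∣ 887040) {x : G}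
    (hxz : Commute x F.z) (ho : orderOf x = q) {a : A} (h : Commute a (F.img x)) :
    ∃ u, Commute u F.z ∧ Commute u x ∧ F.img u = a := by
  obtain ⟨u0, hu0, rfl⟩ := F.img_surj a
  set x' := u0 * x * u0⁻¹ with hx'def
  have hx'z : Commute x' F.z := (hu0.mul_left hxz).mul_left hu0.inv_left
  have hx'i : F.img x' = F.img x := by rw [hx'def, F.img_conj hu0 hxz, h.eq, mul_inv_cancel_right]
  let M : Subgroup G :=
    { carrier := {g | Commute g F.z ∧ F.img g ∈ Subgroup.zpowers (F.img x)}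
      one_mem' := ⟨Commute.one_left _, by rw [F.img_one]; exact one_mem _⟩
      mul_mem' := fun {a b} ha hb => ⟨ha.1.mul_left hb.1, by
        rw [F.img_mul _ _ ha.1 hb.1]; exact mul_mem ha.2 hb.2⟩
      inv_mem' := fun {a} ha => ⟨ha.1.inv_left, by rw [F.img_inv ha.1]; exact inv_mem ha.2⟩ }
  obtain ⟨m, ⟨hmz, hmi⟩, k, hk⟩ := F.exists_conj_zpowers hq12 h2 M (fun g hg => F.mem_H.2 hg.1)
    (show x' ∈ M from ⟨hx'z, hx'i ▸ Subgroup.mem_zpowers _⟩) (show x ∈ M from ⟨hxz, Subgroup.mem_zpowers _⟩)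
    (by rw [hx'def, ← MulAut.conj_apply, MulEquiv.orderOf_eq, ho]) ho
  obtain ⟨j, hj⟩ := Subgroup.mem_zpowers_iff.1 hmi
  have hjc : F.img m * F.img x * (F.img m)⁻¹ = F.img x := by
    rw [← hj, ((Commute.refl (F.img x)).zpow_left j).eq, mul_inv_cancel_right]
  have hki : F.img x ^ k = F.img x := by rw [← F.img_pow hxz, ← hk, F.img_conj hmz hx'z, hx'i, hjc]
  have hk1 : x ^ k = x := by
    have e : k % q = 1 % q := by
      have := pow_inj_mod.1 (hki.trans (pow_one (F.img x)).symm)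
      rwa [F.orderOf_img hxz hq.out hq12 ho] at this
    conv_rhs => rw [← pow_one x]
    rw [← pow_mod_orderOf x k, ← pow_mod_orderOf x 1, ho, e]
  have hcomm : Commute (m * u0) x := by
    refine mul_inv_eq_iff_eq_mul.1 ?_
    rw [show m * u0 * x * (m * u0)⁻¹ = m * x' * m⁻¹ by rw [hx'def]; group, hk, hk1]
  -- remove the power of the image
  refine ⟨x ^ (-j) * (m * u0), (hxz.zpow_left _).mul_left (hmz.mul_left hu0),
    ((Commute.refl x).zpow_left _).mul_left hcomm, ?_⟩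
  have hxj : F.img (x ^ (-j)) = F.img x ^ (-j) := by
    rcases Int.eq_nat_or_neg (-j) with ⟨n, e | e⟩ <;> rw [e]
    · rw [zpow_natCast, zpow_natCast, F.img_pow hxz]
    · rw [zpow_neg, zpow_neg, zpow_natCast, zpow_natCast, F.img_inv (hxz.pow_left n), F.img_pow hxz]
  rw [F.img_mul _ _ (hxz.zpow_left _) (hmz.mul_left hu0), F.img_mul _ _ hmz hu0, hxj, ← hj, ← mul_assoc,
    ← zpow_add, neg_add_cancel, zpow_zero, one_mul]

/-- The elements of `E` fixing an element of `C`. -/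
theorem card_E_cent {x : G} (hx : x ∈ F.C) :
    Nat.card ↥(F.E ⊓ Subgroup.centralizer ({x} : Set G)) = 2 * 2 ^ finrank (ZMod 2) ↥(F.fix x) := by
  obtain ⟨hxz, -⟩ := F.mem_C.1 hx
  set S := F.E ⊓ Subgroup.centralizer ({x} : Set G)
  have hz : F.z ∈ S := ⟨F.ctx.mem, Subgroup.mem_centralizer_singleton_iff.2 hxz.symm.eq⟩
  have e : F.clsSub S inf_le_left = F.fix x := by
    ext v
    rw [mem_clsSub, F.mem_ker_disp]
    constructor
    · rintro ⟨a, ⟨ha, hc⟩, rfl⟩
      rw [act_cls F.ctx hxz ha, (show Commute a x from Subgroup.mem_centralizer_singleton_iff.1 hc).symm.eq,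
        mul_inv_cancel_right]
    · intro hv
      obtain ⟨a, ha, rfl⟩ := cls_surj F.ctx v
      exact ⟨a, ⟨ha, Subgroup.mem_centralizer_singleton_iff.2 (F.commute_of_fixed hx ha hv).symm.eq⟩, rfl⟩
  rw [← F.card_clsSub inf_le_left hz, e, F.card_sub]

/-- The centralizer in `C(z)` of an element of large prime order. -/
theorem card_cent_H {q : ℕ} [hq : Fact q.Prime] (hq12 : q.Coprime 12) (h2 : ¬ q ^ 2 ∣ 887040) {x : G}
    (hx : x ∈ F.C) (ho : orderOf x = q) :
    Nat.card ↥(F.H ⊓ Subgroup.centralizer ({x} : Set G)) =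
      3 * Nat.card ↥(F.E ⊓ Subgroup.centralizer ({x} : Set G)) *
        Nat.card ↥(Subgroup.centralizer ({F.img x} : Set A)) := by
  haveI := F.finite_A
  obtain ⟨hxz, hxp⟩ := F.mem_C.1 hx
  set K := F.H ⊓ Subgroup.centralizer ({x} : Set G)
  have mK : ∀ {g}, g ∈ K ↔ Commute g F.z ∧ Commute g x := fun {g} => by
    rw [Subgroup.mem_inf, F.mem_H, Subgroup.mem_centralizer_singleton_iff]; rfl
  let θ : ↥K →* A :=
    { toFun := fun g => F.img g
      map_one' := F.img_one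
      map_mul' := fun a b => F.img_mul _ _ (mK.1 a.2).1 (mK.1 b.2).1 }
  have hrange : θ.range = Subgroup.centralizer ({F.img x} : Set A) := by
    refine le_antisymm ?_ fun a ha => ?_
    · rintro _ ⟨g, rfl⟩
      obtain ⟨hgz, hgx⟩ := mK.1 g.2
      refine Subgroup.mem_centralizer_singleton_iff.2 ?_
      show F.img (g : G) * F.img x = F.img x * F.img (g : G)
      rw [← F.img_mul _ _ hgz hxz, hgx.eq, F.img_mul _ _ hxz hgz]
    · obtain ⟨u, huz, hux, rfl⟩ := F.exists_cent_lift hq12 h2 hxz ho (a := a)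
        (Subgroup.mem_centralizer_singleton_iff.1 ha)
      exact ⟨⟨u, mK.2 ⟨huz, hux⟩⟩, rfl⟩
  have hker : Nat.card ↥θ.ker = Nat.card (↥(F.E ⊓ Subgroup.centralizer ({x} : Set G)) × Fin 3) := by
    refine (Nat.card_congr (Equiv.ofBijective
      (fun ei : ↥(F.E ⊓ Subgroup.centralizer ({x} : Set G)) × Fin 3 =>
        (⟨⟨(ei.1 : G) * F.p ^ (ei.2 : ℕ), mK.2 ⟨(F.comm_of_mem ei.1.2.1).mul_left (F.p_comm.pow_left _),
            (show Commute (ei.1 : G) x from Subgroup.mem_centralizer_singleton_iff.1 ei.1.2.2).mul_left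
              (hxp.symm.pow_left _)⟩⟩, by
          show F.img ((ei.1 : G) * F.p ^ (ei.2 : ℕ)) = 1
          rw [F.img_mul _ _ (F.comm_of_mem ei.1.2.1) (F.p_comm.pow_left _), F.img_mem ei.1.2.1, F.img_p_pow,
            one_mul]⟩ : ↥θ.ker)) ⟨?_, ?_⟩)).symm
    · rintro ⟨e, i⟩ ⟨e', i'⟩ h
      have h' : (e : G) * F.p ^ (i : ℕ) = (e' : G) * F.p ^ (i' : ℕ) :=
        congrArg (fun g : ↥θ.ker => ((g : ↥K) : G)) h
      have hm : F.p ^ (i : ℕ) * (F.p ^ (i' : ℕ))⁻¹ = (e : G)⁻¹ * e' := by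
        rw [mul_inv_eq_iff_eq_mul, mul_assoc, ← h', inv_mul_cancel_left]
      have h1 := F.eq_one_of_cube (a := F.p ^ (i : ℕ) * (F.p ^ (i' : ℕ))⁻¹)
        (by rw [hm]; exact F.E.mul_mem (F.E.inv_mem e.2.1) e'.2.1) (by
        rw [((Commute.refl F.p).pow_pow (i : ℕ) (i' : ℕ)).inv_right.mul_pow, inv_pow, F.p_pow_six, F.p_pow_six]
        simp)
      have hp : F.p ^ (i : ℕ) = F.p ^ (i' : ℕ) := mul_inv_eq_one.1 h1
      have hi := pow_inj_mod.1 hp
      rw [F.p_ord] at hi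
      rw [hp] at h'
      exact Prod.ext (Subtype.ext (mul_right_cancel h')) (Fin.ext (by
        show (i : ℕ) = (i' : ℕ)
        have := i.isLt
        have := i'.isLt
        omega))
    · rintro ⟨⟨g, hg⟩, hgi⟩
      obtain ⟨hgz, hgx⟩ := mK.1 hg
      obtain ⟨e, he, i, rfl⟩ := (F.img_ker g hgz).1 hgi
      have hex : Commute e x := by
        have := hgx.mul_left ((hxp.symm.pow_left i).inv_left)
        rwa [mul_inv_cancel_right] at this
      refine ⟨⟨⟨e, he, Subgroup.mem_centralizer_singleton_iff.2 hex.eq⟩, ⟨i % 3, Nat.mod_lt _ (by norm_num)⟩⟩,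
        Subtype.ext (Subtype.ext ?_)⟩
      show e * F.p ^ (i % 3) = e * F.p ^ i
      rw [← F.p_ord, pow_mod_orderOf]
  have h := θ.ker.index_mul_card
  rw [Subgroup.index_ker, hrange, hker, Nat.card_prod, Nat.card_fin] at h
  rw [← h]
  ring

/-- The centralizer in `C` of an element of large prime order. -/
theorem card_cent_C {q : ℕ} (hq12 : q.Coprime 12) {x : G} (hx : x ∈ F.C) (hxq : x ^ q = 1) :
    Nat.card ↥(F.C ⊓ Subgroup.centralizer ({x} : Set G)) =
      6 * Nat.card ↥(I ⊓ Subgroup.centralizer ({F.img x} : Set A)) := by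
  haveI := F.finite_A
  have hxz := (F.mem_C.1 hx).1
  set K := F.C ⊓ Subgroup.centralizer ({x} : Set G)
  let θ : ↥(K.subgroupOf F.C) →* A := F.imgC.comp (K.subgroupOf F.C).subtype
  have hrange : θ.range = I ⊓ Subgroup.centralizer ({F.img x} : Set A) := by
    refine le_antisymm ?_ fun a ha => ?_
    · rintro _ ⟨⟨g, hg⟩, rfl⟩
      refine ⟨F.mem_I_iff.2 ⟨g, g.2, rfl⟩, Subgroup.mem_centralizer_singleton_iff.2 ?_⟩
      have hgx : Commute (g : G) x := Subgroup.mem_centralizer_singleton_iff.1 hg.2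
      show F.img (g : G) * F.img x = F.img x * F.img (g : G)
      rw [← F.img_mul _ _ (F.mem_C.1 g.2).1 hxz, hgx.eq, F.img_mul _ _ hxz (F.mem_C.1 g.2).1]
    · obtain ⟨c, hc, rfl⟩ := F.mem_I_iff.1 ha.1
      exact ⟨⟨⟨c, hc⟩, ⟨hc, Subgroup.mem_centralizer_singleton_iff.2
        (F.commute_lift hc hx hq12 hxq (Subgroup.mem_centralizer_singleton_iff.1 ha.2)).eq⟩⟩, rfl⟩
  have hker : θ.ker.map (K.subgroupOf F.C).subtype = F.imgC.ker := by
    refine le_antisymm ?_ fun c hc => ⟨⟨c, c.2, Subgroup.mem_centralizer_singleton_iff.2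
      (F.ker_C_comm c.2 hc hx).eq⟩, hc, rfl⟩
    rintro _ ⟨g, hg, rfl⟩
    exact hg
  have h := θ.ker.index_mul_card
  rw [Subgroup.index_ker, hrange, ← Subgroup.card_map_of_injective (K.subgroupOf F.C).subtype_injective,
    hker, F.card_ker_imgC, Nat.card_congr (Subgroup.subgroupOfEquivOfLe (inf_le_left : K ≤ F.C)).toEquiv] at h
  rw [← h, mul_comm]

end Frame

end Cfsg.Lib.JankoFour
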