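import Cfsg.Agent.Lib.JankoFourLocal.Basic
import Cfsg.Agent.Lib.JankoFourLocal.Fixed
import Cfsg.Agent.Lib.JankoFourLocal.Prime

/-!
# Singular lines in the fixed space of an element of order five
-/

set_option autoImplicit false
set_option linter.style.haveILetI false
set_option linter.unusedSectionVars false

namespace Cfsg.Lib.JankoFour

open Cfsg Cfsg.Lib.Extra Module

namespace Frame

variable {G : Type*} [Group G] [Finite G] {A : Type} [Group A] {I : Subgroup A} (F : Frame G A I)

/-- Distinct lines meet trivially. -/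
theorem line_eq {v w : F.V} (hw : w ∈ F.line v) (hw0 : w ≠ 0) : F.line w = F.line v := by
  haveI : FiniteDimensional (ZMod 2) F.V := Module.Finite.of_finite
  refine Submodule.eq_of_le_of_finrank_le (F.line_le hw fun _ h => F.line_invariant h) ?_
  have hv : v ≠ 0 := by
    rintro rfl
    rcases F.mem_line.1 hw with h | h | h | h <;> (try simp only [map_zero] at h) <;> exact hw0 h
  rw [F.finrank_line hv, F.finrank_line hw0]

/-- A subspace of dimension two invariant under the scalar is a line. -/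
theorem eq_line {W : Submodule (ZMod 2) F.V} (hp : ∀ w ∈ W, F.act F.p w ∈ W)
    (hd : finrank (ZMod 2) ↥W ≤ 2) {v : F.V} (hv : v ∈ W) (hv0 : v ≠ 0) : F.line v = W := by
  haveI : FiniteDimensional (ZMod 2) F.V := Module.Finite.of_finite
  exact Submodule.eq_of_le_of_finrank_le (F.line_le hv hp) (by rwa [F.finrank_line hv0])

theorem act_pow_comm {x : G} (hx : x ∈ F.C) (v : F.V) :
    F.act x (F.act F.p v) = F.act F.p (F.act x v) := by
  obtain ⟨hxz, hxp⟩ := F.mem_C.1 hx
  rw [← act_mul F.ctx hxz F.p_comm, hxp.eq, act_mul F.ctx F.p_comm hxz]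

/-- An invariant subspace of the displaced space of an element of order five has dimension a multiple of four. -/
theorem four_dvd_finrank {x : G} (hx : x ∈ F.C) (h5 : x ^ 5 = 1) (hne : F.img x ≠ 1)
    {W : Submodule (ZMod 2) F.V} (hle : W ≤ LinearMap.range (F.disp x)) (hW : ∀ w ∈ W, F.act x w ∈ W) :
    4 ∣ finrank (ZMod 2) ↥W := by
  classical
  haveI : FiniteDimensional (ZMod 2) F.V := Module.Finite.of_finite
  haveI : Fact (Nat.Prime 5) := ⟨by norm_num⟩
  haveI : Fintype ↥W := Fintype.ofFinite _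
  have hxz := (F.mem_C.1 hx).1
  obtain ⟨hdis, -, -, hsum⟩ := F.odd_split hxz (n := 5) (by decide) h5
  obtain ⟨-, hm⟩ := F.gauss_congr hxz h5 W hW fun w hw h => hdis w (F.mem_ker_disp.2 h) (hle hw)
  rw [F.card_sub] at hm
  have h4 := F.finrank_fix_five hx h5 hne
  have hle' := Submodule.finrank_mono hle
  set d := finrank (ZMod 2) ↥W
  have : d ≤ 8 := by omega
  interval_cases d
  all_goals first | omega | (revert hm; norm_num)

/-- A fixed space inside the fixed space of an element of order five is a singular line. -/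
theorem line_of_le {x : G} (hx : x ∈ F.C) (h5 : x ^ 5 = 1) (hne : F.img x ≠ 1) {R : Subgroup A} (hI : R ≤ I)
    (h2 : ∀ r ∈ R, r * r = 1) (hcomm : ∀ r ∈ R, ∀ r' ∈ R, Commute r r')
    (hle : F.fixR R ≤ F.fix x) :
    ∃ v, v ≠ 0 ∧ JankoFour.qf F.ctx v = 0 ∧ F.fixR R = F.line v := by
  haveI : FiniteDimensional (ZMod 2) F.V := Module.Finite.of_finite
  have hxz := (F.mem_C.1 hx).1
  obtain ⟨hdis, hpf, hpm, hsum⟩ := F.odd_split hxz (n := 5) (by decide) h5
  have h4 := F.finrank_fix_five hx h5 hne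
  have hle' := Submodule.finrank_mono hle
  obtain ⟨j, hj⟩ := F.even_finrank (F.fixR R) F.p_fixR
  obtain ⟨v, hv, hv0⟩ := (Submodule.ne_bot_iff _).1 (F.fixR_ne_bot hI h2 hcomm)
  -- a fixed space of dimension four would be the whole fixed space
  have hne4 : finrank (ZMod 2) ↥(F.fixR R) ≠ 4 := by
    intro e4
    have hU : F.fixR R = F.fix x :=
      Submodule.eq_of_le_of_finrank_le hle (by change finrank (ZMod 2) ↥(F.fix x) ≤ _; omega)
    set M := LinearMap.range (F.disp x)
    have hMR : ∀ c ∈ F.Lifts R, ∀ w ∈ M, F.act c w ∈ M := by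
      intro c hc w hw
      rw [← hpf] at hw ⊢
      exact F.perp_invariant (F.mem_C.1 hc.1).1
        (fun u hu => by rw [F.mem_fixR.1 (hU ▸ hu) c hc]; exact hu) w hw
    have hMne : M ≠ ⊥ := fun e => F.disp_ne_zero hxz hne (by
      show finrank (ZMod 2) ↥M = 0
      rw [e, finrank_bot])
    obtain ⟨w, hwM, hw0, hwU⟩ := F.exists_fixed_lifts hI h2 hcomm M hMR hMne
    exact hw0 (hdis w (hU ▸ hwU) hwM)
  have hline : F.line v = F.fixR R := by
    refine F.eq_line F.p_fixR ?_ hv hv0
    have : finrank (ZMod 2) ↥(F.fix x) = 4 := h4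
    have h' : finrank (ZMod 2) ↥(F.fixR R) ≤ finrank (ZMod 2) ↥(F.fix x) := hle'
    omega
  refine ⟨v, hv0, (bit _).resolve_right fun hq => ?_, hline.symm⟩
  have hP : F.perp (F.fixR R) ≠ ⊥ := fun e => by
    have := F.finrank_perp (F.fixR R)
    rw [e, finrank_bot] at this
    have h' : finrank (ZMod 2) ↥(F.fixR R) ≤ finrank (ZMod 2) ↥(F.fix x) := hle'
    have h'' : finrank (ZMod 2) ↥(F.fix x) = 4 := h4
    omega
  obtain ⟨w, hwP, hw0, hwU⟩ := F.exists_fixed_lifts hI h2 hcomm _
    (fun c hc => F.perp_invariant (F.mem_C.1 hc.1).1 fun u hu => by rw [F.mem_fixR.1 hu c hc]; exact hu) hP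
  rw [← hline] at hwU
  rw [← hline] at hwP
  have h1 := hwP v (F.self_mem_line v)
  have h2' := hwP _ (F.line_invariant (F.self_mem_line v))
  have e1 : JankoFour.B F.ctx v (F.act F.p v) = 1 := by rw [F.B_v_pv, hq]
  rcases F.mem_line.1 hwU with rfl | rfl | rfl | rfl
  · exact hw0 rfl
  · rw [B_symm, e1] at h2'
    exact one_ne_zero h2'
  · rw [e1] at h1
    exact one_ne_zero h1
  · rw [F.act_p_sq, map_add, B_self, zero_add, e1] at h1
    exact one_ne_zero h1

variable (D : LocalData A I)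

theorem prime_five : (5 : ℕ).Coprime 12 ∧ ¬ 5 ^ 2 ∣ 887040 := by norm_num

theorem prime_seven : (7 : ℕ).Coprime 12 ∧ ¬ 7 ^ 2 ∣ 887040 := by norm_num

/-- An element of order five over the chosen one. -/
theorem exists_five_lift : ∃ x ∈ F.C, F.img x = D.x ∧ orderOf x = 5 := by
  haveI : Fact (Nat.Prime 5) := ⟨by norm_num⟩
  exact F.exists_lift_prime D.x_mem D.x_ord (k := 6) (by norm_num) (by norm_num)

variable {x : G} (hx : x ∈ F.C) (hxi : F.img x = D.x) (hxo : orderOf x = 5)
include hx hxi hxo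

theorem five_pow : x ^ 5 = 1 := hxo ▸ pow_orderOf_eq_one x

theorem five_ne : F.img x ≠ 1 := fun h => by
  have := D.x_ord
  rw [← hxi, h, orderOf_one] at this
  omega

/-- A lift of the outer involution commuting with the element of order five. -/
theorem exists_outer : ∃ u, Commute u F.z ∧ Commute u x ∧ F.img u = D.s := by
  haveI : Fact (Nat.Prime 5) := ⟨by norm_num⟩
  exact F.exists_cent_lift prime_five.1 prime_five.2 (F.mem_C.1 hx).1 hxo (hxi ▸ D.s_x)

theorem five_maps {R : Subgroup A} (hI : R ≤ I) (h2 : ∀ r ∈ R, r * r = 1)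
    (hxR : ∀ r ∈ R, D.x * r * D.x⁻¹ ∈ R) : ∀ v ∈ F.fixR R, F.act x v ∈ F.fixR R := fun v hv => by
  haveI := F.finite_A
  refine F.maps_fixR (F.mem_C.1 hx).1 hI h2 (fun r hr => ?_) hv
  rw [hxi]
  exact conj_inv_mem hxR hr

/-- The fixed space of the duad group is a singular line fixed by the element of order five. -/
theorem duad_line : ∃ v, v ≠ 0 ∧ JankoFour.qf F.ctx v = 0 ∧ F.fixR D.Rd = F.line v ∧
    F.fixR D.Rd ≤ F.fix x := by
  haveI : FiniteDimensional (ZMod 2) F.V := Module.Finite.of_finite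
  haveI := F.finite_A
  have h5 := F.five_pow D hx hxi hxo
  have hne := F.five_ne D hx hxi hxo
  obtain ⟨hxz, hxp⟩ := F.mem_C.1 hx
  obtain ⟨u, huz, hux, hui⟩ := F.exists_outer D hx hxi hxo
  obtain ⟨hdis, -, -, -⟩ := F.odd_split hxz (n := 5) (by decide) h5
  set U := F.fixR D.Rd
  set M := LinearMap.range (F.disp x)
  have hUx : ∀ v ∈ U, F.act x v ∈ U := F.five_maps D hx hxi hxo D.Rd_le D.Rd_two D.x_Rd
  have hUu : ∀ v ∈ U, F.act u v ∈ U := fun v hv => F.maps_fixR huz D.Rd_le D.Rd_two (fun r hr => by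
    rw [hui, mul_assoc, ← (D.s_Rd r hr).eq, inv_mul_cancel_left]; exact hr) hv
  have hux' : ∀ w, F.act u (F.act x w) = F.act x (F.act u w) := fun w => by
    rw [← act_mul F.ctx huz hxz, hux.eq, act_mul F.ctx hxz huz]
  have hMu : ∀ v ∈ M, F.act u v ∈ M := by
    rintro _ ⟨w, rfl⟩
    exact ⟨F.act u w, by rw [disp_apply, disp_apply, map_add, hux']⟩
  have hbot : U ⊓ M = ⊥ := by
    refine (Submodule.eq_bot_iff _).2 fun v hv => ?_
    by_contra hv0
    have hDx : ∀ w ∈ U ⊓ M, F.act x w ∈ U ⊓ M := fun w hw => ⟨hUx w hw.1, F.disp_invariant hxz w hw.2⟩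
    have hd4 : finrank (ZMod 2) ↥(U ⊓ M) = 4 := by
      obtain ⟨k, hk⟩ := F.four_dvd_finrank hx h5 hne inf_le_right hDx
      have h0 : finrank (ZMod 2) ↥(U ⊓ M) ≠ 0 := fun h => hv0 (by
        rwa [Submodule.finrank_eq_zero.1 h, Submodule.mem_bot] at hv)
      have := Submodule.finrank_mono (inf_le_left : U ⊓ M ≤ U)
      have : finrank (ZMod 2) ↥U < 8 := F.finrank_fixR_lt D.Rd_le D.Rd_two D.Rd_comm D.Rd_card
      have hk' : finrank (ZMod 2) ↥(U ⊓ M) = 4 * k := hk
      omega
    set X := F.act x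
    set S := Submodule.span (ZMod 2) ({v, X v, X (X v), X (X (X v))} : Set F.V)
    have hSD : S ≤ U ⊓ M := Submodule.span_le.2 (by
      rintro _ (rfl | rfl | rfl | rfl)
      exacts [hv, hDx _ hv, hDx _ (hDx _ hv), hDx _ (hDx _ (hDx _ hv))])
    have hX5 : ∀ w, X (X (X (X (X w)))) = w := fun w => by
      have e : F.act (x ^ 5) w = w := by rw [h5, act_one]
      rwa [pow_succ', act_mul F.ctx hxz (hxz.pow_left 4), pow_succ', act_mul F.ctx hxz (hxz.pow_left 3),
        pow_succ', act_mul F.ctx hxz (hxz.pow_left 2), pow_two, act_mul F.ctx hxz hxz] at e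
    have hsum : X (X (X (X v))) = v + X v + X (X v) + X (X (X v)) := by
      refine ((add_eq_zero_iff_eq' F.ctx).1 ?_).symm
      refine hdis _ (F.mem_ker_disp.2 ?_) ?_
      · rw [map_add, map_add, map_add, map_add, hX5]; abel
      · exact M.add_mem (M.add_mem (M.add_mem (M.add_mem hv.2 (hDx _ hv).2) (hDx _ (hDx _ hv)).2)
          (hDx _ (hDx _ (hDx _ hv))).2) (hDx _ (hDx _ (hDx _ (hDx _ hv)))).2
    have hSx : ∀ w ∈ S, X w ∈ S := by
      intro w hw
      induction hw using Submodule.span_induction with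
      | mem a ha =>
        rcases ha with rfl | rfl | rfl | rfl
        · exact Submodule.subset_span (by simp)
        · exact Submodule.subset_span (by simp)
        · exact Submodule.subset_span (by simp)
        · rw [hsum]
          exact S.add_mem (S.add_mem (S.add_mem (Submodule.subset_span (by simp))
            (Submodule.subset_span (by simp))) (Submodule.subset_span (by simp))) (Submodule.subset_span (by simp))
      | zero => rw [map_zero]; exact S.zero_mem
      | add a b _ _ ha hb => rw [map_add]; exact S.add_mem ha hb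
      | smul a b _ hb => rw [map_smul]; exact S.smul_mem a hb
    have hS : S = U ⊓ M := by
      refine Submodule.eq_of_le_of_finrank_le hSD ?_
      obtain ⟨k, hk⟩ := F.four_dvd_finrank hx h5 hne (hSD.trans inf_le_right) hSx
      have h0 : finrank (ZMod 2) ↥S ≠ 0 := fun h => hv0 (by
        have hvS : v ∈ S := Submodule.subset_span (by simp)
        rw [Submodule.finrank_eq_zero.1 h, Submodule.mem_bot] at hvS
        exact hvS)
      omega
    have hpv : F.act F.p v ∈ S := by
      rw [hS]; exact ⟨F.p_fixR v hv.1, F.p_disp_invariant hx v hv.2⟩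
    obtain ⟨a₀, t₀, ht₀, e₀⟩ := Submodule.mem_span_insert.1 hpv
    obtain ⟨a₁, t₁, ht₁, rfl⟩ := Submodule.mem_span_insert.1 ht₀
    obtain ⟨a₂, t₂, ht₂, rfl⟩ := Submodule.mem_span_insert.1 ht₁
    obtain ⟨a₃, rfl⟩ := Submodule.mem_span_singleton.1 ht₂
    set P : F.V → F.V := fun w => a₀ • w + (a₁ • X w + (a₂ • X (X w) + a₃ • X (X (X w))))
    have hPX : ∀ w, P (X w) = X (P w) := fun w => by simp only [P, map_add, map_smul]
    have hagree : ∀ w ∈ S, F.act F.p w = P w := by
      intro w hw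
      induction hw using Submodule.span_induction with
      | mem a ha =>
        have e1 : ∀ b, F.act F.p (X b) = X (F.act F.p b) := fun b => (F.act_pow_comm hx b).symm
        rcases ha with rfl | rfl | rfl | rfl
        · exact e₀
        · rw [e1, e₀, hPX]
        · rw [e1, e1, e₀, hPX, hPX]
        · rw [e1, e1, e1, e₀, hPX, hPX, hPX]
      | zero => simp [P]
      | add a b _ _ ha hb => simp only [map_add, ha, hb, P, smul_add]; abel
      | smul a b _ hb => simp only [map_smul, hb, P, smul_add, smul_comm a]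
    have huv : F.act u v ∈ S := by rw [hS]; exact ⟨hUu v hv.1, hMu v hv.2⟩
    have e2 : F.act u (F.act F.p v) = F.act F.p (F.act u v) := by
      rw [hagree _ huv, hagree v (Submodule.subset_span (by simp))]
      simp only [P, map_add, map_smul, X, hux']
    rw [F.act_p_inv huz (hui.symm ▸ D.s_notMem)] at e2
    exact hv0 (act_injective F.ctx huz ((F.act_p_eq (act_injective F.ctx F.p_comm e2)).trans (map_zero _).symm))
  have hle : U ≤ F.fix x := by
    intro w hw
    have hsplit := (F.odd_split_sub hxz (n := 5) (by decide) h5 U hUx).1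
    rw [hbot, sup_bot_eq] at hsplit
    rw [hsplit] at hw
    exact hw.2
  obtain ⟨v, hv0, hq, e⟩ := F.line_of_le hx h5 hne D.Rd_le D.Rd_two D.Rd_comm hle
  exact ⟨v, hv0, hq, e, hle⟩

/-- The fixed space of the hexad group meets that of the element of order five in a singular vector. -/
theorem hexad_vector : ∃ v, v ≠ 0 ∧ JankoFour.qf F.ctx v = 0 ∧ v ∈ F.fixR D.Rh ∧ v ∈ F.fix x := by
  classical
  haveI : FiniteDimensional (ZMod 2) F.V := Module.Finite.of_finite
  haveI := F.finite_A
  have h5 := F.five_pow D hx hxi hxo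
  have hne := F.five_ne D hx hxi hxo
  obtain ⟨hxz, hxp⟩ := F.mem_C.1 hx
  obtain ⟨hdis, -, -, -⟩ := F.odd_split hxz (n := 5) (by decide) h5
  set U := F.fixR D.Rh
  set M := LinearMap.range (F.disp x)
  have hUx : ∀ v ∈ U, F.act x v ∈ U := F.five_maps D hx hxi hxo D.Rh_le D.Rh_two D.x_Rh
  by_cases hbot : U ⊓ M = ⊥
  · have hle : U ≤ F.fix x := by
      intro w hw
      have hsplit := (F.odd_split_sub hxz (n := 5) (by decide) h5 U hUx).1
      rw [hbot, sup_bot_eq] at hsplit
      rw [hsplit] at hw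
      exact hw.2
    obtain ⟨v, hv0, hq, e⟩ := F.line_of_le hx h5 hne D.Rh_le D.Rh_two D.Rh_comm hle
    have hvU : v ∈ U := by
      show v ∈ F.fixR D.Rh
      rw [e]; exact F.self_mem_line v
    exact ⟨v, hv0, hq, hvU, hle hvU⟩
  have h8 : finrank (ZMod 2) ↥U < 8 := F.finrank_fixR_lt D.Rh_le D.Rh_two D.Rh_comm D.Rh_card
  set U₀ := U ⊓ F.perp U with hU₀
  have hUinv : ∀ c ∈ F.Lifts D.Rh, ∀ w ∈ U, F.act c w ∈ U := fun c hc w hw => by
    rw [F.mem_fixR.1 hw c hc]; exact hw
  have hU₀ne : U₀ ≠ ⊥ := by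
    have hP : F.perp U ≠ ⊥ := fun e => by
      have := F.finrank_perp U
      rw [e, finrank_bot] at this
      omega
    obtain ⟨w, hwP, hw0, hwU⟩ := F.exists_fixed_lifts D.Rh_le D.Rh_two D.Rh_comm _
      (fun c hc => F.perp_invariant (F.mem_C.1 hc.1).1 (hUinv c hc)) hP
    exact (Submodule.ne_bot_iff _).2 ⟨w, ⟨hwU, hwP⟩, hw0⟩
  have hU₀p : ∀ v ∈ U₀, F.act F.p v ∈ U₀ := fun v hv =>
    ⟨F.p_fixR v hv.1, F.perp_invariant F.p_comm F.p_fixR v hv.2⟩
  have hU₀x : ∀ v ∈ U₀, F.act x v ∈ U₀ := fun v hv => ⟨hUx v hv.1, F.perp_invariant hxz hUx v hv.2⟩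
  by_cases hT : U₀ ⊓ F.fix x = ⊥
  swap
  · obtain ⟨v, ⟨hv, hvT⟩, hv0⟩ := (Submodule.ne_bot_iff _).1 hT
    refine ⟨v, hv0, ?_, hv.1, hvT⟩
    rw [← F.B_v_pv, B_symm]
    exact hv.2 _ (F.p_fixR v hv.1)
  exfalso
  have hleM : U₀ ≤ M := by
    intro w hw
    have hsplit := (F.odd_split_sub hxz (n := 5) (by decide) h5 U₀ hU₀x).1
    rw [hT, bot_sup_eq] at hsplit
    rw [hsplit] at hw
    exact hw.2
  have hd4 : finrank (ZMod 2) ↥U₀ = 4 := by
    obtain ⟨k, hk⟩ := F.four_dvd_finrank hx h5 hne hleM hU₀x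
    have h0 : finrank (ZMod 2) ↥U₀ ≠ 0 := fun h => hU₀ne (Submodule.finrank_eq_zero.1 h)
    have : finrank (ZMod 2) ↥U₀ ≤ finrank (ZMod 2) ↥U := Submodule.finrank_mono (inf_le_left : U₀ ≤ U)
    have hk' : finrank (ZMod 2) ↥U₀ = 4 * k := hk
    omega
  -- the five lines
  set N := I ⊓ Subgroup.normalizer (D.Rh : Set A) with hN
  let Ls := {L : Submodule (ZMod 2) F.V // ∃ v ∈ U₀, v ≠ 0 ∧ L = F.line v}
  choose l hl hli using fun a : ↥N => F.mem_I_iff.1 (Subgroup.mem_inf.1 a.2).1
  have hlz : ∀ a, Commute (l a) F.z := fun a => (F.mem_C.1 (hl a)).1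
  have hlU : ∀ a, ∀ v ∈ U₀, F.act (l a) v ∈ U₀ := by
    intro a
    have hUl : ∀ w ∈ U, F.act (l a) w ∈ U := fun w hw => by
      refine F.maps_fixR (hlz a) D.Rh_le D.Rh_two (fun r hr => ?_) hw
      rw [hli]
      have h1 := (Subgroup.mem_normalizer_iff.1 (inv_mem (Subgroup.mem_inf.1 a.2).2) r).1 hr
      rwa [inv_inv] at h1
    exact fun v hv => ⟨hUl v hv.1, F.perp_invariant (hlz a) hUl v hv.2⟩
  have hmap : ∀ {c : G}, c ∈ F.C → ∀ w, (F.line w).map (F.act c) = F.line (F.act c w) := by
    intro c hc w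
    show (Submodule.span (ZMod 2) ({w, F.act F.p w} : Set F.V)).map (F.act c) = _
    rw [Submodule.map_span, Set.image_pair, F.act_pow_comm hc]
    rfl
  have hsame : ∀ {c c' : G}, c ∈ F.C → c' ∈ F.C → F.img c = F.img c' → ∀ w,
      F.line (F.act c w) = F.line (F.act c' w) := by
    intro c c' hc hc' e w
    have hcz := (F.mem_C.1 hc).1
    have hc'z := (F.mem_C.1 hc').1
    obtain ⟨i, hi⟩ := F.ker_C (mul_mem (inv_mem hc) hc')
      (by rw [F.img_mul _ _ hcz.inv_left hc'z, F.img_inv hcz, e, inv_mul_cancel])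
    have hpi : ∀ u, F.act (F.p ^ i) u ∈ F.line u := fun u => by
      rw [show F.p ^ i = F.p ^ (i % 3) by rw [← F.p_ord, pow_mod_orderOf]]
      rcases (show i % 3 = 0 ∨ i % 3 = 1 ∨ i % 3 = 2 by omega) with e0 | e0 | e0 <;> rw [e0]
      · rw [pow_zero, act_one]; exact F.self_mem_line u
      · rw [pow_one]; exact F.line_invariant (F.self_mem_line u)
      · rw [pow_two, act_mul F.ctx F.p_comm F.p_comm]
        exact F.line_invariant (F.line_invariant (F.self_mem_line u))
    obtain ⟨b, hb, hc'e⟩ : ∃ b, b ∈ F.line w ∧ F.act c' w = F.act c b := by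
      refine ⟨F.act (c⁻¹ * c') w, ?_, ?_⟩
      · rcases hi with h | h <;> rw [h]
        · exact hpi w
        · rw [act_mul F.ctx (Commute.refl _) (F.p_comm.pow_left i), act_of_mem F.ctx F.ctx.mem]
          exact hpi w
      · rw [← act_mul F.ctx hcz (hcz.inv_left.mul_left hc'z), mul_inv_cancel_left]
    by_cases hb0 : b = 0
    · subst hb0
      have hw0 : w = 0 := act_injective F.ctx hc'z (by rw [hc'e, map_zero, map_zero])
      rw [hw0, map_zero, map_zero]
    · rw [← hmap hc w, ← F.line_eq hb hb0, hmap hc b, hc'e]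
  let act' : ↥N → Ls → Ls := fun a L => ⟨L.1.map (F.act (l a)), by
    obtain ⟨v, hv, hv0, e⟩ := L.2
    exact ⟨F.act (l a) v, hlU a v hv, fun h => hv0 (act_injective F.ctx (hlz a) (by rw [h, map_zero])),
      by rw [e, hmap (hl a)]⟩⟩
  have hmul : ∀ a b L, act' (a * b) L = act' a (act' b L) := by
    intro a b L
    obtain ⟨v, hv, hv0, e⟩ := L.2
    refine Subtype.ext ?_
    show L.1.map (F.act (l (a * b))) = (L.1.map (F.act (l b))).map (F.act (l a))
    rw [e, hmap (hl b), hmap (hl a), hmap (hl _), ← act_mul F.ctx (hlz a) (hlz b)]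
    exact hsame (hl _) (mul_mem (hl a) (hl b)) (by
      rw [hli, F.img_mul _ _ (hlz a) (hlz b), hli, hli]; rfl) v
  have hone : ∀ L, act' 1 L = L := by
    intro L
    obtain ⟨v, hv, hv0, e⟩ := L.2
    refine Subtype.ext ?_
    show L.1.map (F.act (l 1)) = L.1
    rw [e, hmap (hl 1), hsame (hl 1) (one_mem F.C) (by rw [hli, F.img_one]; rfl) v, act_one]
  letI : MulAction ↥N Ls := { smul := act', mul_smul := hmul, one_smul := hone }
  haveI : Fintype Ls := Fintype.ofFinite _
  have h5L : Fintype.card Ls = 5 := by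
    let f : {v : ↥U₀ // v ≠ 0} → Ls := fun v =>
      ⟨F.line (v.1 : F.V), v.1, v.1.2, fun h => v.2 (Subtype.ext h), rfl⟩
    haveI : Fintype {v : ↥U₀ // v ≠ 0} := Fintype.ofFinite _
    have h15 : Fintype.card {v : ↥U₀ // v ≠ 0} = 15 := by
      haveI : Fintype ↥U₀ := Fintype.ofFinite _
      have h16 : Fintype.card ↥U₀ = 16 := by rw [← Nat.card_eq_fintype_card, F.card_sub, hd4]; norm_num
      have h := Fintype.card_subtype_compl (fun v : ↥U₀ => v = 0)
      rw [Fintype.card_subtype_eq, h16] at h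
      exact (Fintype.card_congr (Equiv.refl _)).trans h
    have hfib : ∀ L : Ls, (Finset.univ.filter fun v => f v = L).card = 3 := by
      intro L
      obtain ⟨w, hw, hw0, e⟩ := L.2
      let g : Fin 3 → {v : ↥U₀ // v ≠ 0} := fun i =>
        ⟨⟨F.act (F.p ^ (i : ℕ)) w, by
          rcases i with ⟨i, hi⟩
          interval_cases i
          · show F.act (F.p ^ 0) w ∈ U₀
            rw [pow_zero, act_one]; exact hw
          · show F.act (F.p ^ 1) w ∈ U₀
            rw [pow_one]; exact hU₀p w hw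
          · show F.act (F.p ^ 2) w ∈ U₀
            rw [pow_two, act_mul F.ctx F.p_comm F.p_comm]; exact hU₀p _ (hU₀p w hw)⟩,
          fun h => hw0 (act_injective F.ctx (F.p_comm.pow_left _) ((congrArg Subtype.val h).trans (map_zero _).symm))⟩
      have hp1 : F.act (F.p ^ 1) w = F.act F.p w := by rw [pow_one]
      have hp2 : F.act (F.p ^ 2) w = F.act F.p (F.act F.p w) := by
        rw [pow_two, act_mul F.ctx F.p_comm F.p_comm]
      have hginj : Function.Injective g := by
        intro i j h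
        have h' : F.act (F.p ^ (i : ℕ)) w = F.act (F.p ^ (j : ℕ)) w :=
          congrArg (fun v : {v : ↥U₀ // v ≠ 0} => (v.1 : F.V)) h
        have n1 : F.act F.p w ≠ w := fun h => hw0 (F.act_p_eq h)
        have n2 : F.act F.p (F.act F.p w) ≠ w := fun h => n1 (by
          conv_lhs => rw [← h]
          exact F.act_p_three w)
        have n3 : F.act F.p (F.act F.p w) ≠ F.act F.p w := fun h => n1 (act_injective F.ctx F.p_comm h)
        fin_cases i <;> fin_cases j <;> first
          | rfl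
          | (exfalso; simp only [pow_zero, pow_one, act_one, hp2] at h'
             first | exact n1 h' | exact n1 h'.symm | exact n2 h' | exact n2 h'.symm | exact n3 h' | exact n3 h'.symm)
      rw [← Finset.card_fin 3, ← Finset.card_image_of_injective _ hginj]
      congr 1
      ext v
      simp only [Finset.mem_filter, Finset.mem_univ, true_and, Finset.mem_image]
      constructor
      · intro hv
        have hv' : F.line (v.1 : F.V) = F.line w := (congrArg Subtype.val hv).trans e
        rcases F.mem_line.1 (hv' ▸ F.self_mem_line (v.1 : F.V)) with h | h | h | h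
        · exact absurd (Subtype.ext h) v.2
        · exact ⟨0, Subtype.ext (Subtype.ext (by rw [h]; show F.act (F.p ^ 0) w = w; rw [pow_zero, act_one]))⟩
        · exact ⟨1, Subtype.ext (Subtype.ext (by rw [h]; exact hp1))⟩
        · exact ⟨2, Subtype.ext (Subtype.ext (by rw [h]; exact hp2))⟩
      · rintro ⟨i, rfl⟩
        refine Subtype.ext ?_
        show F.line (F.act (F.p ^ (i : ℕ)) w) = L.1
        rw [e]
        refine F.line_eq ?_ fun h => hw0 (act_injective F.ctx (F.p_comm.pow_left _) (h.trans (map_zero _).symm))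
        fin_cases i
        · show F.act (F.p ^ 0) w ∈ _
          rw [pow_zero, act_one]; exact F.self_mem_line w
        · show F.act (F.p ^ 1) w ∈ _
          rw [hp1]; exact F.line_invariant (F.self_mem_line w)
        · show F.act (F.p ^ 2) w ∈ _
          rw [hp2]; exact F.line_invariant (F.line_invariant (F.self_mem_line w))
    have h := Finset.card_eq_sum_card_fiberwise (s := (Finset.univ : Finset {v : ↥U₀ // v ≠ 0}))
      (t := (Finset.univ : Finset Ls)) (f := f) (fun _ _ => Finset.mem_univ _)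
    rw [Finset.sum_congr rfl fun L _ => hfib L, Finset.card_univ, Finset.sum_const, Finset.card_univ, h15,
      smul_eq_mul] at h
    omega
  let φ : ↥N →* Equiv.Perm (Fin 5) :=
    ((Fintype.equivFinOfCardEq h5L).permCongrHom).toMonoidHom.comp (MulAction.toPermHom ↥N Ls)
  have hxN : D.x ∈ N := by
    refine Subgroup.mem_inf.2 ⟨D.x_mem, Subgroup.mem_normalizer_iff.2 fun r => ⟨D.x_Rh r, fun h => ?_⟩⟩
    have := conj_inv_mem D.x_Rh h
    rwa [show D.x⁻¹ * (D.x * r * D.x⁻¹) * D.x = r by group] at this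
  have h1 := D.no_five φ hxN
  have h1' : MulAction.toPermHom ↥N Ls ⟨D.x, hxN⟩ = 1 :=
    (Fintype.equivFinOfCardEq h5L).permCongrHom.injective (h1.trans (map_one _).symm)
  obtain ⟨v, hv, hv0⟩ := (Submodule.ne_bot_iff _).1 hU₀ne
  have hfix : act' ⟨D.x, hxN⟩ ⟨F.line v, v, hv, hv0, rfl⟩ = ⟨F.line v, v, hv, hv0, rfl⟩ :=
    congrArg (fun σ : Equiv.Perm Ls => σ ⟨F.line v, v, hv, hv0, rfl⟩) h1'
  have hlx : F.line (F.act x v) = F.line v := by
    have h2 : (F.line v).map (F.act (l ⟨D.x, hxN⟩)) = F.line v := congrArg Subtype.val hfix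
    rw [hmap (hl _)] at h2
    rw [← hsame (hl ⟨D.x, hxN⟩) hx (by rw [hli, hxi]) v]
    exact h2
  have hleMv : F.line v ≤ M := F.line_le (hleM hv) (F.p_disp_invariant hx)
  have hlinv : ∀ w ∈ F.line v, F.act x w ∈ F.line v := fun w hw => by
    rw [← hlx, ← hmap hx]
    exact ⟨w, hw, rfl⟩
  obtain ⟨k, hk⟩ := F.four_dvd_finrank hx h5 hne hleMv hlinv
  rw [F.finrank_line hv0] at hk
  omega

/-- The outer involution moves the singular line of the hexad group. -/
theorem outer_moves {u : G} (huz : Commute u F.z) (hui : F.img u = D.s) {v : F.V} (hv0 : v ≠ 0)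
    (hq : JankoFour.qf F.ctx v = 0) (hv : v ∈ F.fixR D.Rh) : F.act u v ∉ F.line v := by
  intro hmem
  haveI := F.finite_A
  have hPR : F.line v ≤ F.fixR D.Rh := F.line_le hv F.p_fixR
  have hI : I.Normal := F.facts.normal
  have huv : ∀ w ∈ F.line v, F.act u w ∈ F.line v := by
    intro w hw
    have hsI : F.img u ∉ I := hui ▸ D.s_notMem
    rcases F.mem_line.1 hw with rfl | rfl | rfl | rfl
    · rw [map_zero]; exact Submodule.zero_mem _
    · exact hmem
    · rw [F.act_p_inv huz hsI]; exact F.line_invariant (F.line_invariant hmem)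
    · rw [F.act_p_inv huz hsI, F.act_p_inv huz hsI]
      exact F.line_invariant (F.line_invariant (F.line_invariant (F.line_invariant hmem)))
  let K : Subgroup A :=
    { carrier := {a | ∃ c ∈ F.C, F.img c = a ∧ F.act c v = v}
      one_mem' := ⟨1, one_mem _, F.img_one, act_one F.ctx v⟩
      mul_mem' := by
        rintro _ _ ⟨c, hc, rfl, h⟩ ⟨d, hd, rfl, h'⟩
        refine ⟨c * d, mul_mem hc hd, F.img_mul _ _ (F.mem_C.1 hc).1 (F.mem_C.1 hd).1, ?_⟩
        rw [act_mul F.ctx (F.mem_C.1 hc).1 (F.mem_C.1 hd).1, h', h]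
      inv_mem' := by
        rintro _ ⟨c, hc, rfl, h⟩
        refine ⟨c⁻¹, inv_mem hc, F.img_inv (F.mem_C.1 hc).1, ?_⟩
        conv_lhs => rw [← h]
        exact act_inv_act F.ctx (F.mem_C.1 hc).1 v }
  have hRK : D.Rh ⊔ D.Rh.map (MulAut.conj D.s).toMonoidHom ≤ K := by
    refine sup_le (fun r hr => ?_) ?_
    · obtain ⟨c, hc, rfl⟩ := F.exists_lift_R D.Rh_le D.Rh_two hr
      exact ⟨c, hc.1, rfl, F.mem_fixR.1 hv c hc⟩
    · rintro _ ⟨r, hr, rfl⟩
      obtain ⟨c, hc, hcr⟩ := F.exists_lift_R D.Rh_le D.Rh_two hr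
      obtain ⟨hcz, -⟩ := F.mem_C.1 hc.1
      obtain ⟨d, hd, hdi, hd2⟩ := F.exists_lift_two (hI.conj_mem r (D.Rh_le hr) D.s) (by
        rw [show D.s * r * D.s⁻¹ * (D.s * r * D.s⁻¹) = D.s * (r * r) * D.s⁻¹ by group, D.Rh_two r hr, mul_one,
          mul_inv_cancel])
      set y := u * c * u⁻¹
      have hyz : Commute y F.z := (huz.mul_left hcz).mul_left huz.inv_left
      have hyact : ∀ w, F.act y (F.act u w) = F.act u (F.act c w) := fun w => by
        rw [← act_mul F.ctx hyz huz, inv_mul_cancel_right, act_mul F.ctx huz hcz]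
      have huu : ∀ w, ∃ w', F.act u w' = w := fun w =>
        ⟨F.act u⁻¹ w, by rw [← act_mul F.ctx huz huz.inv_left, mul_inv_cancel, act_one]⟩
      have hy2 : ∀ w, F.act y (F.act y w) = w := fun w => by
        obtain ⟨w', rfl⟩ := huu w
        rw [hyact, hyact, F.act_sq_of_lift hc]
      refine ⟨d, hd, hdi, ?_⟩
      rw [F.act_eq_lift hyz hd (by rw [hdi, F.img_conj huz hcz, hui, hcr]) hy2 hd2]
      -- a preimage of `v` in the line
      haveI : FiniteDimensional (ZMod 2) F.V := Module.Finite.of_finite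
      have e : (F.line v).map (F.act u) = F.line v := Submodule.eq_of_le_of_finrank_le
        (by rintro _ ⟨w, hw, rfl⟩; exact huv w hw)
        (Submodule.equivMapOfInjective (F.act u) (act_injective F.ctx huz) (F.line v)).finrank_eq.le
      obtain ⟨w, hw, hwv⟩ := e.symm ▸ F.self_mem_line v
      rw [← hwv, hyact, F.mem_fixR.1 (hPR hw) c hc]
  obtain ⟨w, hw, hwo⟩ := D.eleven
  obtain ⟨c, hc, hcw, hcv⟩ := hRK hw
  obtain ⟨hcz, -⟩ := F.mem_C.1 hc
  have h11 : w ^ 11 = 1 := hwo ▸ pow_orderOf_eq_one w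
  have hne : F.img (c ^ 12) ≠ 1 := by
    rw [F.img_pow hcz, hcw, show 12 = 11 + 1 from rfl, pow_succ, h11, one_mul]
    intro h
    rw [h, orderOf_one] at hwo
    omega
  have hc11 : (c ^ 12) ^ 11 = 1 := by
    rw [← pow_mul, mul_comm, pow_mul]
    have hk := F.ker_pow (hcz.pow_left 11) (by rw [F.img_pow hcz, hcw, h11])
    exact hk
  exact hv0 (F.fix_eleven (pow_mem hc 12) hc11 hne
    (F.mem_ker_disp.2 (F.act_pow_fix hcz hcv 12)) hq)

/-- The duad line is the only singular line of the fixed space fixed by the outer involution. -/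
theorem line_unique {u : G} (huz : Commute u F.z) (hux : Commute u x) (hui : F.img u = D.s) {a : F.V}
    (ha0 : a ≠ 0) (hqa : JankoFour.qf F.ctx a = 0) (haT : a ∈ F.fix x) (hau : F.act u a ∈ F.line a) :
    F.line a = F.fixR D.Rd := by
  haveI : FiniteDimensional (ZMod 2) F.V := Module.Finite.of_finite
  haveI := F.finite_A
  obtain ⟨hxz, -⟩ := F.mem_C.1 hx
  have h5 := F.five_pow D hx hxi hxo
  obtain ⟨hdis, hpf, -, -⟩ := F.odd_split hxz (n := 5) (by decide) h5
  obtain ⟨b, hb0, hqb, hUb, hbT⟩ := F.duad_line D hx hxi hxo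
  obtain ⟨v, hv0, hqv, hvU, hvT⟩ := F.hexad_vector D hx hxi hxo
  rw [hUb] at hbT ⊢
  by_contra hab
  have hbu : ∀ w ∈ F.line b, F.act u w ∈ F.line b := by
    rw [← hUb]
    exact fun w hw => F.maps_fixR huz D.Rd_le D.Rd_two (fun r hr => by
      rw [hui, mul_assoc, ← (D.s_Rd r hr).eq, inv_mul_cancel_left]; exact hr) hw
  have hau' : ∀ w ∈ F.line a, F.act u w ∈ F.line a := by
    intro w hw
    have hsI : F.img u ∉ I := hui ▸ D.s_notMem
    rcases F.mem_line.1 hw with rfl | rfl | rfl | rfl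
    · rw [map_zero]; exact Submodule.zero_mem _
    · exact hau
    · rw [F.act_p_inv huz hsI]; exact F.line_invariant (F.line_invariant hau)
    · rw [F.act_p_inv huz hsI, F.act_p_inv huz hsI]
      exact F.line_invariant (F.line_invariant (F.line_invariant (F.line_invariant hau)))
  have hmove := F.outer_moves D hx hxi hxo huz hui hv0 hqv hvU
  have haT' : F.line a ≤ F.fix x := F.line_le haT (F.p_fix_invariant hx)
  have hdisj : F.line a ⊓ F.line b = ⊥ := (Submodule.eq_bot_iff _).2 fun w hw => by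
    by_contra hw0
    exact hab ((F.line_eq hw.1 hw0).symm.trans (F.line_eq hw.2 hw0))
  have hT : F.line a ⊔ F.line b = F.fix x := by
    refine Submodule.eq_of_le_of_finrank_le (sup_le haT' hbT) ?_
    have e := Submodule.finrank_sup_add_finrank_inf_eq (F.line a) (F.line b)
    rw [hdisj, finrank_bot, add_zero, F.finrank_line ha0, F.finrank_line hb0] at e
    rw [e]
    exact (F.finrank_fix_five hx h5 (F.five_ne D hx hxi hxo)).le
  obtain ⟨a', ha', b', hb', rfl⟩ := Submodule.mem_sup.1 (hT.symm ▸ hvT : v ∈ F.line a ⊔ F.line b)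
  have hkey : ∀ {w : F.V}, w ≠ 0 → F.act u w ∈ F.line w → ¬ (w = a' + b') := fun _ h e => hmove (e ▸ h)
  have ha'0 : a' ≠ 0 := by
    rintro rfl
    rw [zero_add] at hmove hv0
    exact hmove (F.line_eq hb' hv0 ▸ hbu b' hb')
  have hb'0 : b' ≠ 0 := by
    rintro rfl
    rw [add_zero] at hmove hv0
    exact hmove (F.line_eq ha' hv0 ▸ hau' a' ha')
  have hqline : ∀ {c w : F.V}, JankoFour.qf F.ctx c = 0 → w ∈ F.line c → JankoFour.qf F.ctx w = 0 := by
    intro c w hc hw
    rcases F.mem_line.1 hw with rfl | rfl | rfl | rfl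
    · exact qf_zero F.ctx
    · exact hc
    · rw [qf_act F.ctx F.p_comm, hc]
    · rw [qf_act F.ctx F.p_comm, qf_act F.ctx F.p_comm, hc]
  have hBab : JankoFour.B F.ctx a' b' = 0 := by
    have e := qf_add F.ctx a' b'
    rw [hqv, hqline hqa ha', hqline hqb hb', zero_add, zero_add] at e
    exact e.symm
  obtain ⟨i, hi⟩ : ∃ i : ℕ, F.act u a' = F.act (F.p ^ i) a' := by
    have h := hau' a' ha'
    rw [← F.line_eq ha' ha'0] at h
    rcases F.mem_line.1 h with e | e | e | e
    · exact absurd (act_injective F.ctx huz (e.trans (map_zero _).symm)) ha'0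
    · exact ⟨0, by rw [e, pow_zero, act_one]⟩
    · exact ⟨1, by rw [e, pow_one]⟩
    · exact ⟨2, by rw [e, pow_two, act_mul F.ctx F.p_comm F.p_comm]⟩
  have hpz : Commute (F.p ^ i) F.z := F.p_comm.pow_left i
  set c1 := F.act u a'
  have hc10 : c1 ≠ 0 := fun h => ha'0 (act_injective F.ctx huz (h.trans (map_zero _).symm))
  have hpb : F.act (F.p ^ i) b' ∈ F.line b := by
    rw [show F.p ^ i = F.p ^ (i % 3) by rw [← F.p_ord, pow_mod_orderOf]]
    rcases (show i % 3 = 0 ∨ i % 3 = 1 ∨ i % 3 = 2 by omega) with e0 | e0 | e0 <;> rw [e0]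
    · rw [pow_zero, act_one]; exact hb'
    · rw [pow_one]; exact F.line_invariant hb'
    · rw [pow_two, act_mul F.ctx F.p_comm F.p_comm]
      exact F.line_invariant (F.line_invariant hb')
  have h1 : JankoFour.B F.ctx c1 (F.act u b') = 0 := by
    show JankoFour.B F.ctx (F.act u a') _ = 0
    rw [B_act F.ctx huz]; exact hBab
  have h2 : JankoFour.B F.ctx c1 (F.act (F.p ^ i) b') = 0 := by
    rw [hi, B_act F.ctx hpz]; exact hBab
  have heq : F.act u b' = F.act (F.p ^ i) b' := by
    by_contra hne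
    -- otherwise the image would be orthogonal to the fixed space
    have hspan : Submodule.span (ZMod 2) ({F.act u b', F.act (F.p ^ i) b'} : Set F.V) = F.line b := by
      set w1 := F.act u b'
      set w2 := F.act (F.p ^ i) b'
      have w10 : w1 ≠ 0 := fun h => hb'0 (act_injective F.ctx huz (h.trans (map_zero _).symm))
      have w20 : w2 ≠ 0 := fun h => hb'0 (act_injective F.ctx hpz (h.trans (map_zero _).symm))
      refine Submodule.eq_of_le_of_finrank_le
        (Submodule.span_le.2 (by rintro _ (rfl | rfl); exacts [hbu b' hb', hpb])) ?_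
      rw [F.finrank_line hb0]
      have hlt : Submodule.span (ZMod 2) ({w2} : Set F.V) <
          Submodule.span (ZMod 2) ({w1, w2} : Set F.V) := by
        refine lt_of_le_of_ne (Submodule.span_mono (by simp)) fun e => ?_
        obtain ⟨t, ht⟩ := Submodule.mem_span_singleton.1
          (e.symm ▸ Submodule.subset_span (by simp) : w1 ∈ Submodule.span (ZMod 2) ({w2} : Set F.V))
        rcases bit t with rfl | rfl
        · rw [zero_smul] at ht; exact w10 ht.symm
        · rw [one_smul] at ht; exact hne ht.symm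
      have := Submodule.finrank_lt_finrank_of_lt hlt
      rw [finrank_span_singleton w20] at this
      omega
    refine hc10 (hdis c1 (haT' (hau' a' ha')) (hpf ▸ F.mem_perp.2 ?_))
    intro w hw
    rw [← hT] at hw
    obtain ⟨w1, hw1, w2, hw2, rfl⟩ := Submodule.mem_sup.1 hw
    have hA : JankoFour.B F.ctx w1 c1 = 0 := by
      have ha'l := F.line_eq (hau' a' ha') hc10
      rw [← ha'l] at hw1
      rcases F.mem_line.1 hw1 with rfl | rfl | rfl | rfl
      · simp
      · exact B_self F.ctx _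
      · rw [B_symm, F.B_v_pv]; exact hqline hqa (hau' a' ha')
      · rw [F.act_p_sq, map_add, LinearMap.add_apply, B_self, zero_add, B_symm, F.B_v_pv]
        exact hqline hqa (hau' a' ha')
    have hB : JankoFour.B F.ctx w2 c1 = 0 := by
      rw [← hspan] at hw2
      obtain ⟨s, t, rfl⟩ := Submodule.mem_span_pair.1 hw2
      rw [map_add, map_smul, map_smul, LinearMap.add_apply, LinearMap.smul_apply, LinearMap.smul_apply,
        B_symm, h1, B_symm, h2, smul_zero, smul_zero, add_zero]
    rw [map_add, LinearMap.add_apply, hA, hB, add_zero]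
  refine hmove ?_
  rw [map_add, heq, show F.act u a' = F.act (F.p ^ i) a' from hi, ← map_add,
    show F.p ^ i = F.p ^ (i % 3) by rw [← F.p_ord, pow_mod_orderOf]]
  rcases (show i % 3 = 0 ∨ i % 3 = 1 ∨ i % 3 = 2 by omega) with e0 | e0 | e0 <;> rw [e0]
  · rw [pow_zero, act_one]; exact F.self_mem_line _
  · rw [pow_one]; exact F.line_invariant (F.self_mem_line _)
  · rw [pow_two, act_mul F.ctx F.p_comm F.p_comm]
    exact F.line_invariant (F.line_invariant (F.self_mem_line _))

end Frame

end Cfsg.Lib.JankoFour
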