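import Cfsg.Agent.Lib.JankoFour.Fuse
import Cfsg.Agent.Lib.JankoFourLocal.Planes

/-!
# A conjugate of `z` over the fixed space of the duad group
-/

set_option autoImplicit false
set_option linter.style.haveILetI false
set_option linter.unusedSectionVars false

namespace Cfsg.Lib.JankoFour

open Cfsg Cfsg.Lib.Extra Module

namespace Frame

variable {G : Type*} [Group G] [Finite G] {A : Type} [Group A] {I : Subgroup A} (F : Frame G A I)

/-- The elements of `E` with class in a subspace. -/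
def pre (W : Submodule (ZMod 2) F.V) : Subgroup G where
  carrier := {e | e ∈ F.E ∧ F.cls e ∈ W}
  one_mem' := ⟨one_mem _, by rw [show F.cls 1 = 0 from cls_one F.ctx]; exact zero_mem _⟩
  mul_mem' := fun {a b} ha hb => ⟨mul_mem ha.1 hb.1, by
    rw [show F.cls (a * b) = F.cls a + F.cls b from cls_mul F.ctx ha.1 hb.1]; exact add_mem ha.2 hb.2⟩
  inv_mem' := fun {a} ha => ⟨inv_mem ha.1, by
    rw [show F.cls a⁻¹ = F.cls a from cls_inv F.ctx ha.1]; exact ha.2⟩

theorem mem_pre {W : Submodule (ZMod 2) F.V} {e : G} : e ∈ F.pre W ↔ e ∈ F.E ∧ F.cls e ∈ W := Iff.rfl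

theorem pre_le (W : Submodule (ZMod 2) F.V) : F.pre W ≤ F.E := fun _ h => h.1

theorem z_mem_pre (W : Submodule (ZMod 2) F.V) : F.z ∈ F.pre W :=
  ⟨F.ctx.mem, by rw [F.cls_z_zero]; exact zero_mem _⟩

theorem clsSub_pre (W : Submodule (ZMod 2) F.V) : F.clsSub (F.pre W) (F.pre_le W) = W := by
  ext v
  rw [mem_clsSub]
  refine ⟨?_, fun hv => ?_⟩
  · rintro ⟨a, ha, rfl⟩
    exact ha.2
  · obtain ⟨a, ha, rfl⟩ := cls_surj F.ctx v
    exact ⟨a, ⟨ha, hv⟩, rfl⟩

theorem card_pre (W : Submodule (ZMod 2) F.V) :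
    Nat.card ↥(F.pre W) = 2 * 2 ^ finrank (ZMod 2) ↥W := by
  rw [← F.card_clsSub (F.pre_le W) (F.z_mem_pre W), F.clsSub_pre, F.card_sub]

/-- With no quotient of order two a conjugate of `z` other than `z` has class fixed by the duad group. -/
theorem exists_translate_duad (D : LocalData A I) (hres : Cfsg.pResidual 2 G = ⊤) :
    ∃ k ∈ F.pre (F.fixR D.Rd), k ≠ F.z ∧ ∃ m, m * F.z * m⁻¹ = k := by
  classical
  haveI := F.facts.normal
  haveI := F.finite_A
  have hidx := F.facts_index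
  have hmem : ∀ {x : G}, x ∈ Subgroup.centralizer ({F.z} : Set G) → Commute x F.z := fun hx =>
    Subgroup.mem_centralizer_singleton_iff.1 hx
  let φ : ↥(Subgroup.centralizer ({F.z} : Set G)) →* Multiplicative (ZMod 2) :=
    MonoidHom.mk' (fun x => if F.img x ∈ I then 1 else Multiplicative.ofAdd 1) fun x y => by
      show (if F.img ((x : G) * y) ∈ I then (1 : Multiplicative (ZMod 2)) else Multiplicative.ofAdd 1) = _
      rw [F.img_mul _ _ (hmem x.2) (hmem y.2), Subgroup.mul_mem_iff_of_index_two hidx]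
      by_cases hx : F.img x ∈ I <;> by_cases hy : F.img y ∈ I <;> simp [hx, hy] <;> decide
  have hφ : Function.Surjective φ := by
    obtain ⟨x, hx, hxs⟩ := F.img_surj D.s
    intro y
    rcases (show y = 1 ∨ y = Multiplicative.ofAdd 1 by revert y; decide) with rfl | rfl
    · exact ⟨1, map_one φ⟩
    · exact ⟨⟨x, Subgroup.mem_centralizer_singleton_iff.2 hx.eq⟩, if_neg (hxs ▸ D.s_notMem)⟩
  obtain ⟨g, hg, hgne⟩ := F.ctx.exists_fused (by rw [F.card_E]; norm_num) hres
    (by rw [Nat.card_eq_fintype_card]; rfl) φ hφ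
  set F' := F.conj g
  have h : Fused F F' := ⟨hgne, hg, F.ctx.mem_symm hg⟩
  obtain ⟨-, -, h2, h32⟩ := h.symm.card_data
  set T := h.symm.theta.range
  have hT2 : ∀ r ∈ T, r * r = 1 := by
    rintro _ ⟨x, rfl⟩
    rw [← map_mul]
    show F.img ((x : G) * x) = 1
    rcases F'.ctx.sq x x.2.1 with e | e <;> rw [e]
    exacts [F.img_one, F.img_mem h.mem]
  have hTc : ∀ r ∈ T, ∀ r' ∈ T, Commute r r' := by
    intro r hr r' hr'
    have e : ∀ a : A, a * a = 1 → a⁻¹ = a := fun a ha => inv_eq_of_mul_eq_one_right ha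
    show r * r' = r' * r
    rw [← e _ (hT2 _ (mul_mem hr hr')), mul_inv_rev, e _ (hT2 r hr), e _ (hT2 r' hr')]
  set R := I ⊓ T
  have hR16 : Nat.card ↥R = 16 := by
    have hsplit : Nat.card ↥T = I.relIndex T * Nat.card ↥(I ⊓ T) := by
      rw [← Subgroup.inf_relIndex_right, ← Subgroup.relIndex_mul_relIndex ⊥ (I ⊓ T) T bot_le
        inf_le_right |>.trans (Subgroup.relIndex_bot_left _), Subgroup.relIndex_bot_left, mul_comm]
    rw [h2, h32] at hsplit
    show Nat.card ↥(I ⊓ T) = 16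
    omega
  obtain ⟨a, haT, haI⟩ : ∃ a ∈ T, a ∉ I := by
    by_contra hcon
    push Not at hcon
    rw [Subgroup.relIndex_eq_one.2 hcon] at h2
    omega
  obtain ⟨h0, h0I, hh0⟩ := D.Rd_conj R inf_le_left (fun r hr => hT2 r hr.2)
    (fun r hr r' hr' => hTc r hr.2 r' hr'.2) hR16 a haI (fun r hr => hTc a haT r hr.2)
  have hmap : R.map (MulAut.conj h0).toMonoidHom = D.Rd :=
    Subgroup.eq_of_le_of_card_ge (by rintro _ ⟨r, hr, rfl⟩; exact hh0 r hr)
      (by rw [Subgroup.card_map_of_injective (MulAut.conj h0).injective, hR16, D.Rd_card])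
  obtain ⟨l, hl, hli⟩ := F.mem_I_iff.1 h0I
  obtain ⟨hlz, -⟩ := F.mem_C.1 hl
  -- the other involution has class fixed by the group of the translate
  have hbR : F.cls F'.z ∈ F.fixR R := by
    refine F.mem_fixR.2 fun c hc => ?_
    obtain ⟨e, hei⟩ : F.img c ∈ T := hc.2.1.2
    have hez : Commute (e : G) F.z := Subgroup.mem_centralizer_singleton_iff.1 e.2.2
    have he2 : ∀ v, F.act (e : G) (F.act (e : G) v) = v := fun v => by
      rw [← act_mul F.ctx hez hez]
      rcases F'.ctx.sq e e.2.1 with e1 | e1 <;> rw [e1]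
      exacts [act_one F.ctx v, act_of_mem F.ctx h.mem v]
    rw [F.act_eq_lift hez hc.1 hei.symm he2 hc.2.2, act_cls F.ctx hez h.mem,
      (F'.comm_of_mem e.2.1).eq, mul_inv_cancel_right]
  refine ⟨l * F'.z * l⁻¹, ⟨F.conj_mem hlz h.mem, ?_⟩, ?_, ⟨l * g, ?_⟩⟩
  · rw [show F.cls (l * F'.z * l⁻¹) = F.act l (F.cls F'.z) from (act_cls F.ctx hlz h.mem).symm]
    refine F.maps_fixR hlz inf_le_left (fun r hr => hT2 r hr.2) (fun r hr => ?_) hbR
    rw [← hmap] at hr
    obtain ⟨r', hr', rfl⟩ := hr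
    rw [hli, MulEquiv.coe_toMonoidHom, MulAut.conj_apply,
      show h0⁻¹ * (h0 * r' * h0⁻¹) * h0 = r' by group]
    exact hr'
  · intro e
    refine hgne ?_
    show F'.z = F.z
    calc F'.z = l⁻¹ * (l * F'.z * l⁻¹) * l := by group
      _ = F.z := by rw [e, mul_assoc, hlz.symm.eq, inv_mul_cancel_left]
  · show l * g * F.z * (l * g)⁻¹ = l * (g * F.z * g⁻¹) * l⁻¹
    group

end Frame

end Cfsg.Lib.JankoFour
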