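import Cfsg.Agent.Lib.JankoFour.Results
import Cfsg.Agent.Lib.JankoFourLocal.Fuse
import Cfsg.Agent.Lib.JankoFourLocal.Group
import Cfsg.Agent.Lib.Concrete.SporMathieu
import Cfsg.Agent.S3344

/-!
# The centralizer of an element of order five modulo the element
-/

set_option autoImplicit false
set_option linter.style.haveILetI false
set_option linter.unusedSectionVars false

namespace Cfsg.Lib.JankoFour

open Cfsg Cfsg.Lib.Extra Module

namespace Frame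

variable {G : Type*} [Group G] [Finite G] {A : Type} [Group A] {I : Subgroup A}

/-- An element of order five of `C` over the chosen one. -/
structure FivePt (F : Frame G A I) (D : LocalData A I) where
  /-- The element. -/
  x : G
  mem : x ∈ F.C
  img_x : F.img x = D.x
  ord : orderOf x = 5
  res : Cfsg.pResidual 2 G = ⊤

namespace FivePt

variable {F : Frame G A I} {D : LocalData A I} (P : FivePt F D)

/-- The centralizer of the element. -/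
abbrev Cx : Subgroup G := Subgroup.centralizer ({P.x} : Set G)

theorem mem_Cx {g : G} : g ∈ P.Cx ↔ Commute g P.x := Subgroup.mem_centralizer_singleton_iff

theorem xz : Commute P.x F.z := (F.mem_C.1 P.mem).1

theorem xp : Commute P.x F.p := (F.mem_C.1 P.mem).2

theorem x_pow : P.x ^ 5 = 1 := F.five_pow D P.mem P.img_x P.ord

theorem x_ne : F.img P.x ≠ 1 := F.five_ne D P.mem P.img_x P.ord

/-- An element of `E` in `⟨x⟩` is trivial. -/
theorem eq_one_E {e : G} (he : e ∈ F.E) (hx : e ∈ Subgroup.zpowers P.x) : e = 1 := by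
  have h5 : e ^ 5 = 1 := by
    obtain ⟨i, rfl⟩ := mem_powers_iff_mem_zpowers.2 hx
    show (P.x ^ i) ^ 5 = 1
    rw [← pow_mul, mul_comm, pow_mul, P.x_pow, one_pow]
  exact eq_one_of_odd_two (m := 5) (by decide) h5 (F.pow_two_E he)

/-- An element squaring it. -/
theorem exists_c : ∃ c ∈ F.C, F.img c = D.f ∧ c * P.x * c⁻¹ = P.x ^ 2 := by
  obtain ⟨c, hc, hci⟩ := F.mem_I_iff.1 D.f_mem
  obtain ⟨hcz, -⟩ := F.mem_C.1 hc
  refine ⟨c, hc, hci, ?_⟩
  set k := c * P.x * c⁻¹ * (P.x ^ 2)⁻¹ with hk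
  have hkC : k ∈ F.C := mul_mem (mul_mem (mul_mem hc P.mem) (inv_mem hc)) (inv_mem (pow_mem P.mem 2))
  have hki : F.img k = 1 := by
    rw [hk, F.img_mul _ _ ((hcz.mul_left P.xz).mul_left hcz.inv_left) (P.xz.pow_left 2).inv_left,
      F.img_conj hcz P.xz, F.img_inv (P.xz.pow_left 2), F.img_pow P.xz, hci, P.img_x, D.f_x, mul_inv_cancel]
  have e : c * P.x * c⁻¹ = k * P.x ^ 2 := by rw [hk, inv_mul_cancel_right]
  have h5 : k ^ 5 = 1 := by
    have h := congrArg (· ^ 5) e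
    simp only [conj_pow, P.x_pow, mul_one, mul_inv_cancel,
      (F.ker_C_comm hkC hki (pow_mem P.mem 2)).mul_pow] at h
    rw [← pow_mul, show 2 * 5 = 5 * 2 from rfl, pow_mul, P.x_pow, one_pow, mul_one] at h
    exact h.symm
  rw [e, F.ker_eq_one (F.mem_C.1 hkC).1 hki (n := 5) (by norm_num) h5, one_mul]

theorem card_CE : Nat.card ↥(F.E ⊓ P.Cx) = 32 := by
  rw [F.card_E_cent P.mem, F.finrank_fix_five P.mem P.x_pow P.x_ne]
  norm_num

theorem card_CH : Nat.card ↥(F.H ⊓ P.Cx) = 960 := by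
  haveI : Fact (Nat.Prime 5) := ⟨by norm_num⟩
  rw [F.card_cent_H prime_five.1 prime_five.2 P.mem P.ord, P.card_CE, P.img_x, D.x_cent]

theorem card_CC : Nat.card ↥(F.C ⊓ P.Cx) = 30 := by
  rw [F.card_cent_C prime_five.1 P.mem P.x_pow, P.img_x, D.x_centI]

/-- The subgroup over the duad line lies in the centralizer. -/
theorem pre_le_Cx : F.pre (F.fixR D.Rd) ≤ P.Cx := by
  obtain ⟨v, -, -, -, hle⟩ := F.duad_line D P.mem P.img_x P.ord
  exact fun k hk => P.mem_Cx.2 (F.commute_of_fixed P.mem hk.1 (F.mem_ker_disp.1 (hle hk.2))).symm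

/-- The involution is conjugate to another involution of the centralizer in `E`. -/
theorem exists_fusing : ∃ g ∈ P.Cx, g * F.z * g⁻¹ ∈ F.E ∧ g * F.z * g⁻¹ ≠ F.z := by
  haveI : Fact (Nat.Prime 5) := ⟨by norm_num⟩
  obtain ⟨k, hk, hkz, m, hm⟩ := F.exists_translate_duad D P.res
  have hxk : Commute P.x k := (P.mem_Cx.1 (P.pre_le_Cx hk)).symm
  set x' := m⁻¹ * P.x * m with hx'
  have hx'z : Commute x' F.z := commute_conj.2 (hm ▸ hxk)
  have hx'o : orderOf x' = 5 := by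
    rw [hx', show m⁻¹ * P.x * m = MulAut.conj m⁻¹ P.x by simp, MulEquiv.orderOf_eq, P.ord]
  obtain ⟨n, hn, i, hi⟩ := F.exists_conj_zpowers prime_five.1 prime_five.2 F.H le_rfl
    (F.mem_H.2 hx'z) (F.mem_H.2 P.xz) hx'o P.ord
  have hnz : Commute n F.z := F.mem_H.1 hn
  obtain ⟨c, hc, -, hcx⟩ := P.exists_c
  obtain ⟨hcz, -⟩ := F.mem_C.1 hc
  have hcj : ∀ j : ℕ, c ^ j * P.x * (c ^ j)⁻¹ = P.x ^ (2 ^ j) := by
    intro j
    induction j with
    | zero => simp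
    | succ j ih =>
      rw [pow_succ' c, show c * c ^ j * P.x * (c * c ^ j)⁻¹ = c * (c ^ j * P.x * (c ^ j)⁻¹) * c⁻¹ by group,
        ih, ← conj_pow, hcx, ← pow_mul, ← pow_succ']
  obtain ⟨j, hj⟩ : ∃ j : ℕ, P.x ^ i = P.x ^ (2 ^ j) := by
    have hi0 : i % 5 ≠ 0 := fun h0 => by
      rw [← pow_mod_orderOf, P.ord, h0, pow_zero, conj_eq_one_iff] at hi
      rw [hi, orderOf_one] at hx'o
      omega
    rw [← pow_mod_orderOf P.x i, P.ord]
    rcases (show i % 5 = 1 ∨ i % 5 = 2 ∨ i % 5 = 3 ∨ i % 5 = 4 by omega) with e | e | e | e <;> rw [e]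
    · exact ⟨0, by simp⟩
    · exact ⟨1, by simp⟩
    · refine ⟨3, ?_⟩
      rw [← pow_mod_orderOf P.x (2 ^ 3), P.ord]
      norm_num
    · exact ⟨2, by norm_num⟩
  refine ⟨m * n⁻¹ * c ^ j, P.mem_Cx.2 ?_, ?_⟩
  · refine mul_inv_eq_iff_eq_mul.1 ?_
    calc m * n⁻¹ * c ^ j * P.x * (m * n⁻¹ * c ^ j)⁻¹ = m * n⁻¹ * (c ^ j * P.x * (c ^ j)⁻¹) * n * m⁻¹ := by group
      _ = P.x := by rw [hcj, ← hj, ← hi, hx']; group
  · have e : m * n⁻¹ * c ^ j * F.z * (m * n⁻¹ * c ^ j)⁻¹ = k := by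
      calc m * n⁻¹ * c ^ j * F.z * (m * n⁻¹ * c ^ j)⁻¹
          = m * n⁻¹ * (c ^ j * F.z) * (m * n⁻¹ * c ^ j)⁻¹ := by group
        _ = m * (n⁻¹ * F.z) * n * m⁻¹ := by rw [(hcz.pow_left j).eq]; group
        _ = k := by rw [hnz.inv_left.eq, ← hm]; group
    rw [e]
    exact ⟨hk.1, hkz⟩

/-- The subgroup generated by the element. -/
def Z : Subgroup ↥P.Cx := (Subgroup.zpowers P.x).subgroupOf P.Cx

instance Z_normal : P.Z.Normal :=
  ⟨fun n hn g => by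
    rw [Z, Subgroup.mem_subgroupOf] at hn ⊢
    obtain ⟨k, hk⟩ := Subgroup.mem_zpowers_iff.1 hn
    refine Subgroup.mem_zpowers_iff.2 ⟨k, ?_⟩
    show P.x ^ k = (g : G) * n * (g : G)⁻¹
    rw [← hk, ((P.mem_Cx.1 g.2).zpow_right k).eq, mul_inv_cancel_right]⟩

theorem mem_Z {a : ↥P.Cx} : a ∈ P.Z ↔ (a : G) ∈ Subgroup.zpowers P.x := Subgroup.mem_subgroupOf

theorem card_Z : Nat.card ↥P.Z = 5 := by
  rw [Z, Nat.card_congr (Subgroup.subgroupOfEquivOfLe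
    (Subgroup.zpowers_le.2 (P.mem_Cx.2 (Commute.refl _)))).toEquiv, Nat.card_zpowers, P.ord]

/-- The quotient. -/
abbrev Gb := ↥P.Cx ⧸ P.Z

/-- The projection. -/
abbrev pr : ↥P.Cx →* P.Gb := QuotientGroup.mk' P.Z

theorem pr_surj : Function.Surjective P.pr := QuotientGroup.mk'_surjective _

theorem pr_eq_iff {a b : ↥P.Cx} : P.pr a = P.pr b ↔ (a : G)⁻¹ * b ∈ Subgroup.zpowers P.x := by
  rw [show P.pr a = P.pr b ↔ a⁻¹ * b ∈ P.Z from QuotientGroup.eq, mem_Z]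
  rfl

theorem pr_eq_one {a : ↥P.Cx} : P.pr a = 1 ↔ (a : G) ∈ Subgroup.zpowers P.x :=
  (QuotientGroup.eq_one_iff a).trans P.mem_Z

/-- The projection is injective on `E`. -/
theorem pr_inj {a b : ↥P.Cx} (ha : (a : G) ∈ F.E) (hb : (b : G) ∈ F.E) (h : P.pr a = P.pr b) :
    (a : G) = b :=
  inv_mul_eq_one.1 (P.eq_one_E (mul_mem (inv_mem ha) hb) (P.pr_eq_iff.1 h))

/-- The image of the involution. -/
abbrev zb : P.Gb := P.pr ⟨F.z, P.mem_Cx.2 P.xz.symm⟩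

/-- The image of `C(z)`. -/
abbrev Lb : Subgroup P.Gb := (F.H.subgroupOf P.Cx).map P.pr

/-- The image of `E`. -/
abbrev Qb : Subgroup P.Gb := (F.E.subgroupOf P.Cx).map P.pr

theorem zb_ne : P.zb ≠ 1 := fun h => F.ctx.ne_one (P.eq_one_E F.ctx.mem (P.pr_eq_one.1 h))

theorem orderOf_zb : orderOf P.zb = 2 := orderOf_eq_prime (by
  rw [pow_two, ← map_mul, ← P.pr.map_one]
  exact congrArg _ (Subtype.ext F.ctx.sq_z)) P.zb_ne

theorem zb_mem : P.zb ∈ P.Qb := ⟨_, F.ctx.mem, rfl⟩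

theorem centralizer_zb : Subgroup.centralizer ({P.zb} : Set P.Gb) = P.Lb := by
  refine le_antisymm (fun w hw => ?_) ?_
  · obtain ⟨g, rfl⟩ := P.pr_surj w
    refine ⟨g, ?_, rfl⟩
    have hw' := Subgroup.mem_centralizer_singleton_iff.1 hw
    rw [← map_mul, ← map_mul, P.pr_eq_iff] at hw'
    have hgz : Commute (g : G) P.x := P.mem_Cx.1 g.2
    obtain ⟨i, hi⟩ := Subgroup.mem_zpowers_iff.1 hw'
    have e : (F.z * g : G) = g * F.z * P.x ^ i := by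
      rw [hi]
      show F.z * (g : G) = g * F.z * (((g : G) * F.z)⁻¹ * (F.z * g))
      group
    have hzx : Commute F.z (P.x ^ i) := P.xz.symm.zpow_right i
    have e' : (g : G) = g * P.x ^ (i + i) := by
      have e3 := congrArg (fun t => F.z * t) e
      simp only [← mul_assoc, F.ctx.sq_z, one_mul] at e3
      calc (g : G) = F.z * g * F.z * P.x ^ i := e3
        _ = g * F.z * P.x ^ i * F.z * P.x ^ i := by rw [← e]
        _ = g * (F.z * P.x ^ i) * F.z * P.x ^ i := by rw [mul_assoc (g : G)]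
        _ = g * (P.x ^ i * F.z) * F.z * P.x ^ i := by rw [hzx.eq]
        _ = g * P.x ^ i * (F.z * F.z) * P.x ^ i := by group
        _ = _ := by rw [F.ctx.sq_z, mul_one, mul_assoc, ← zpow_add]
    have hd : (5 : ℤ) ∣ i + i := by
      have h := orderOf_dvd_iff_zpow_eq_one.2 (left_eq_mul.1 e')
      rwa [P.ord] at h
    have hx1 : P.x ^ i = 1 := orderOf_dvd_iff_zpow_eq_one.1 (by rw [P.ord]; omega)
    rw [hx1, mul_one] at e
    exact F.mem_H.2 e.symm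
  · rintro _ ⟨g, hg, rfl⟩
    refine Subgroup.mem_centralizer_singleton_iff.2 ?_
    rw [← map_mul, ← map_mul]
    exact congrArg _ (Subtype.ext (F.mem_H.1 hg).eq)

theorem Qb_le : P.Qb ≤ P.Lb :=
  Subgroup.map_mono fun g hg => F.mem_H.2 (F.comm_of_mem (e := (g : G)) hg)

theorem card_Qb : Nat.card ↥P.Qb = 32 := by
  have e : Nat.card ↥(F.E.subgroupOf P.Cx) = 32 := by
    rw [← Subgroup.inf_subgroupOf_right, Nat.card_congr (Subgroup.subgroupOfEquivOfLe inf_le_right).toEquiv,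
      P.card_CE]
  rw [← e]
  refine (Nat.card_congr (Equiv.ofBijective (fun a : ↥(F.E.subgroupOf P.Cx) =>
    (⟨P.pr a, a, a.2, rfl⟩ : ↥P.Qb)) ⟨fun a b h => Subtype.ext (Subtype.ext ?_), ?_⟩)).symm
  · exact P.pr_inj a.2 b.2 (congrArg Subtype.val h)
  · rintro ⟨_, a, ha, rfl⟩
    exact ⟨⟨a, ha⟩, rfl⟩

theorem card_Lb : Nat.card ↥P.Lb = 192 := by
  set K := F.H.subgroupOf P.Cx
  have hK : Nat.card ↥K = 960 := by
    rw [show K = (F.H ⊓ P.Cx).subgroupOf P.Cx from (Subgroup.inf_subgroupOf_right _ _).symm,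
      Nat.card_congr (Subgroup.subgroupOfEquivOfLe inf_le_right).toEquiv, P.card_CH]
  have hZK : P.Z ≤ K := fun a ha => by
    rw [Subgroup.mem_subgroupOf, F.mem_H]
    obtain ⟨i, hi⟩ := Subgroup.mem_zpowers_iff.1 (P.mem_Z.1 ha)
    rw [← hi]
    exact P.xz.zpow_left i
  let θ : ↥K →* P.Gb := P.pr.comp K.subtype
  have hr : θ.range = P.Lb := by
    rw [MonoidHom.range_comp, Subgroup.range_subtype]
  have hk : Nat.card ↥θ.ker = 5 := by
    rw [show θ.ker = P.Z.subgroupOf K by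
      rw [← MonoidHom.comap_ker, QuotientGroup.ker_mk']; rfl,
      Nat.card_congr (Subgroup.subgroupOfEquivOfLe hZK).toEquiv, P.card_Z]
  have h := θ.ker.index_mul_card
  rw [Subgroup.index_ker, hr, hk, hK] at h
  omega

theorem conj_mem_Qb {l q : P.Gb} (hl : l ∈ P.Lb) (hq : q ∈ P.Qb) : l * q * l⁻¹ ∈ P.Qb := by
  obtain ⟨a, ha, rfl⟩ := hl
  obtain ⟨e, he, rfl⟩ := hq
  exact ⟨a * e * a⁻¹, F.conj_mem (F.mem_H.1 ha) he, by simp only [map_mul, map_inv]⟩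

/-- The outer involution and the scalar do not commute modulo `E⟨x⟩`. -/
theorem not_commute_up {u : G} (huz : Commute u F.z) (hux : Commute u P.x) (hui : F.img u = D.s) {e : G}
    (he : e ∈ F.E) {i : ℕ} : u * F.p ≠ F.p * u * (e * P.x ^ i) := by
  haveI : FiniteDimensional (ZMod 2) F.V := Module.Finite.of_finite
  intro h
  obtain ⟨v, hv, hv0⟩ := (Submodule.ne_bot_iff _).1 (show F.fix P.x ≠ ⊥ from fun h0 => by
    have h4 := F.finrank_fix_five P.mem P.x_pow P.x_ne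
    rw [h0, finrank_bot] at h4
    omega)
  have hxi : Commute (P.x ^ i) F.z := P.xz.pow_left i
  have h1 : F.act (u * F.p) v = F.act (F.p * u) v := by
    rw [h, act_mul F.ctx (F.p_comm.mul_left huz) ((F.comm_of_mem he).mul_left hxi),
      act_mul F.ctx (F.comm_of_mem he) hxi, F.act_pow_fix P.xz (F.mem_ker_disp.1 hv) i, act_of_mem F.ctx he]
  rw [act_mul F.ctx huz F.p_comm, act_mul F.ctx F.p_comm huz, F.act_p_inv huz (hui.symm ▸ D.s_notMem)] at h1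
  exact hv0 (act_injective F.ctx huz
    ((F.act_p_eq (act_injective F.ctx F.p_comm h1)).trans (map_zero _).symm))

theorem quotient_data : ∃ hn : (P.Qb.subgroupOf P.Lb).Normal,
    Nonempty (↥P.Lb ⧸ P.Qb.subgroupOf P.Lb ≃* Equiv.Perm (Fin 3)) ∧
    Cfsg.pCore 2 ↥P.Lb = P.Qb.subgroupOf P.Lb := by
  haveI : Fact (Nat.Prime 5) := ⟨by norm_num⟩
  set Ql := P.Qb.subgroupOf P.Lb
  have hn : Ql.Normal := ⟨fun n hn g => P.conj_mem_Qb g.2 hn⟩
  refine ⟨hn, ?_⟩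
  have h6 : Nat.card (↥P.Lb ⧸ Ql) = 6 := by
    have h := Subgroup.card_eq_card_quotient_mul_card_subgroup Ql
    rw [P.card_Lb, Nat.card_congr (Subgroup.subgroupOfEquivOfLe P.Qb_le).toEquiv, P.card_Qb] at h
    omega
  obtain ⟨u, huz, hux, hui⟩ := F.exists_outer D P.mem P.img_x P.ord
  let ul : ↥P.Lb := ⟨P.pr ⟨u, P.mem_Cx.2 hux⟩, ⟨u, P.mem_Cx.2 hux⟩, F.mem_H.2 huz, rfl⟩
  let pl : ↥P.Lb := ⟨P.pr ⟨F.p, P.mem_Cx.2 P.xp.symm⟩, ⟨F.p, P.mem_Cx.2 P.xp.symm⟩, F.mem_H.2 F.p_comm, rfl⟩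
  have hnc : ¬ Commute (QuotientGroup.mk' Ql ul) (QuotientGroup.mk' Ql pl) := by
    intro h
    have h' : (pl * ul)⁻¹ * (ul * pl) ∈ Ql := QuotientGroup.eq.1 h.eq.symm
    obtain ⟨⟨e, heC⟩, he, hee⟩ := h'
    have h2 : P.pr ⟨e, heC⟩ = P.pr
        ((⟨F.p, P.mem_Cx.2 P.xp.symm⟩ * ⟨u, P.mem_Cx.2 hux⟩)⁻¹ *
          (⟨u, P.mem_Cx.2 hux⟩ * ⟨F.p, P.mem_Cx.2 P.xp.symm⟩)) := by
      simp only [map_mul, map_inv]; exact hee
    obtain ⟨i, hi⟩ := mem_powers_iff_mem_zpowers.2 (P.pr_eq_iff.1 h2)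
    refine P.not_commute_up huz hux hui (e := e) he (i := i) ?_
    rw [show P.x ^ i = e⁻¹ * ((F.p * u)⁻¹ * (u * F.p)) from hi]
    group
  obtain ⟨⟨f⟩, hbot⟩ := six_facts h6 hnc
  refine ⟨⟨f⟩, le_antisymm ?_ ?_⟩
  · haveI : (Cfsg.pCore 2 ↥P.Lb).Normal := inferInstance
    have hb := hbot _ (Subgroup.Normal.map inferInstance _ (QuotientGroup.mk'_surjective Ql))
      ((Core.pCore_isPGroup 2 ↥P.Lb).map (QuotientGroup.mk' Ql))
    rwa [Subgroup.map_eq_bot_iff, QuotientGroup.ker_mk'] at hb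
  · haveI := hn
    exact Core.le_pCore ((IsPGroup.of_card (n := 5) (by rw [P.card_Qb]; norm_num) : IsPGroup 2 ↥P.Qb).of_equiv
      (Subgroup.subgroupOfEquivOfLe P.Qb_le).symm)

theorem Qb_comm {a b : ↥P.Cx} (ha : (a : G) ∈ F.E) (hb : (b : G) ∈ F.E) :
    P.pr a * P.pr b * (P.pr a)⁻¹ * (P.pr b)⁻¹ = 1 ∨ P.pr a * P.pr b * (P.pr a)⁻¹ * (P.pr b)⁻¹ = P.zb := by
  rw [← map_inv, ← map_inv, ← map_mul, ← map_mul, ← map_mul, ← P.pr.map_one]
  exact (F.ctx.comm a ha b hb).imp (fun e => congrArg _ (Subtype.ext e)) fun e => congrArg _ (Subtype.ext e)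

theorem extraspecial : Cfsg.IsExtraspecial 2 ↥P.Qb := by
  haveI : FiniteDimensional (ZMod 2) F.V := Module.Finite.of_finite
  obtain ⟨hdis, hpf, -, -⟩ := F.odd_split P.xz (n := 5) (by decide) P.x_pow
  have hlift : ∀ {v : F.V}, v ∈ F.fix P.x → ∃ a : ↥P.Cx, (a : G) ∈ F.E ∧ F.cls a = v := by
    intro v hv
    obtain ⟨a, ha, rfl⟩ := cls_surj F.ctx v
    exact ⟨⟨a, P.mem_Cx.2 (F.commute_of_fixed P.mem ha (F.mem_ker_disp.1 hv)).symm⟩, ha, rfl⟩
  have hfix : ∀ a : ↥P.Cx, (a : G) ∈ F.E → F.cls a ∈ F.fix P.x := fun a ha => F.mem_ker_disp.2 (by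
    rw [act_cls F.ctx P.xz ha, (P.mem_Cx.1 a.2).symm.eq, mul_inv_cancel_right])
  -- a vector of the fixed space orthogonal to it is zero
  have hnd : ∀ v ∈ F.fix P.x, (∀ w ∈ F.fix P.x, JankoFour.B F.ctx w v = 0) → v = 0 := fun v hv h =>
    hdis v hv (hpf ▸ F.mem_perp.2 h)
  refine isExtraspecial_two (n := 5) (by rw [P.card_Qb]; norm_num) (z := ⟨P.zb, P.zb_mem⟩) ?_ ?_ ?_ ?_ ?_ ?_
  · rw [← Subgroup.orderOf_coe]
    exact P.orderOf_zb
  · rintro ⟨_, a, ha, rfl⟩ ⟨_, b, hb, rfl⟩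
    exact (P.Qb_comm ha hb).imp Subtype.ext Subtype.ext
  · rintro ⟨_, a, ha, rfl⟩
    refine (F.ctx.sq a ha).imp (fun e => Subtype.ext ?_) fun e => Subtype.ext ?_
    · show P.pr a * P.pr a = 1
      rw [← map_mul, ← P.pr.map_one]; exact congrArg _ (Subtype.ext e)
    · show P.pr a * P.pr a = P.zb
      rw [← map_mul]; exact congrArg _ (Subtype.ext e)
  · rintro ⟨_, a, ha, rfl⟩ h
    have ha0 : F.cls a = 0 := by
      refine hnd _ (hfix a ha) fun w hw => ?_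
      obtain ⟨b, hb, rfl⟩ := hlift hw
      refine (B_cls F.ctx hb ha).2 ?_
      have e : P.pr a * P.pr b = P.pr b * P.pr a := congrArg Subtype.val (h ⟨_, b, hb, rfl⟩).eq
      rw [← map_mul, ← map_mul] at e
      exact (P.pr_inj (F.E.mul_mem ha hb) (F.E.mul_mem hb ha) e).symm
    exact ((cls_eq_zero F.ctx ha).1 ha0).imp
      (fun e => Subtype.ext ((congrArg P.pr (Subtype.ext e : a = 1)).trans P.pr.map_one))
      fun e => Subtype.ext (congrArg P.pr (Subtype.ext e : a = ⟨F.z, P.mem_Cx.2 P.xz.symm⟩))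
  · rintro ⟨_, b, hb, rfl⟩
    refine Subtype.ext ?_
    show P.zb * P.pr b = P.pr b * P.zb
    rw [← map_mul, ← map_mul]
    exact congrArg _ (Subtype.ext (F.ctx.central b hb).eq)
  · obtain ⟨v, hv, hv0⟩ := (Submodule.ne_bot_iff _).1 (show F.fix P.x ≠ ⊥ from fun h0 => by
      have h4 := F.finrank_fix_five P.mem P.x_pow P.x_ne
      rw [h0, finrank_bot] at h4
      omega)
    obtain ⟨w, hw, hwv⟩ : ∃ w ∈ F.fix P.x, JankoFour.B F.ctx w v = 1 := by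
      by_contra hcon
      push Not at hcon
      exact hv0 (hnd v hv fun w hw => (bit _).resolve_right (hcon w hw))
    obtain ⟨a, ha, rfl⟩ := hlift hw
    obtain ⟨b, hb, rfl⟩ := hlift hv
    refine ⟨⟨_, a, ha, rfl⟩, ⟨_, b, hb, rfl⟩, Subtype.ext ?_⟩
    show P.pr a * P.pr b * (P.pr a)⁻¹ * (P.pr b)⁻¹ = P.zb
    rw [← map_inv, ← map_inv, ← map_mul, ← map_mul, ← map_mul]
    refine congrArg _ (Subtype.ext ?_)
    show (a : G) * b * (a : G)⁻¹ * (b : G)⁻¹ = F.z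
    rw [(Bf_cls_one F.ctx ha hb).1 hwv, mul_inv_cancel_right]

/-- Elements of `Q` centralized by the scalar. -/
theorem Qb_cent_p {q : P.Gb} (hq : q ∈ P.Qb) (h : Commute q (P.pr ⟨F.p, P.mem_Cx.2 P.xp.symm⟩)) :
    q ∈ Subgroup.zpowers P.zb := by
  obtain ⟨a, ha, rfl⟩ := hq
  have e : P.pr (a * ⟨F.p, P.mem_Cx.2 P.xp.symm⟩ * a⁻¹ * ⟨F.p, P.mem_Cx.2 P.xp.symm⟩⁻¹) = 1 := by
    rw [map_mul, map_mul, map_mul, map_inv, map_inv, h.eq, mul_inv_cancel_right, mul_inv_cancel]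
  have hE : (a : G) * F.p * (a : G)⁻¹ * F.p⁻¹ ∈ F.E := by
    rw [show (a : G) * F.p * (a : G)⁻¹ * F.p⁻¹ = a * (F.p * (a : G)⁻¹ * F.p⁻¹) by group]
    exact F.E.mul_mem ha (F.conj_mem F.p_comm (F.E.inv_mem ha))
  have h1 := P.eq_one_E hE (P.pr_eq_one.1 e)
  rcases F.fixed _ ha (mul_inv_eq_iff_eq_mul.1 (mul_inv_eq_one.1 h1)) with e1 | e1
  · rw [show a = 1 from Subtype.ext e1, map_one]
    exact one_mem _
  · rw [show a = ⟨F.z, P.mem_Cx.2 P.xz.symm⟩ from Subtype.ext e1]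
    exact Subgroup.mem_zpowers _

/-- No element of order nine in the order of the centralizer. -/
theorem not_nine_dvd : ¬ 9 ∣ Nat.card ↥P.Cx := by
  haveI : Fact (Nat.Prime 3) := ⟨Nat.prime_three⟩
  intro h
  set pc : ↥P.Cx := ⟨F.p, P.mem_Cx.2 P.xp.symm⟩
  have h9 := sq_dvd_card_centralizer (K := ↥P.Cx) (q := 3) (by norm_num; exact h) (a := pc)
    (by rw [← Subgroup.orderOf_coe]; exact F.p_ord)
  set K := Subgroup.centralizer ({pc} : Set ↥P.Cx)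
  have hle : K.map P.Cx.subtype ≤ F.C ⊓ P.Cx := by
    rintro _ ⟨g, hg, rfl⟩
    have hgp : Commute (g : G) F.p := congrArg Subtype.val (Subgroup.mem_centralizer_singleton_iff.1 hg)
    exact ⟨F.mem_C.2 ⟨F.commute_z_of_commute_p P.res hgp, hgp⟩, g.2⟩
  have hd := Subgroup.card_dvd_of_le hle
  rw [Subgroup.card_map_of_injective P.Cx.subtype_injective, P.card_CC] at hd
  exact absurd (h9.trans hd) (by norm_num)

/-- The quotient of the centralizer has an elementary abelian normal subgroup of order eight with quotient `L₃(2)`. -/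
theorem exists_eight : Nat.card P.Gb = 1344 ∧ Nat.card ↥P.Cx = 6720 ∧
    ∃ (N : Subgroup P.Gb) (_ : N.Normal), IsMulCommutative ↥N ∧ (∀ n ∈ N, n ^ 2 = 1) ∧ Nat.card ↥N = 8 ∧
      Nonempty (P.Gb ⧸ N ≃* Matrix.ProjectiveSpecialLinearGroup (Fin 3) (ZMod 2)) := by
  haveI : Fact (Nat.Prime 3) := ⟨Nat.prime_three⟩
  obtain ⟨hn, ⟨f⟩, hcore⟩ := P.quotient_data
  have hCx : Nat.card ↥P.Cx = Nat.card P.Gb * 5 := by
    rw [Subgroup.card_eq_card_quotient_mul_card_subgroup P.Z, P.card_Z]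
  have h9 : ¬ 9 ∣ Nat.card P.Gb := fun h => P.not_nine_dvd (hCx ▸ h.mul_right 5)
  set pl : ↥P.Lb := ⟨P.pr ⟨F.p, P.mem_Cx.2 P.xp.symm⟩, ⟨F.p, P.mem_Cx.2 P.xp.symm⟩, F.mem_H.2 F.p_comm, rfl⟩
  have hp3 : pl ^ 3 = 1 := Subtype.ext (by
    show (P.pr ⟨F.p, P.mem_Cx.2 P.xp.symm⟩) ^ 3 = 1
    rw [← map_pow, ← P.pr.map_one]
    exact congrArg _ (Subtype.ext F.p_cube))
  have hZ3 : IsPGroup 3 ↥(Subgroup.zpowers pl) := fun a => by
    obtain ⟨i, hi⟩ := Subgroup.mem_zpowers_iff.1 a.2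
    refine ⟨1, Subtype.ext ?_⟩
    show (a : ↥P.Lb) ^ 3 ^ 1 = 1
    rw [pow_one, ← hi, ← zpow_natCast, ← zpow_mul, mul_comm, zpow_mul, zpow_natCast, hp3, one_zpow]
  obtain ⟨X, hX⟩ := hZ3.exists_le_sylow
  have hCQX : P.Qb ⊓ Subgroup.centralizer (((X : Subgroup ↥P.Lb).map P.Lb.subtype : Subgroup P.Gb) : Set P.Gb)
      = Subgroup.zpowers P.zb := by
    refine le_antisymm (fun q hq => P.Qb_cent_p hq.1 ?_) (Subgroup.zpowers_le.2 ⟨P.zb_mem, ?_⟩)
    · exact (Subgroup.mem_centralizer_iff.1 hq.2 _ ⟨pl, hX (Subgroup.mem_zpowers _), rfl⟩).symm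
    · refine Subgroup.mem_centralizer_iff.2 ?_
      rintro _ ⟨w, -, rfl⟩
      have hw := P.centralizer_zb.ge w.2
      exact Subgroup.mem_centralizer_singleton_iff.1 hw
  have hQ : P.Qb = (Cfsg.pCore 2 ↥P.Lb).map P.Lb.subtype := by
    rw [hcore, Subgroup.subgroupOf_map_subtype, inf_eq_left.2 P.Qb_le]
  have hnwc : ∃ g : P.Gb, g * P.zb * g⁻¹ ∈ P.Qb ∧ g * P.zb * g⁻¹ ≠ P.zb := by
    obtain ⟨g, hg, hgE, hgne⟩ := P.exists_fusing
    refine ⟨P.pr ⟨g, hg⟩, ?_, ?_⟩ <;> rw [← map_inv, ← map_mul, ← map_mul]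
    · exact ⟨_, hgE, rfl⟩
    · intro h
      exact hgne (P.pr_inj (a := ⟨g, hg⟩ * ⟨F.z, _⟩ * ⟨g, hg⟩⁻¹) hgE F.ctx.mem h)
  rcases Agent.S3344.result P.zb P.orderOf_zb P.Lb P.centralizer_zb.symm P.Qb hQ P.extraspecial P.card_Qb
    ((QuotientGroup.quotientMulEquivOfEq hcore).trans f) X hCQX hnwc with
    ⟨N, hN, h1, h2, h8, ⟨e⟩⟩ | ⟨⟨e⟩⟩ | ⟨⟨e⟩⟩ | h
  · have hc : Nat.card P.Gb = 1344 := by
      rw [Subgroup.card_eq_card_quotient_mul_card_subgroup N, h8, Nat.card_congr e.toEquiv, card_psl_three]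
    exact ⟨hc, by rw [hCx, hc], N, hN, h1, h2, h8, ⟨e⟩⟩
  all_goals exfalso
  · exact h9 (by rw [Nat.card_congr e.toEquiv, nat_card_alternatingGroup, Nat.card_fin]; decide)
  · exact h9 (by rw [Nat.card_congr e.toEquiv, nat_card_alternatingGroup, Nat.card_fin]; decide)
  · obtain ⟨e⟩ := h
    exact h9 (by rw [Nat.card_congr e.toEquiv, Concrete.card_sporM12]; norm_num)

end FivePt

end Frame

end Cfsg.Lib.JankoFour
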