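import Cfsg.Agent.Lib.JankoFourLocal.Five
import Mathlib.GroupTheory.Complement

/-!
# The normal eight-group of the centralizer of an element of order five
-/

set_option autoImplicit false
set_option linter.style.haveILetI false
set_option linter.unusedSectionVars false

namespace Cfsg.Lib.JankoFour

open Cfsg Cfsg.Lib.Extra Module

namespace Frame

variable {G : Type*} [Group G] [Finite G] {A : Type} [Group A] {I : Subgroup A}

namespace FivePt

variable {F : Frame G A I} {D : LocalData A I} (P : FivePt F D)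

/-- A singular plane of `fix x` invariant under the scalar and the outer involution is the duad line. -/
theorem plane_eq {W : Submodule (ZMod 2) F.V} (hW : W ≤ F.fix P.x) (hd : finrank (ZMod 2) ↥W ≤ 2)
    (hne : W ≠ ⊥) (hq : ∀ w ∈ W, JankoFour.qf F.ctx w = 0)
    (hinv : ∀ y : G, Commute y F.z → Commute y P.x → ∀ w ∈ W, F.act y w ∈ W) : W = F.fixR D.Rd := by
  obtain ⟨u, huz, hux, hui⟩ := F.exists_outer D P.mem P.img_x P.ord
  obtain ⟨v, hv, hv0⟩ := (Submodule.ne_bot_iff _).1 hne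
  have e := F.eq_line (hinv F.p F.p_comm P.xp.symm) hd hv hv0
  rw [← e]
  exact F.line_unique D P.mem P.img_x P.ord huz hux hui hv0 (hq v hv) (hW hv)
    (by rw [e]; exact hinv u huz hux v hv)

/-- The elements of `E` over a subgroup of the quotient. -/
def above (S : Subgroup P.Gb) : Subgroup G := (S.comap P.pr).map P.Cx.subtype ⊓ F.E

theorem mem_above {S : Subgroup P.Gb} {e : G} :
    e ∈ P.above S ↔ ∃ h : e ∈ P.Cx, e ∈ F.E ∧ P.pr ⟨e, h⟩ ∈ S := by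
  constructor
  · rintro ⟨⟨a, ha, rfl⟩, he⟩
    exact ⟨a.2, he, ha⟩
  · rintro ⟨h, he, hS⟩
    exact ⟨⟨⟨e, h⟩, hS, rfl⟩, he⟩

theorem card_above (S : Subgroup P.Gb) : Nat.card ↥(P.above S) = Nat.card ↥(S ⊓ P.Qb) := by
  refine Nat.card_congr (Equiv.ofBijective (fun e : ↥(P.above S) =>
    (⟨P.pr ⟨e, (P.mem_above.1 e.2).choose⟩, (P.mem_above.1 e.2).choose_spec.2,
      ⟨⟨e, (P.mem_above.1 e.2).choose⟩, (P.mem_above.1 e.2).choose_spec.1, rfl⟩⟩ : ↥(S ⊓ P.Qb))) ⟨?_, ?_⟩)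
  · intro a b h
    exact Subtype.ext (P.pr_inj (P.mem_above.1 a.2).choose_spec.1 (P.mem_above.1 b.2).choose_spec.1
      (congrArg Subtype.val h))
  · rintro ⟨_, hS, a, ha, rfl⟩
    exact ⟨⟨a, P.mem_above.2 ⟨a.2, ha, hS⟩⟩, rfl⟩

theorem above_le (S : Subgroup P.Gb) : P.above S ≤ F.E := inf_le_right

theorem above_fix {S : Subgroup P.Gb} : ∀ e ∈ P.above S, F.cls e ∈ F.fix P.x := fun e he => by
  obtain ⟨h, hE, -⟩ := P.mem_above.1 he
  exact F.mem_ker_disp.2 (by rw [act_cls F.ctx P.xz hE, (P.mem_Cx.1 h).symm.eq, mul_inv_cancel_right])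

variable {N : Subgroup P.Gb} [hN : N.Normal] (hcomm : IsMulCommutative ↥N) (h2 : ∀ n ∈ N, n ^ 2 = 1)
  (h8 : Nat.card ↥N = 8)
include hcomm h2 h8

theorem eight_le : N ≤ P.Qb ∧ P.zb ∈ N := by
  haveI : Fact (Nat.Prime 2) := ⟨Nat.prime_two⟩
  obtain ⟨-, -, hcore⟩ := P.quotient_data
  haveI := hcomm
  have hc : ∀ {a b}, a ∈ N → b ∈ N → Commute a b := fun {a b} ha hb =>
    congrArg Subtype.val (mul_comm' (⟨a, ha⟩ : ↥N) ⟨b, hb⟩)
  have hz2 : P.zb * P.zb = 1 := by rw [← pow_two, ← P.orderOf_zb, pow_orderOf_eq_one]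
  have hzi : P.zb⁻¹ = P.zb := inv_eq_of_mul_eq_one_right hz2
  have hNz : (N ⊓ P.Lb).subgroupOf P.Lb ≤ Cfsg.pCore 2 ↥P.Lb := by
    haveI : ((N ⊓ P.Lb).subgroupOf P.Lb).Normal := ⟨fun n hn g => ⟨hN.conj_mem _ hn.1 g, (g * n * g⁻¹).2⟩⟩
    refine Core.le_pCore ((IsPGroup.to_le (IsPGroup.of_card (n := 3) (by rw [h8]; norm_num) : IsPGroup 2 ↥N)
      inf_le_left).of_equiv (Subgroup.subgroupOfEquivOfLe inf_le_right).symm)
  have hle : N ⊓ P.Lb ≤ P.Qb := by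
    intro a ha
    have h := hNz (show (⟨a, ha.2⟩ : ↥P.Lb) ∈ (N ⊓ P.Lb).subgroupOf P.Lb from ha)
    rwa [hcore] at h
  obtain ⟨t, ht, ht1⟩ : ∃ t ∈ N ⊓ P.Lb, t ≠ 1 := by
    obtain ⟨⟨n, hn⟩, hn1⟩ : ∃ n : ↥N, n ≠ 1 := by
      haveI : Nontrivial ↥N := Finite.one_lt_card_iff_nontrivial.1 (by omega)
      exact exists_ne 1
    have hn0 : n ≠ 1 := fun h => hn1 (Subtype.ext h)
    have hm : P.zb * n * P.zb⁻¹ ∈ N := hN.conj_mem n hn P.zb
    rw [← P.centralizer_zb]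
    by_cases hcn : Commute n P.zb
    · exact ⟨n, ⟨hn, Subgroup.mem_centralizer_singleton_iff.2 hcn⟩, hn0⟩
    · refine ⟨n * (P.zb * n * P.zb⁻¹), ⟨N.mul_mem hn hm, Subgroup.mem_centralizer_singleton_iff.2 ?_⟩,
        fun h => hcn ?_⟩
      · show n * (P.zb * n * P.zb⁻¹) * P.zb = P.zb * (n * (P.zb * n * P.zb⁻¹))
        symm
        calc P.zb * (n * (P.zb * n * P.zb⁻¹)) = P.zb * n * P.zb⁻¹ * (P.zb * P.zb) * n * P.zb⁻¹ := by group
          _ = P.zb * n * P.zb⁻¹ * n * P.zb := by rw [hz2, mul_one, hzi]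
          _ = _ := by rw [(hc hm hn).eq]
      · have e : P.zb * n * P.zb⁻¹ = n := by
          rw [← inv_eq_of_mul_eq_one_right h]
          exact inv_eq_of_mul_eq_one_right (by rw [← pow_two]; exact h2 n hn)
        exact (mul_inv_eq_iff_eq_mul.1 e).symm
  have htQ := hle ht
  have hzN : P.zb ∈ N := by
    by_cases hcen : ∀ b ∈ P.Qb, Commute t b
    · have hcent := P.extraspecial.2
      have hzc : (⟨P.zb, P.zb_mem⟩ : ↥P.Qb) ∈ Subgroup.center ↥P.Qb :=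
        Subgroup.mem_center_iff.2 fun b => Subtype.ext (by
          have hb := P.centralizer_zb.ge (P.Qb_le b.2)
          exact Subgroup.mem_centralizer_singleton_iff.1 hb)
      have e : Subgroup.zpowers (⟨P.zb, P.zb_mem⟩ : ↥P.Qb) = Subgroup.center ↥P.Qb :=
        Subgroup.eq_of_le_of_card_ge (Subgroup.zpowers_le.2 hzc)
          (by rw [hcent, Nat.card_zpowers, ← Subgroup.orderOf_coe, P.orderOf_zb])
      have htc : (⟨t, htQ⟩ : ↥P.Qb) ∈ Subgroup.center ↥P.Qb :=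
        Subgroup.mem_center_iff.2 fun b => Subtype.ext (hcen b b.2).symm.eq
      rw [← e] at htc
      obtain ⟨i, hi⟩ := Subgroup.mem_zpowers_iff.1 htc
      have hi' : P.zb ^ i = t := congrArg Subtype.val hi
      have e' : Subgroup.zpowers t = Subgroup.zpowers P.zb := Subgroup.eq_of_le_of_card_ge
        (Subgroup.zpowers_le.2 (Subgroup.mem_zpowers_iff.2 ⟨i, hi'⟩)) (by
          rw [Nat.card_zpowers, Nat.card_zpowers, P.orderOf_zb,
            orderOf_eq_prime (h2 t ht.1) ht1])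
      exact Subgroup.zpowers_le.2 ht.1 (e'.symm ▸ Subgroup.mem_zpowers P.zb)
    · push Not at hcen
      obtain ⟨_, ⟨b, hb, rfl⟩, hnc⟩ := hcen
      obtain ⟨a, ha, rfl⟩ := htQ
      rcases P.Qb_comm ha hb with e | e
      · exact absurd (mul_inv_eq_iff_eq_mul.1 (mul_inv_eq_one.1 e)) hnc
      · rw [← e, show P.pr a * P.pr b * (P.pr a)⁻¹ * (P.pr b)⁻¹ =
          P.pr a * (P.pr b * (P.pr a)⁻¹ * (P.pr b)⁻¹) by group]
        exact N.mul_mem ht.1 (hN.conj_mem _ (N.inv_mem ht.1) _)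
  refine ⟨fun n hn => hle ⟨hn, ?_⟩, hzN⟩
  rw [← P.centralizer_zb]
  exact Subgroup.mem_centralizer_singleton_iff.2 (hc hn hzN).eq

/-- The eight-group is the image of the elements over the duad line. -/
theorem above_eight : P.above N = F.pre (F.fixR D.Rd) := by
  haveI : FiniteDimensional (ZMod 2) F.V := Module.Finite.of_finite
  obtain ⟨hle, hzN⟩ := P.eight_le hcomm h2 h8
  have hc8 : Nat.card ↥(P.above N) = 8 := by rw [P.card_above, inf_eq_left.2 hle, h8]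
  set W := F.clsSub (P.above N) (P.above_le N)
  have hz : F.z ∈ P.above N := P.mem_above.2 ⟨_, F.ctx.mem, hzN⟩
  have hd : finrank (ZMod 2) ↥W = 2 := by
    have h := F.card_clsSub (P.above_le N) hz
    rw [hc8, F.card_sub] at h
    have h' : 2 * 2 ^ finrank (ZMod 2) ↥W = 8 := h
    exact Nat.pow_right_injective (le_refl 2) (show 2 ^ finrank (ZMod 2) ↥W = 2 ^ 2 by omega)
  have e : W = F.fixR D.Rd := by
    refine P.plane_eq ?_ hd.le (fun h0 => by rw [h0, finrank_bot] at hd; omega) ?_ ?_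
    · rintro _ ⟨a, ha, rfl⟩
      exact P.above_fix a ha
    · rintro _ ⟨a, ha, rfl⟩
      obtain ⟨h, hE, hS⟩ := P.mem_above.1 ha
      refine (qf_cls F.ctx hE).2 ?_
      refine P.pr_inj (a := ⟨a, h⟩ * ⟨a, h⟩) (b := 1) (F.E.mul_mem hE hE) (one_mem _) ?_
      rw [map_mul, map_one, ← pow_two]
      exact h2 _ hS
    · rintro y hyz hyx _ ⟨a, ha, rfl⟩
      obtain ⟨h, hE, hS⟩ := P.mem_above.1 ha
      refine ⟨y * a * y⁻¹, P.mem_above.2 ⟨P.Cx.mul_mem (P.Cx.mul_mem (P.mem_Cx.2 hyx) h)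
        (P.Cx.inv_mem (P.mem_Cx.2 hyx)), F.conj_mem hyz hE, ?_⟩, (act_cls F.ctx hyz hE).symm⟩
      exact hN.conj_mem _ hS (P.pr ⟨y, P.mem_Cx.2 hyx⟩)
  refine Subgroup.eq_of_le_of_card_ge (fun a ha => ⟨P.above_le N ha, e ▸ ⟨a, ha, rfl⟩⟩) ?_
  rw [hc8, F.card_pre, ← e, hd]
  norm_num

/-- The extension does not split. -/
theorem eight_nonsplit (hcard : Nat.card P.Gb = 1344) (K : Subgroup P.Gb) : ¬ N.IsComplement' K := by
  haveI : FiniteDimensional (ZMod 2) F.V := Module.Finite.of_finite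
  intro hK
  obtain ⟨hle, hzN⟩ := P.eight_le hcomm h2 h8
  have hdis : ∀ {a}, a ∈ N → a ∈ K → a = 1 := fun {a} ha hb =>
    (Subgroup.disjoint_def.1 hK.disjoint) ha hb
  have hsplit : ∀ w, ∃ n ∈ N, ∃ k ∈ K, n * k = w := fun w => by
    obtain ⟨⟨n, k⟩, h⟩ := hK.2 w
    exact ⟨n, n.2, k, k.2, h⟩
  have hcardK : Nat.card ↥(K ⊓ P.Qb) ≤ 4 := by
    let f : ↥N × ↥(K ⊓ P.Qb) → ↥P.Qb := fun a => ⟨a.1 * a.2, P.Qb.mul_mem (hle a.1.2) a.2.2.2⟩
    have hf : Function.Injective f := fun a b h => by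
      have h' : (⟨(a.1 : P.Gb), a.1.2⟩, ⟨(a.2 : P.Gb), a.2.2.1⟩) =
          ((⟨(b.1 : P.Gb), b.1.2⟩, ⟨(b.2 : P.Gb), b.2.2.1⟩) : ↥N × ↥K) := hK.1 (congrArg Subtype.val h)
      exact Prod.ext (Subtype.ext (congrArg (fun q : ↥N × ↥K => (q.1 : P.Gb)) h'))
        (Subtype.ext (congrArg (fun q : ↥N × ↥K => (q.2 : P.Gb)) h'))
    have := Nat.card_le_card_of_injective f hf
    rw [Nat.card_prod, h8, P.card_Qb] at this
    omega
  set K' := P.above K with hK'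
  set W := F.clsSub K' (P.above_le K)
  have hd : finrank (ZMod 2) ↥W ≤ 2 := by
    have hsurj : Function.Surjective (fun a : ↥K' => (⟨F.cls a, a, a.2, rfl⟩ : ↥W)) := by
      rintro ⟨_, a, ha, rfl⟩
      exact ⟨⟨a, ha⟩, rfl⟩
    have h := Nat.card_le_card_of_surjective _ hsurj
    rw [F.card_sub, hK', P.card_above] at h
    by_contra hlt
    have := Nat.pow_le_pow_right (show 0 < 2 by norm_num) (show 3 ≤ finrank (ZMod 2) ↥W by omega)
    omega
  -- an element of `K` in `Q`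
  obtain ⟨q, hqK, hqQ, hq1⟩ : ∃ q ∈ K, q ∈ P.Qb ∧ q ≠ 1 := by
    by_contra hcon
    push Not at hcon
    have hQN : P.Qb ≤ N := fun w hw => by
      obtain ⟨n, hn, k, hk, rfl⟩ := hsplit w
      have hkQ : k ∈ P.Qb := by
        have := P.Qb.mul_mem (P.Qb.inv_mem (hle hn)) hw
        rwa [inv_mul_cancel_left] at this
      rw [hcon k hk hkQ, mul_one]
      exact hn
    have := Nat.le_of_dvd (by omega) (Subgroup.card_dvd_of_le hQN)
    rw [P.card_Qb, h8] at this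
    omega
  obtain ⟨a, ha, rfl⟩ := hqQ
  have haK : (a : G) ∈ K' := P.mem_above.2 ⟨a.2, ha, hqK⟩
  have hv0 : F.cls (a : G) ≠ 0 := fun h => by
    rcases (cls_eq_zero F.ctx ha).1 h with e | e
    · exact hq1 (by rw [show a = 1 from Subtype.ext e, map_one])
    · refine hq1 (hdis ?_ hqK)
      rw [show a = ⟨F.z, P.mem_Cx.2 P.xz.symm⟩ from Subtype.ext e]
      exact hzN
  have e : W = F.fixR D.Rd := by
    refine P.plane_eq ?_ hd (fun h0 => hv0 ?_) ?_ ?_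
    · rintro _ ⟨b, hb, rfl⟩
      exact P.above_fix b hb
    · have : F.cls (a : G) ∈ W := ⟨_, haK, rfl⟩
      rwa [h0, Submodule.mem_bot] at this
    · rintro _ ⟨b, hb, rfl⟩
      obtain ⟨h, hE, hS⟩ := P.mem_above.1 hb
      refine (qf_cls F.ctx hE).2 ((F.ctx.sq b hE).resolve_right fun e => P.zb_ne (hdis hzN ?_))
      have : P.pr ⟨b, h⟩ * P.pr ⟨b, h⟩ = P.zb := by
        rw [← map_mul]; exact congrArg _ (Subtype.ext e)
      rw [← this]
      exact K.mul_mem hS hS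
    · rintro y hyz hyx _ ⟨b, hb, rfl⟩
      obtain ⟨h, hE, hS⟩ := P.mem_above.1 hb
      set yc : ↥P.Cx := ⟨y, P.mem_Cx.2 hyx⟩
      obtain ⟨n, hn, k, hk, hnk⟩ := hsplit (P.pr yc)
      have hy : P.pr yc ∈ P.Lb := ⟨yc, F.mem_H.2 hyz, rfl⟩
      have hkL : k ∈ P.Lb := by
        have := P.Lb.mul_mem (P.Lb.inv_mem (P.Qb_le (hle hn))) hy
        rwa [← hnk, inv_mul_cancel_left] at this
      obtain ⟨b', hb', hbe⟩ := P.conj_mem_Qb hkL (q := P.pr ⟨b, h⟩) ⟨_, hE, rfl⟩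
      obtain ⟨n', hn', rfl⟩ := hle hn
      have hb'K : (b' : G) ∈ K' := P.mem_above.2 ⟨b'.2, hb', by
        rw [hbe]; exact K.mul_mem (K.mul_mem hk hS) (K.inv_mem hk)⟩
      refine ⟨b', hb'K, ?_⟩
      show F.cls (b' : G) = F.act y (F.cls b)
      have e1 : y * b * y⁻¹ = (n' : G) * b' * (n' : G)⁻¹ :=
        P.pr_inj (a := yc * ⟨b, h⟩ * yc⁻¹) (b := n' * b' * n'⁻¹) (F.conj_mem hyz hE)
          (F.E.mul_mem (F.E.mul_mem hn' hb') (F.E.inv_mem hn')) (by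
          simp only [map_mul, map_inv, ← hnk, hbe]; group)
      have e2 : F.cls ((n' : G) * b' * (n' : G)⁻¹) = F.act (n' : G) (F.cls b') :=
        (act_cls F.ctx (F.comm_of_mem (e := (n' : G)) hn') hb').symm
      rw [show F.act y (F.cls b) = F.cls (y * b * y⁻¹) from act_cls F.ctx hyz hE, e1, e2]
      exact (act_of_mem F.ctx hn' _).symm
  have hv : F.cls (a : G) ∈ F.fixR D.Rd := e ▸ ⟨_, haK, rfl⟩
  have hm : (a : G) ∈ P.above N := by
    rw [P.above_eight hcomm h2 h8]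
    exact ⟨ha, hv⟩
  obtain ⟨_, _, hS⟩ := P.mem_above.1 hm
  exact hq1 (hdis hS hqK)

/-- The centralizer normalizes the elements over the duad line. -/
theorem conj_pre {g : G} (hg : g ∈ P.Cx) {e : G} (he : e ∈ F.pre (F.fixR D.Rd)) :
    g * e * g⁻¹ ∈ F.pre (F.fixR D.Rd) := by
  rw [← P.above_eight hcomm h2 h8] at he ⊢
  obtain ⟨h, hE, hS⟩ := P.mem_above.1 he
  obtain ⟨hle, -⟩ := P.eight_le hcomm h2 h8
  set gc : ↥P.Cx := ⟨g, hg⟩
  have hm : P.pr gc * P.pr ⟨e, h⟩ * (P.pr gc)⁻¹ ∈ N := hN.conj_mem _ hS _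
  obtain ⟨b, hb, hbe⟩ := hle hm
  have hbe' : P.pr b = P.pr (gc * ⟨e, h⟩ * gc⁻¹) := by simp only [map_mul, map_inv]; exact hbe
  have hbN : (b : G) ∈ P.above N := P.mem_above.2 ⟨b.2, hb, by
    show P.pr b ∈ N
    rw [hbe']; simp only [map_mul, map_inv]; exact hm⟩
  obtain ⟨i, hi⟩ := Subgroup.mem_zpowers_iff.1 (P.pr_eq_iff.1 hbe')
  have e1 : g * e * g⁻¹ = (b : G) * P.x ^ i := by
    rw [hi]
    exact (mul_inv_cancel_left (b : G) _).symm
  suffices hx : P.x ^ i = 1 by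
    rw [e1, hx, mul_one]
    exact hbN
  -- both factors square into `E`
  have hbx : Commute (b : G) (P.x ^ i) := (P.mem_Cx.1 b.2).zpow_right i
  have hsq : ∀ {c : G}, c ∈ P.above N → c * c = 1 := fun {c} hc => by
    obtain ⟨hcC, hcE, hcN⟩ := P.mem_above.1 hc
    refine P.pr_inj (a := ⟨c, hcC⟩ * ⟨c, hcC⟩) (b := 1) (F.E.mul_mem hcE hcE) (one_mem _) ?_
    rw [map_mul, map_one, ← pow_two]
    exact h2 _ hcN
  have h0 : (P.x ^ i) * (P.x ^ i) = 1 := by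
    have e2 : g * (e * e) * g⁻¹ = (b : G) * b * (P.x ^ i * P.x ^ i) := by
      rw [show g * (e * e) * g⁻¹ = g * e * g⁻¹ * (g * e * g⁻¹) by group, e1,
        hbx.symm.mul_mul_mul_comm]
    rw [hsq (P.mem_above.2 ⟨h, hE, hS⟩), hsq hbN, one_mul, mul_one, mul_inv_cancel] at e2
    exact e2.symm
  have hd : (5 : ℤ) ∣ i + i := by
    rw [← zpow_add] at h0
    have := orderOf_dvd_iff_zpow_eq_one.2 h0
    rwa [P.ord] at this
  exact orderOf_dvd_iff_zpow_eq_one.1 (by rw [P.ord]; omega)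

end FivePt

end Frame

end Cfsg.Lib.JankoFour
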