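import Cfsg.Agent.Lib.JankoFour.Gauss
import Cfsg.Agent.Lib.JankoFour.Rank
import Cfsg.Agent.Lib.JankoFour.Pair
import Mathlib.GroupTheory.Perm.Cycle.Type

/-!
# Fixed spaces of elements of prime order on `E/⟨z⟩`
-/

set_option autoImplicit false
set_option linter.style.haveILetI false
set_option linter.unusedSectionVars false

namespace Cfsg.Lib.JankoFour

open Cfsg Cfsg.Lib.Extra Module

namespace Frame

variable {G : Type*} [Group G] [Finite G] {A : Type} [Group A] {I : Subgroup A} (F : Frame G A I)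

/-- The signed count of a subspace. -/
noncomputable def gauss (W : Submodule (ZMod 2) F.V) [Fintype ↥W] : ℤ :=
  ∑ w : ↥W, sg (JankoFour.qf F.ctx (w : F.V))

/-- The square of the signed count of a nondegenerate subspace. -/
theorem gauss_sq_sub (W : Submodule (ZMod 2) F.V) [Fintype ↥W]
    (hW : ∀ d ∈ W, (∀ w ∈ W, JankoFour.B F.ctx w d = 0) → d = 0) :
    F.gauss W ^ 2 = (Nat.card ↥W : ℤ) := by
  classical
  have hd : ∀ d : ↥W, d ≠ 0 → ∑ a : ↥W, sg (JankoFour.B F.ctx (a : F.V) d) = 0 := by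
    intro d hd0
    obtain ⟨w, hwW, hw⟩ : ∃ w ∈ W, JankoFour.B F.ctx w d = 1 := by
      by_contra h
      push Not at h
      exact hd0 (Subtype.ext (hW d d.2 fun w hw => (bit _).resolve_right (h w hw)))
    have e : ∑ a : ↥W, sg (JankoFour.B F.ctx (a : F.V) d) = ∑ a : ↥W, - sg (JankoFour.B F.ctx (a : F.V) d) := by
      conv_lhs => rw [← Equiv.sum_comp (Equiv.addRight (⟨w, hwW⟩ : ↥W))
        (fun a : ↥W => sg (JankoFour.B F.ctx (a : F.V) d))]
      refine Finset.sum_congr rfl fun a _ => ?_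
      show sg (JankoFour.B F.ctx ((a : F.V) + w) d) = _
      rw [map_add, LinearMap.add_apply, sg_add, hw]
      simp [sg]
    rw [Finset.sum_neg_distrib] at e
    omega
  calc F.gauss W ^ 2
      = ∑ a : ↥W, ∑ d : ↥W, sg (JankoFour.qf F.ctx (a : F.V)) * sg (JankoFour.qf F.ctx ((a : F.V) + d)) := by
        rw [gauss, pow_two, Finset.sum_mul]
        refine Finset.sum_congr rfl fun a _ => ?_
        rw [Finset.mul_sum, ← Equiv.sum_comp (Equiv.addLeft a)]
        rfl
    _ = ∑ d : ↥W, ∑ a : ↥W, sg (JankoFour.qf F.ctx (d : F.V)) * sg (JankoFour.B F.ctx (a : F.V) d) := by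
        rw [Finset.sum_comm]
        refine Finset.sum_congr rfl fun d _ => Finset.sum_congr rfl fun a _ => ?_
        rw [← sg_add, qf_add, add_assoc (JankoFour.qf F.ctx (a : F.V)) (JankoFour.qf F.ctx (d : F.V)), ← add_assoc,
          bit_self, zero_add, sg_add]
    _ = ∑ d : ↥W, if d = 0 then (Nat.card ↥W : ℤ) else 0 := by
        refine Finset.sum_congr rfl fun d _ => ?_
        rw [← Finset.mul_sum]
        by_cases h : d = 0
        · subst h
          rw [if_pos rfl, ZeroMemClass.coe_zero, qf_zero, sg_zero, one_mul]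
          simp only [map_zero, sg_zero, Finset.sum_const, Finset.card_univ, nsmul_eq_mul, mul_one]
          rw [Nat.card_eq_fintype_card]
        · rw [if_neg h, hd d h, mul_zero]
    _ = (Nat.card ↥W : ℤ) := by simp

/-- An element of prime order without fixed points makes the signed count one. -/
theorem gauss_congr {c : G} (hc : Commute c F.z) {n : ℕ} [hn : Fact n.Prime] (hcn : c ^ n = 1)
    (W : Submodule (ZMod 2) F.V) [Fintype ↥W] (hW : ∀ w ∈ W, F.act c w ∈ W)
    (hfix : ∀ w ∈ W, F.act c w = w → w = 0) :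
    (n : ℤ) ∣ F.gauss W - 1 ∧ n ∣ Nat.card ↥W - 1 := by
  classical
  have key : ∀ P : F.V → Prop, (∀ v, P (F.act c v) ↔ P v) →
      n ∣ (Finset.univ.filter fun w : ↥W => w ≠ 0 ∧ P w).card := by
    intro P hP
    let f : {w : ↥W // w ≠ 0 ∧ P w} → {w : ↥W // w ≠ 0 ∧ P w} := fun w =>
      ⟨⟨F.act c w.1, hW _ w.1.2⟩, fun h => w.2.1 (Subtype.ext (act_injective F.ctx hc
        ((congrArg Subtype.val h).trans (map_zero _).symm))), (hP _).2 w.2.2⟩
    have hf : Function.Bijective f := Finite.injective_iff_bijective.1 fun a b h =>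
      Subtype.ext (Subtype.ext (act_injective F.ctx hc
        (congrArg (fun q : {w : ↥W // w ≠ 0 ∧ P w} => ((q.1 : ↥W) : F.V)) h)))
    set σ : Equiv.Perm {w : ↥W // w ≠ 0 ∧ P w} := Equiv.ofBijective f hf
    have hpow : ∀ (k : ℕ) (w : {w : ↥W // w ≠ 0 ∧ P w}),
        (((σ ^ k) w).1 : F.V) = F.act (c ^ k) w.1 := by
      intro k
      induction k with
      | zero => intro w; rw [pow_zero, pow_zero, act_one]; rfl
      | succ k ih =>
        intro w
        rw [pow_succ', Equiv.Perm.mul_apply, pow_succ', act_mul F.ctx hc (hc.pow_left k), ← ih]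
        rfl
    by_contra hnd
    obtain ⟨w, hw⟩ := Equiv.Perm.exists_fixed_point_of_prime (p := n) (n := 1)
      (α := {w : ↥W // w ≠ 0 ∧ P w}) (by rwa [Fintype.card_subtype]) (σ := σ)
      (Equiv.ext fun w => Subtype.ext (Subtype.ext (by rw [pow_one, hpow, hcn, act_one]; rfl)))
    exact w.2.1 (Subtype.ext (hfix _ w.1.2 (congrArg (fun q : {w : ↥W // w ≠ 0 ∧ P w} => ((q.1 : ↥W) : F.V)) hw)))
  have h0 := key (fun _ => True) fun _ => Iff.rfl
  have h1 := key (fun v => JankoFour.qf F.ctx v = 0) fun v => by rw [qf_act F.ctx hc]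
  simp only [and_true] at h0
  have hsplit : ∀ w : ↥W, w ≠ 0 →
      sg (JankoFour.qf F.ctx (w : F.V)) = 2 * (if JankoFour.qf F.ctx (w : F.V) = 0 then 1 else 0) - 1 := by
    intro w _
    unfold sg
    split <;> norm_num
  have hS : F.gauss W = 1 + (2 * ((Finset.univ.filter fun w : ↥W => w ≠ 0 ∧ JankoFour.qf F.ctx (w : F.V) = 0).card : ℤ)
      - (Finset.univ.filter fun w : ↥W => w ≠ 0).card) := by
    rw [gauss, ← Finset.sum_filter_add_sum_filter_not Finset.univ (fun w : ↥W => w ≠ 0), add_comm]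
    congr 1
    · rw [Finset.sum_eq_single (0 : ↥W)]
      · simp [qf_zero, sg_zero]
      · intro b hb hb0
        exact absurd (by simpa using hb) hb0
      · intro h
        simp at h
    · rw [Finset.sum_congr rfl fun w hw => hsplit w (Finset.mem_filter.1 hw).2, Finset.sum_sub_distrib,
        ← Finset.mul_sum, ← Finset.natCast_card_filter, Finset.filter_filter]
      simp
  refine ⟨?_, ?_⟩
  · rw [hS, add_sub_cancel_left]
    obtain ⟨a, ha⟩ := h1
    obtain ⟨b, hb⟩ := h0
    have ha' : (Finset.univ.filter fun w : ↥W => w ≠ 0 ∧ JankoFour.qf F.ctx (w : F.V) = 0).card = n * a := by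
      convert ha
    have hb' : (Finset.univ.filter fun w : ↥W => w ≠ 0).card = n * b := by convert hb
    exact ⟨2 * (a : ℤ) - b, by rw [ha', hb']; push_cast; ring⟩
  · rw [Nat.card_eq_fintype_card, ← Finset.card_univ,
      ← Finset.card_filter_add_card_filter_not (fun w : ↥W => w ≠ 0),
      show (Finset.univ.filter fun w : ↥W => ¬w ≠ 0) = {0} by ext; simp, Finset.card_singleton,
      Nat.add_sub_cancel]
    exact h0

/-- The fixed and displaced spaces of an element of odd order. -/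
theorem odd_split {c : G} (hc : Commute c F.z) {n : ℕ} (hn : Odd n) (hcn : c ^ n = 1) :
    (∀ v ∈ F.fix c, v ∈ LinearMap.range (F.disp c) → v = 0) ∧
      F.perp (F.fix c) = LinearMap.range (F.disp c) ∧ F.perp (LinearMap.range (F.disp c)) = F.fix c ∧
      finrank (ZMod 2) ↥(LinearMap.range (F.disp c)) + finrank (ZMod 2) ↥(F.fix c) = 12 := by
  haveI : FiniteDimensional (ZMod 2) F.V := Module.Finite.of_finite
  have hsum : finrank (ZMod 2) ↥(LinearMap.range (F.disp c)) + finrank (ZMod 2) ↥(F.fix c) = 12 :=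
    (LinearMap.finrank_range_add_finrank_ker (F.disp c)).trans F.finrank_V
  have hperp : LinearMap.range (F.disp c) ≤ F.perp (F.fix c) := by
    rintro _ ⟨w, rfl⟩ u hu
    exact F.B_fix_disp hc hu w
  have e1 : LinearMap.range (F.disp c) = F.perp (F.fix c) :=
    Submodule.eq_of_le_of_finrank_le hperp (by rw [F.finrank_perp]; omega)
  refine ⟨?_, e1.symm, by rw [e1, F.perp_perp], hsum⟩
  rintro v hv ⟨w, rfl⟩
  have h2 : F.act (c ^ 2) w = w := by
    have h := F.mem_ker_disp.1 hv
    rw [disp_apply, map_add, ← act_mul F.ctx hc hc, ← pow_two] at h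
    rw [add_comm (F.act c w) w] at h
    exact add_right_cancel h
  obtain ⟨k, hk⟩ := hn
  have h3 := F.act_pow_fix (hc.pow_left 2) h2 (k + 1)
  rw [← pow_mul, show 2 * (k + 1) = n + 1 by omega, pow_succ, hcn, one_mul] at h3
  rw [disp_apply, h3, bar_self]

/-- An invariant subspace splits. -/
theorem odd_split_sub {c : G} (hc : Commute c F.z) {n : ℕ} (hn : Odd n) (hcn : c ^ n = 1)
    (W : Submodule (ZMod 2) F.V) (hW : ∀ w ∈ W, F.act c w ∈ W) :
    W = (W ⊓ F.fix c) ⊔ (W ⊓ LinearMap.range (F.disp c)) ∧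
      finrank (ZMod 2) ↥(W ⊓ F.fix c) + finrank (ZMod 2) ↥(W ⊓ LinearMap.range (F.disp c)) =
        finrank (ZMod 2) ↥W := by
  haveI : FiniteDimensional (ZMod 2) F.V := Module.Finite.of_finite
  have hd : (W ⊓ F.fix c) ⊓ (W ⊓ LinearMap.range (F.disp c)) = ⊥ :=
    (Submodule.eq_bot_iff _).2 fun v hv => (F.odd_split hc hn hcn).1 v hv.1.2 hv.2.2
  have hle : (W ⊓ F.fix c) ⊔ (W ⊓ LinearMap.range (F.disp c)) ≤ W := sup_le inf_le_left inf_le_left
  have himg : W.map (F.disp c) ≤ W ⊓ LinearMap.range (F.disp c) := by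
    rintro _ ⟨w, hw, rfl⟩
    exact ⟨W.add_mem (hW w hw) hw, LinearMap.mem_range_self _ _⟩
  have e1 := LinearMap.finrank_range_add_finrank_ker ((F.disp c).domRestrict W)
  rw [LinearMap.range_domRestrict, LinearMap.ker_domRestrict, ← Submodule.finrank_map_subtype_eq W,
    Submodule.map_comap_subtype] at e1
  have e2 := Submodule.finrank_sup_add_finrank_inf_eq (W ⊓ F.fix c) (W ⊓ LinearMap.range (F.disp c))
  rw [hd, finrank_bot, add_zero] at e2
  have e1' : finrank (ZMod 2) ↥(W.map (F.disp c)) + finrank (ZMod 2) ↥(W ⊓ F.fix c) = finrank (ZMod 2) ↥W := e1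
  have e3 := Submodule.finrank_mono himg
  have e4 := Submodule.finrank_mono hle
  exact ⟨(Submodule.eq_of_le_of_finrank_le hle (by omega)).symm, by omega⟩

theorem disp_invariant {c : G} (hc : Commute c F.z) :
    ∀ w ∈ LinearMap.range (F.disp c), F.act c w ∈ LinearMap.range (F.disp c) := by
  rintro _ ⟨w, rfl⟩
  exact ⟨F.act c w, by rw [disp_apply, disp_apply, map_add]⟩

theorem p_disp_invariant {c : G} (hc : c ∈ F.C) :
    ∀ w ∈ LinearMap.range (F.disp c), F.act F.p w ∈ LinearMap.range (F.disp c) := by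
  obtain ⟨hcz, hcp⟩ := F.mem_C.1 hc
  rintro _ ⟨w, rfl⟩
  refine ⟨F.act F.p w, ?_⟩
  rw [disp_apply, disp_apply, map_add, ← act_mul F.ctx hcz F.p_comm, hcp.eq, act_mul F.ctx F.p_comm hcz]

theorem p_fix_invariant {c : G} (hc : c ∈ F.C) : ∀ w ∈ F.fix c, F.act F.p w ∈ F.fix c := by
  obtain ⟨hcz, hcp⟩ := F.mem_C.1 hc
  intro w hw
  rw [F.mem_ker_disp] at hw ⊢
  rw [← act_mul F.ctx hcz F.p_comm, hcp.eq, act_mul F.ctx F.p_comm hcz, hw]

/-- Data of the displaced space of an element of prime order. -/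
theorem disp_congr {c : G} (hc : c ∈ F.C) {n : ℕ} [hn : Fact n.Prime] (hodd : Odd n) (hcn : c ^ n = 1) :
    ∃ S : ℤ, S ^ 2 = 2 ^ finrank (ZMod 2) ↥(LinearMap.range (F.disp c)) ∧ (n : ℤ) ∣ S - 1 ∧ (3 : ℤ) ∣ S - 1 ∧
      n ∣ 2 ^ finrank (ZMod 2) ↥(LinearMap.range (F.disp c)) - 1 := by
  classical
  have hcz := (F.mem_C.1 hc).1
  set M := LinearMap.range (F.disp c)
  haveI : Fintype ↥M := Fintype.ofFinite _
  obtain ⟨hdis, hpf, hpm, -⟩ := F.odd_split hcz hodd hcn
  have hsq := F.gauss_sq_sub M fun d hd hB => hdis d (hpm ▸ (F.mem_perp.2 hB)) hd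
  rw [F.card_sub] at hsq
  push_cast at hsq
  obtain ⟨h1, h2⟩ := F.gauss_congr hcz hcn M (F.disp_invariant hcz) fun w hw h => hdis w (F.mem_ker_disp.2 h) hw
  obtain ⟨h3, -⟩ := @gauss_congr G _ _ A _ I F F.p F.p_comm 3 ⟨Nat.prime_three⟩ F.p_cube M _
    (F.p_disp_invariant hc) fun w _ h => F.act_p_eq h
  rw [F.card_sub] at h2
  exact ⟨F.gauss M, hsq, h1, by exact_mod_cast h3, h2⟩

theorem eq_pm_of_sq {S : ℤ} {k : ℕ} (h : S ^ 2 = 2 ^ (2 * k)) : S = 2 ^ k ∨ S = -(2 ^ k) :=
  sq_eq_sq_iff_eq_or_eq_neg.1 (by rw [h, mul_comm, pow_mul])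

theorem disp_ne_zero {c : G} (hcz : Commute c F.z) (hne : F.img c ≠ 1) :
    finrank (ZMod 2) ↥(LinearMap.range (F.disp c)) ≠ 0 := fun h => by
  haveI : FiniteDimensional (ZMod 2) F.V := Module.Finite.of_finite
  refine hne (F.img_mem (F.mem_E_of_act hcz fun v => ?_))
  have h0 : F.disp c v ∈ LinearMap.range (F.disp c) := LinearMap.mem_range_self _ _
  rw [Submodule.finrank_eq_zero.1 h, Submodule.mem_bot, disp_apply] at h0
  exact (add_eq_zero_iff_eq' F.ctx).1 h0

/-- An element of order five fixes a subspace of dimension four. -/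
theorem finrank_fix_five {c : G} (hc : c ∈ F.C) (h5 : c ^ 5 = 1) (hne : F.img c ≠ 1) :
    finrank (ZMod 2) ↥(F.fix c) = 4 := by
  haveI : FiniteDimensional (ZMod 2) F.V := Module.Finite.of_finite
  haveI : Fact (Nat.Prime 5) := ⟨by norm_num⟩
  obtain ⟨S, hS, h1, h3, hm⟩ := F.disp_congr hc (n := 5) (by decide) h5
  have hsum := (F.odd_split (F.mem_C.1 hc).1 (n := 5) (by decide) h5).2.2.2
  have h0 := F.disp_ne_zero (F.mem_C.1 hc).1 hne
  set m := finrank (ZMod 2) ↥(LinearMap.range (F.disp c))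
  have hm4 : m = 4 ∨ m = 8 ∨ m = 12 := by
    have : m ≤ 12 := by omega
    interval_cases m
    all_goals first | omega | (revert hm; norm_num)
  rcases hm4 with e | e | e <;> rw [e] at hS
  · rcases eq_pm_of_sq (k := 2) hS with rfl | rfl <;> revert h1 h3 <;> norm_num
  · omega
  · rcases eq_pm_of_sq (k := 6) hS with rfl | rfl <;> revert h1 h3 <;> norm_num

/-- An element of order seven fixes no nonzero vector. -/
theorem fix_seven {c : G} (hc : c ∈ F.C) (h7 : c ^ 7 = 1) (hne : F.img c ≠ 1) : F.fix c = ⊥ := by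
  haveI : FiniteDimensional (ZMod 2) F.V := Module.Finite.of_finite
  haveI : Fact (Nat.Prime 7) := ⟨by norm_num⟩
  obtain ⟨S, hS, h1, h3, hm⟩ := F.disp_congr hc (n := 7) (by decide) h7
  have hsum := (F.odd_split (F.mem_C.1 hc).1 (n := 7) (by decide) h7).2.2.2
  have h0 := F.disp_ne_zero (F.mem_C.1 hc).1 hne
  have hev := F.even_finrank _ (F.p_disp_invariant hc)
  refine Submodule.finrank_eq_zero.1 ?_
  set m := finrank (ZMod 2) ↥(LinearMap.range (F.disp c))
  have hm6 : m = 6 ∨ m = 12 := by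
    have : m ≤ 12 := by omega
    obtain ⟨j, hj⟩ := hev
    interval_cases m
    all_goals first | omega | (revert hm; norm_num)
  rcases hm6 with e | e
  · rw [e] at hS
    rcases eq_pm_of_sq (k := 3) hS with rfl | rfl <;> revert h1 h3 <;> norm_num
  · omega

/-- An element of order eleven fixes no singular vector with its multiples. -/
theorem fix_eleven {c : G} (hc : c ∈ F.C) (h11 : c ^ 11 = 1) (hne : F.img c ≠ 1) {v : F.V} (hv : v ∈ F.fix c)
    (hq : JankoFour.qf F.ctx v = 0) : v = 0 := by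
  haveI : FiniteDimensional (ZMod 2) F.V := Module.Finite.of_finite
  haveI : Fact (Nat.Prime 11) := ⟨by norm_num⟩
  obtain ⟨S, hS, -, -, hm⟩ := F.disp_congr hc (n := 11) (by decide) h11
  obtain ⟨hdis, hpf, -, hsum⟩ := F.odd_split (F.mem_C.1 hc).1 (n := 11) (by decide) h11
  have h0 := F.disp_ne_zero (F.mem_C.1 hc).1 hne
  set m := finrank (ZMod 2) ↥(LinearMap.range (F.disp c))
  have hm10 : m = 10 := by
    have : m ≤ 12 := by omega
    interval_cases m
    all_goals first | omega | (revert hm; norm_num)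
  by_contra hv0
  have hline : F.line v = F.fix c := Submodule.eq_of_le_of_finrank_le (F.line_le hv (F.p_fix_invariant hc))
    (by rw [F.finrank_line hv0]; omega)
  refine hv0 (hdis v hv (hpf ▸ F.mem_perp.2 fun w hw => ?_))
  rw [← hline] at hw
  have hBp : JankoFour.B F.ctx (F.act F.p v) v = 0 := by
    have e := qf_add F.ctx v (F.act F.p v)
    rw [← F.act_p_sq, qf_act F.ctx F.p_comm, qf_act F.ctx F.p_comm, hq, zero_add, zero_add, B_symm] at e
    exact e.symm
  obtain ⟨a, b, rfl⟩ := Submodule.mem_span_pair.1 hw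
  rw [map_add, map_smul, map_smul, LinearMap.add_apply, LinearMap.smul_apply, LinearMap.smul_apply, B_self, hBp,
    smul_zero, smul_zero, add_zero]

end Frame

end Cfsg.Lib.JankoFour
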