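import Cfsg.Agent.Lib.JankoFourLocal.PentadSym
import Cfsg.Agent.Lib.JankoFour.Scalar
import Cfsg.Agent.Lib.JankoFour.Hexad

/-!
# The special group of order `2¹⁵`
-/

set_option autoImplicit false
set_option linter.style.haveILetI false
set_option linter.unusedSectionVars false

namespace Cfsg.Lib.JankoFour

open Cfsg Cfsg.Lib.Extra Module
open scoped Pointwise commutatorElement

/-- The order of a subgroup by a homomorphism. -/
theorem card_eq_map_mul_inf_ker {K A : Type*} [Group K] [Group A] (f : K →* A) (S : Subgroup K) :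
    Nat.card ↥S = Nat.card ↥(S.map f) * Nat.card ↥(S ⊓ f.ker) := by
  have h := (f.comp S.subtype).ker.index_mul_card
  rw [Subgroup.index_ker, MonoidHom.range_comp, Subgroup.range_subtype] at h
  rw [← h, show (f.comp S.subtype).ker = (S ⊓ f.ker).subgroupOf S by
    ext a
    simp [Subgroup.mem_subgroupOf, MonoidHom.mem_ker],
    Nat.card_congr (Subgroup.subgroupOfEquivOfLe inf_le_left).toEquiv]

namespace Frame

variable {G : Type*} [Group G] [Finite G] {A : Type} [Group A] {I : Subgroup A}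

namespace PentadPt

variable {F : Frame G A I} {D : LocalData A I} (R : PentadPt F D)

include R in
theorem z_mem_Q : F.z ∈ F.duadQ D := F.z_mem_pre _

include R in
theorem Q_le_K : F.duadQ D ≤ F.duadK D := fun _ ha =>
  mem_duadK.2 fun _ hb => R.toFivePt.duadQ_comm ha hb

theorem y_mem_M : R.y ∈ F.duadM D := R.toFivePt.Cx_le_M R.y_mem

include R in
/-- The centralizer fixes the duad line. -/
theorem K_act {k : G} (hk : k ∈ F.duadK D) {w : F.V} (hw : w ∈ F.fixR D.Rd) : F.act k w = w := by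
  obtain ⟨a, ha, rfl⟩ := cls_surj F.ctx w
  rw [act_cls F.ctx (duadK_comm_z hk) ha, (mem_duadK.1 hk a ⟨ha, hw⟩).eq, mul_inv_cancel_right]

include R in
theorem exists_vec : ∃ v, v ≠ 0 ∧ JankoFour.qf F.ctx v = 0 ∧ F.fixR D.Rd = F.line v ∧ v ∈ F.fixR D.Rd := by
  obtain ⟨v, hv0, hq, hU, -⟩ := F.duad_line D R.mem R.img_x R.ord
  exact ⟨v, hv0, hq, hU, hU ▸ F.self_mem_line v⟩

include R in
theorem img_K_mem {k : G} (hk : k ∈ F.duadK D) : F.img k ∈ I := by
  by_contra hI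
  obtain ⟨v, hv0, -, -, hv⟩ := R.exists_vec
  have h1 := R.K_act hk (F.p_fixR v hv)
  rw [F.act_p_inv (duadK_comm_z hk) hI, R.K_act hk hv] at h1
  exact hv0 (F.act_p_eq (act_injective F.ctx F.p_comm h1))

include R in
theorem mem_E_of_img {k : G} (hk : k ∈ F.duadK D) (h : F.img k = 1) : k ∈ F.E := by
  obtain ⟨e, he, i, rfl⟩ := (F.img_ker k (duadK_comm_z hk)).1 h
  obtain ⟨v, hv0, -, -, hv⟩ := R.exists_vec
  have h1 := R.K_act hk hv
  rw [act_mul F.ctx (F.comm_of_mem he) (F.p_comm.pow_left i), act_of_mem F.ctx he,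
    show F.p ^ i = F.p ^ (i % 3) by rw [← F.p_ord, pow_mod_orderOf]] at h1
  have hmod : F.p ^ i = F.p ^ (i % 3) := by rw [← F.p_ord, pow_mod_orderOf]
  rcases (show i % 3 = 0 ∨ i % 3 = 1 ∨ i % 3 = 2 by omega) with e0 | e0 | e0 <;> rw [e0] at h1 hmod
  · rw [hmod, pow_zero, mul_one]; exact he
  · rw [pow_one] at h1
    exact absurd (F.act_p_eq h1) hv0
  · rw [pow_two, act_mul F.ctx F.p_comm F.p_comm] at h1
    refine absurd (F.act_p_eq ?_) hv0
    conv_lhs => rw [← h1]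
    exact F.act_p_three v

/-- The map to `A`. -/
noncomputable def imgK (R : PentadPt F D) : ↥(F.duadK D) →* A where
  toFun k := F.img k
  map_one' := F.img_one
  map_mul' a b := F.img_mul _ _ (duadK_comm_z a.2) (duadK_comm_z b.2)

theorem imgK_apply (k : ↥(F.duadK D)) : R.imgK k = F.img (k : G) := rfl

/-- The elements of `E` centralizing the elements over the duad line. -/
noncomputable def CE (R : PentadPt F D) : Subgroup G := F.E ⊓ F.duadK D

theorem mem_CE {e : G} : e ∈ R.CE ↔ e ∈ F.E ∧ e ∈ F.duadK D := Iff.rfl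

theorem CE_le_K : R.CE ≤ F.duadK D := inf_le_right

theorem ker_imgK : R.imgK.ker = R.CE.subgroupOf (F.duadK D) := by
  ext k
  rw [MonoidHom.mem_ker, Subgroup.mem_subgroupOf, imgK_apply, mem_CE]
  exact ⟨fun h => ⟨R.mem_E_of_img k.2 h, k.2⟩, fun h => F.img_mem h.1⟩

theorem CE_eq : R.CE = F.pre (F.perp (F.fixR D.Rd)) := by
  ext e
  rw [mem_CE, mem_pre, F.mem_perp]
  refine and_congr_right fun he => ⟨fun h u hu => ?_, fun h => mem_duadK.2 fun a ha => ?_⟩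
  · obtain ⟨a, ha, rfl⟩ := cls_surj F.ctx u
    exact (B_cls F.ctx ha he).2 (mem_duadK.1 h a ⟨ha, hu⟩).symm
  · exact ((B_cls F.ctx ha.1 he).1 (h _ ha.2)).symm

theorem card_CE : Nat.card ↥R.CE = 2 ^ 11 := by
  haveI : FiniteDimensional (ZMod 2) F.V := Module.Finite.of_finite
  obtain ⟨v, hv0, -, hU, -⟩ := R.exists_vec
  rw [R.CE_eq, F.card_pre, hU, F.finrank_perp, F.finrank_line hv0]
  norm_num

theorem card_K_eq : Nat.card ↥(F.duadK D) = Nat.card ↥R.imgK.range * 2 ^ 11 := by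
  have h := R.imgK.ker.index_mul_card
  rw [Subgroup.index_ker, R.ker_imgK, Nat.card_congr (Subgroup.subgroupOfEquivOfLe R.CE_le_K).toEquiv,
    R.card_CE] at h
  exact h.symm

/-- An upper bound for the image. -/
theorem card_range_dvd : Nat.card ↥R.imgK.range ∣ 1920 := by
  haveI := F.finite_A
  have hle : R.imgK.range ≤ I := by
    rintro _ ⟨k, rfl⟩
    exact R.img_K_mem k.2
  have hd : Nat.card ↥R.imgK.range ∣ 443520 := F.facts.card_I ▸ Subgroup.card_dvd_of_le hle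
  have hdK : Nat.card ↥R.imgK.range ∣ Nat.card ↥(F.duadK D) := ⟨_, R.card_K_eq⟩
  have h7 : ¬ 7 ∣ Nat.card ↥R.imgK.range := fun h => by
    haveI : Fact (Nat.Prime 7) := ⟨by norm_num⟩
    obtain ⟨⟨w, hw⟩, hwo⟩ := exists_prime_orderOf_dvd_card' (G := ↥(F.duadK D)) 7 (h.trans hdK)
    rw [← Subgroup.orderOf_coe] at hwo
    exact R.toFivePt.not_seven_cent hwo (mem_duadK.1 hw)
  have h11 : ¬ 11 ∣ Nat.card ↥R.imgK.range := by
    intro h
    haveI : Fact (Nat.Prime 11) := ⟨by norm_num⟩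
    obtain ⟨⟨_, k, rfl⟩, ho⟩ := exists_prime_orderOf_dvd_card' (G := ↥R.imgK.range) 11 h
    rw [← Subgroup.orderOf_coe] at ho
    have ho' : orderOf (F.img (k : G)) = 11 := ho
    obtain ⟨x, hx, hxi, hxo⟩ := F.exists_lift_prime (R.img_K_mem k.2) ho' (k := 12) (by norm_num) (by norm_num)
    obtain ⟨hxz, hxp⟩ := F.mem_C.1 hx
    have hkz : Commute (k : G) F.z := duadK_comm_z k.2
    obtain ⟨e, he, i, hei⟩ := (F.img_ker (x * (k : G)⁻¹) (hxz.mul_left hkz.inv_left)).1 (by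
      rw [F.img_mul _ _ hxz hkz.inv_left, F.img_inv hkz, hxi, mul_inv_cancel])
    have hpi : Commute (F.p ^ i) F.z := F.p_comm.pow_left i
    obtain ⟨v, hv0, hq, -, hv⟩ := R.exists_vec
    have hxv : F.act x v = F.act (F.p ^ i) v := by
      rw [show x = e * F.p ^ i * (k : G) by rw [← hei, inv_mul_cancel_right],
        act_mul F.ctx ((F.comm_of_mem he).mul_left hpi) hkz, R.K_act k.2 hv,
        act_mul F.ctx (F.comm_of_mem he) hpi, act_of_mem F.ctx he]
    set c := (F.p ^ i)⁻¹ * x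
    have hcv : F.act c v = v := by
      show F.act ((F.p ^ i)⁻¹ * x) v = v
      rw [act_mul F.ctx hpi.inv_left hxz, hxv, act_inv_act F.ctx hpi]
    have hx11 : x ^ 11 = 1 := hxo ▸ pow_orderOf_eq_one x
    have hc12 : c ^ 12 = x := by
      show ((F.p ^ i)⁻¹ * x) ^ 12 = x
      rw [((hxp.pow_right i).symm.inv_left).mul_pow, inv_pow, show (12 : ℕ) = 3 * 4 from rfl,
        pow_mul (F.p ^ i), F.p_pow_six, one_pow, inv_one, one_mul, show 3 * 4 = 11 + 1 from rfl, pow_succ,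
        hx11, one_mul]
    have hfix : F.act x v = v :=
      hc12 ▸ F.act_pow_fix (hpi.inv_left.mul_left hxz) hcv 12
    exact hv0 (F.fix_eleven hx hx11 (fun h1 => by rw [hxi] at h1; rw [h1, orderOf_one] at ho'; omega)
      (F.mem_ker_disp.2 hfix) hq)
  set d := Nat.card ↥R.imgK.range
  have h77 : d.Coprime 77 := by
    rw [show (77 : ℕ) = 7 * 11 from rfl, Nat.coprime_mul_iff_right]
    exact ⟨((Nat.Prime.coprime_iff_not_dvd (by norm_num)).2 h7).symm,
      ((Nat.Prime.coprime_iff_not_dvd (by norm_num)).2 h11).symm⟩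
  have h5760 : d ∣ 5760 := h77.dvd_of_dvd_mul_right (by norm_num; exact hd)
  have h9 : Nat.gcd d 9 ∣ 3 := by
    obtain ⟨i, hi, e⟩ := (Nat.dvd_prime_pow Nat.prime_three).1 (show Nat.gcd d 9 ∣ 3 ^ 2 from Nat.gcd_dvd_right d 9)
    rcases (show i = 2 ∨ i ≤ 1 by omega) with rfl | hi'
    · exact absurd ((e ▸ Nat.gcd_dvd_left d 9 : 3 ^ 2 ∣ d).trans hdK) (by norm_num; exact R.nine)
    · rw [e]; exact (pow_dvd_pow 3 hi').trans (by norm_num)
  have h1 : d ∣ Nat.gcd d 9 * Nat.gcd d 640 :=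
    (Nat.dvd_gcd dvd_rfl h5760).trans (Nat.gcd_mul_right_dvd_mul_gcd d 9 640)
  exact h1.trans (mul_dvd_mul h9 (Nat.gcd_dvd_right d 640))

variable {m : G} (hm : m ∈ F.duadM D) (hne : m * F.z * m⁻¹ ≠ F.z)

theorem conj_z_mem (R : PentadPt F D) (hm : m ∈ F.duadM D) : m * F.z * m⁻¹ ∈ F.duadQ D :=
  (Subgroup.mem_normalizer_iff.1 hm F.z).1 R.z_mem_Q

include R hm hne in
theorem fused : Fused F (F.conj m) :=
  ⟨hne, (R.conj_z_mem hm).1, F.ctx.mem_symm (R.conj_z_mem hm).1⟩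

include R hm hne in
theorem inter_le_K : F.E ⊓ (F.conj m).E ≤ F.duadK D := by
  intro k hk
  refine mem_duadK.2 fun a ha => ?_
  have haK : a ∈ F.E ⊓ (F.conj m).E := ⟨ha.1, F.mem_conj_E.2 (by
    have := (Subgroup.mem_normalizer_iff.1 (inv_mem hm) a).1 ha
    rw [inv_inv] at this
    exact this.1)⟩
  have hi : ∀ {c}, c ∈ F.E ⊓ (F.conj m).E → c⁻¹ = c := fun hc =>
    inv_eq_of_mul_eq_one_right ((R.fused hm hne).K_sq hc)
  show k * a = a * k
  rw [← hi (mul_mem hk haK), mul_inv_rev, hi hk, hi haK]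

/-- The conjugate. -/
theorem map_CE_eq (hm : m ∈ F.duadM D) :
    R.CE.map (MulAut.conj m).toMonoidHom = (F.conj m).E ⊓ F.duadK D := by
  ext w
  constructor
  · rintro ⟨e, he, rfl⟩
    refine ⟨F.mem_conj_E.2 ?_, duadK_conj hm he.2⟩
    simp only [MulEquiv.coe_toMonoidHom, MulAut.conj_apply]
    rw [show m⁻¹ * (m * e * m⁻¹) * m = e by group]
    exact he.1
  · rintro ⟨h1, h2⟩
    refine ⟨m⁻¹ * w * m, ⟨F.mem_conj_E.1 h1, by simpa using duadK_conj (inv_mem hm) h2⟩, ?_⟩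
    simp only [MulEquiv.coe_toMonoidHom, MulAut.conj_apply]
    group

/-- Two such groups generated together. -/
noncomputable def pair (R : PentadPt F D) (m : G) : Subgroup G :=
  R.CE ⊔ R.CE.map (MulAut.conj m).toMonoidHom

include hm in
theorem pair_le : R.pair m ≤ F.duadK D :=
  sup_le R.CE_le_K (by rw [R.map_CE_eq hm]; exact inf_le_right)

include hm hne in
theorem card_pair : Nat.card ↥(R.pair m) = 2 ^ 15 := by
  haveI := F.finite_A
  set K := F.duadK D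
  set B := R.CE.map (MulAut.conj m).toMonoidHom with hB
  have hBK : B ≤ K := by rw [hB, R.map_CE_eq hm]; exact inf_le_right
  have hker := R.ker_imgK
  have hBi : B.subgroupOf K ⊓ R.imgK.ker = (F.E ⊓ (F.conj m).E).subgroupOf K := by
    rw [hker, hB, R.map_CE_eq hm]
    ext k
    simp only [Subgroup.mem_inf, Subgroup.mem_subgroupOf, mem_CE]
    exact ⟨fun h => ⟨h.2.1, h.1.1⟩, fun h => ⟨⟨h.2, k.2⟩, h.1, k.2⟩⟩
  have h16 : Nat.card ↥((B.subgroupOf K).map R.imgK) = 16 := by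
    have h := card_eq_map_mul_inf_ker R.imgK (B.subgroupOf K)
    rw [hBi, Nat.card_congr (Subgroup.subgroupOfEquivOfLe (R.inter_le_K hm hne)).toEquiv,
      (R.fused hm hne).card_K, Nat.card_congr (Subgroup.subgroupOfEquivOfLe hBK).toEquiv,
      Subgroup.card_map_of_injective (MulAut.conj m).injective, R.card_CE] at h
    omega
  have h := card_eq_map_mul_inf_ker R.imgK ((R.pair m).subgroupOf K)
  have hmap : ((R.pair m).subgroupOf K).map R.imgK = (B.subgroupOf K).map R.imgK := by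
    rw [pair, Subgroup.subgroupOf_sup R.CE_le_K hBK, Subgroup.map_sup, ← hker,
      show R.imgK.ker.map R.imgK = ⊥ from (Subgroup.map_eq_bot_iff _).2 le_rfl, bot_sup_eq]
  have hk : (R.pair m).subgroupOf K ⊓ R.imgK.ker = R.CE.subgroupOf K := by
    rw [hker]
    exact inf_eq_right.2 (Subgroup.comap_mono (le_sup_left : R.CE ≤ R.pair m))
  rw [hmap, hk, h16, Nat.card_congr (Subgroup.subgroupOfEquivOfLe R.CE_le_K).toEquiv, R.card_CE,
    Nat.card_congr (Subgroup.subgroupOfEquivOfLe (R.pair_le hm)).toEquiv] at h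
  rw [h]
  norm_num

include hm hne in
theorem pair_normal {k : G} (hk : k ∈ F.duadK D) {a : G} (ha : a ∈ R.pair m) : k * a * k⁻¹ ∈ R.pair m := by
  have key : ∀ S : Subgroup G, (∀ e ∈ S, k * e * k⁻¹ ∈ S) → S.map (MulAut.conj k).toMonoidHom ≤ S := by
    rintro S hS _ ⟨e, he, rfl⟩
    exact hS e he
  have hle : (R.pair m).map (MulAut.conj k).toMonoidHom ≤ R.pair m := by
    rw [pair, Subgroup.map_sup]
    refine sup_le_sup (key _ fun e he => ⟨F.conj_mem (duadK_comm_z hk) he.1, ?_⟩) (key _ ?_)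
    · exact duadK_conj (duadK_le_M hk) he.2
    rintro _ ⟨e, he, rfl⟩
    simp only [MulEquiv.coe_toMonoidHom, MulAut.conj_apply]
    have hk' : m⁻¹ * k * m ∈ F.duadK D := by simpa using duadK_conj (inv_mem hm) hk
    refine ⟨m⁻¹ * k * m * e * (m⁻¹ * k * m)⁻¹, ⟨F.conj_mem (duadK_comm_z hk') he.1,
      duadK_conj (duadK_le_M hk') he.2⟩, ?_⟩
    simp only [MulEquiv.coe_toMonoidHom, MulAut.conj_apply]
    group
  exact hle ⟨a, ha, rfl⟩

theorem y_ne_z : R.y * F.z * R.y⁻¹ ≠ F.z := fun h =>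
  F.ctx.ne_one (R.toFivePt.fix_eq_one R.y_mem R.y_ord R.y_norm R.z_mem_Q
    (mul_inv_eq_iff_eq_mul.1 h).symm)

/-- The special group. -/
noncomputable def L (R : PentadPt F D) : Subgroup G := R.pair R.y

theorem L_le : R.L ≤ F.duadK D := R.pair_le R.y_mem_M

theorem card_L : Nat.card ↥R.L = 2 ^ 15 := R.card_pair R.y_mem_M R.y_ne_z

theorem L_conj_K {k : G} (hk : k ∈ F.duadK D) {a : G} (ha : a ∈ R.L) : k * a * k⁻¹ ∈ R.L :=
  R.pair_normal R.y_mem_M R.y_ne_z hk ha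

theorem J_two {T : Subgroup G} (hT : IsPGroup 2 ↥T) (hn : ∀ j ∈ R.J, ∀ a ∈ T, j * a * j⁻¹ ∈ T) :
    T ⊓ R.J = ⊥ := by
  obtain ⟨e⟩ := R.J_equiv
  have hN : (T.subgroupOf R.J).Normal := ⟨fun a ha j => hn j j.2 a ha⟩
  have h2 : IsPGroup 2 ↥(T.subgroupOf R.J) := by
    rw [← Subgroup.inf_subgroupOf_right]
    exact (hT.to_le (inf_le_left : T ⊓ R.J ≤ T)).of_equiv (Subgroup.subgroupOfEquivOfLe inf_le_right).symm
  have := eq_bot_of_equiv_perm_five e hN h2
  rw [Subgroup.subgroupOf_eq_bot] at this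
  exact disjoint_iff.1 this

theorem L_inf_J : R.L ⊓ R.J = ⊥ :=
  R.J_two (IsPGroup.of_card R.card_L) fun _ hj _ ha => R.L_conj_K (R.J_K hj) ha

theorem card_J : Nat.card ↥R.J = 120 := by
  obtain ⟨e⟩ := R.J_equiv
  rw [Nat.card_congr e.toEquiv, Nat.card_perm, Nat.card_fin]
  rfl

theorem K_split : Nat.card ↥(F.duadK D) = 2 ^ 15 * 120 ∧
    ∀ k ∈ F.duadK D, ∃ l ∈ R.L, ∃ j ∈ R.J, k = l * j := by
  classical
  let f : ↥R.L × ↥R.J → ↥(F.duadK D) := fun q => ⟨q.1 * q.2, mul_mem (R.L_le q.1.2) (R.J_K q.2.2)⟩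
  have hf : Function.Injective f := by
    intro a b h
    have h' : (a.1 : G) * a.2 = b.1 * b.2 := congrArg Subtype.val h
    have h1 : (b.1 : G)⁻¹ * a.1 = b.2 * (a.2 : G)⁻¹ := by
      rw [eq_mul_inv_iff_mul_eq, mul_assoc, h', inv_mul_cancel_left]
    have h2 : (b.1 : G)⁻¹ * a.1 ∈ R.L ⊓ R.J :=
      ⟨R.L.mul_mem (R.L.inv_mem b.1.2) a.1.2, h1 ▸ R.J.mul_mem b.2.2 (R.J.inv_mem a.2.2)⟩
    rw [R.L_inf_J, Subgroup.mem_bot, inv_mul_eq_one] at h2
    exact Prod.ext (Subtype.ext h2.symm) (Subtype.ext (mul_left_cancel (h2 ▸ h')))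
  have hle : Nat.card ↥(F.duadK D) ≤ 2 ^ 15 * 120 := by
    rw [R.card_K_eq]
    exact (Nat.mul_le_mul_right _ (Nat.le_of_dvd (by norm_num) R.card_range_dvd)).trans (by norm_num)
  have hge := Nat.card_le_card_of_injective f hf
  rw [Nat.card_prod, R.card_L, R.card_J] at hge
  have hK : Nat.card ↥(F.duadK D) = 2 ^ 15 * 120 := le_antisymm hle hge
  refine ⟨hK, fun k hk => ?_⟩
  obtain ⟨⟨l, j⟩, h⟩ := ((Nat.bijective_iff_injective_and_card f).2
    ⟨hf, by rw [Nat.card_prod, R.card_L, R.card_J, hK]⟩).2 ⟨k, hk⟩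
  exact ⟨l, l.2, j, j.2, (congrArg Subtype.val h).symm⟩

/-- Every 2-subgroup normalized by the centralizer lies in the special group. -/
theorem le_L {T : Subgroup G} (hT : IsPGroup 2 ↥T) (hle : T ≤ F.duadK D)
    (hn : ∀ k ∈ F.duadK D, ∀ a ∈ T, k * a * k⁻¹ ∈ T) : T ≤ R.L := by
  intro t ht
  obtain ⟨-, hsplit⟩ := R.K_split
  obtain ⟨l, hl, j, hj, rfl⟩ := hsplit t (hle ht)
  have hTL : IsPGroup 2 ↥(T ⊔ R.L) :=
    IsPGroup.to_sup_of_normal_left' hT (IsPGroup.of_card R.card_L) fun a ha =>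
      mem_normalizer_of_conj fun b hb => hn a (R.L_le ha) b hb
  have hj2 : j ∈ (T ⊔ R.L) ⊓ R.J := by
    refine ⟨?_, hj⟩
    have := mul_mem (Subgroup.mem_sup_right (S := T) (inv_mem hl)) (Subgroup.mem_sup_left (T := R.L) ht)
    rwa [inv_mul_cancel_left] at this
  rw [R.J_two hTL ?_, Subgroup.mem_bot] at hj2
  · rw [hj2, mul_one]; exact hl
  · intro i hi a ha
    have key : ∀ {S : Subgroup G}, (∀ e ∈ S, i * e * i⁻¹ ∈ S) → S.map (MulAut.conj i).toMonoidHom ≤ S := by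
      rintro S hS _ ⟨e, he, rfl⟩
      exact hS e he
    have hmap : (T ⊔ R.L).map (MulAut.conj i).toMonoidHom ≤ T ⊔ R.L := by
      rw [Subgroup.map_sup]
      exact sup_le_sup (key fun e he => hn i (R.J_K hi) e he) (key fun e he => R.L_conj_K (R.J_K hi) he)
    exact hmap ⟨a, ha, rfl⟩

/-- Every such pair generates the special group. -/
theorem pair_eq (hm : m ∈ F.duadM D) (hne : m * F.z * m⁻¹ ≠ F.z) : R.pair m = R.L :=
  Subgroup.eq_of_le_of_card_ge
    (R.le_L (IsPGroup.of_card (R.card_pair hm hne)) (R.pair_le hm) fun _ hk _ ha => R.pair_normal hm hne hk ha)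
    (by rw [R.card_L, R.card_pair hm hne])

/-- The special group is normal in the normalizer. -/
theorem L_conj {g : G} (hg : g ∈ F.duadM D) {a : G} (ha : a ∈ R.L) : g * a * g⁻¹ ∈ R.L := by
  have hle : R.L.map (MulAut.conj g).toMonoidHom ≤ R.L := by
    refine R.le_L ((IsPGroup.of_card R.card_L).map _) ?_ ?_
    · rintro _ ⟨b, hb, rfl⟩
      exact duadK_conj hg (R.L_le hb)
    · rintro k hk _ ⟨b, hb, rfl⟩
      refine ⟨g⁻¹ * k * g * b * (g⁻¹ * k * g)⁻¹, R.L_conj_K (by simpa using duadK_conj (inv_mem hg) hk) hb, ?_⟩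
      simp only [MulEquiv.coe_toMonoidHom, MulAut.conj_apply]
      group
  exact hle ⟨a, ha, rfl⟩

theorem CE_le_L : R.CE ≤ R.L := le_sup_left

theorem Q_le_L : F.duadQ D ≤ R.L := fun _ ha => R.CE_le_L ⟨ha.1, R.Q_le_K ha⟩

/-- The commutators lie in the intersection. -/
theorem comm_mem_inter {a b : G} (ha : a ∈ R.L) (hb : b ∈ R.L) (hm : m ∈ F.duadM D)
    (hne : m * F.z * m⁻¹ ≠ F.z) : a * b * a⁻¹ * b⁻¹ ∈ F.E ⊓ (F.conj m).E := by
  rw [← R.pair_eq hm hne] at ha hb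
  set D' := F.E ⊓ (F.conj m).E
  set B := R.CE.map (MulAut.conj m).toMonoidHom
  have hB : B = (F.conj m).E ⊓ F.duadK D := R.map_CE_eq hm
  have hconjE : ∀ k ∈ F.duadK D, ∀ w ∈ (F.conj m).E, k * w * k⁻¹ ∈ (F.conj m).E := fun k hk w hw => by
    refine F.mem_conj_E.2 ?_
    have hk' : m⁻¹ * k * m ∈ F.duadK D := by simpa using duadK_conj (inv_mem hm) hk
    have := F.conj_mem (duadK_comm_z hk') (F.mem_conj_E.1 hw)
    rwa [show m⁻¹ * k * m * (m⁻¹ * w * m) * (m⁻¹ * k * m)⁻¹ = m⁻¹ * (k * w * k⁻¹) * m by group] at this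
  have hS : R.pair m ≤ F.duadK D := R.pair_le hm
  set Dk := D'.subgroupOf (F.duadK D)
  haveI : Dk.Normal := ⟨fun n hn k => ⟨F.conj_mem (duadK_comm_z k.2) hn.1, hconjE k k.2 n hn.2⟩⟩
  set π := QuotientGroup.mk' Dk
  have hgen : ∀ u ∈ (R.CE : Set G) ∪ (B : Set G), u ∈ F.duadK D := by
    rintro u (hu | hu)
    exacts [R.CE_le_K hu, (hB ▸ hu : u ∈ (F.conj m).E ⊓ F.duadK D).2]
  have hmz : m * F.z * m⁻¹ ∈ D' := ⟨(R.conj_z_mem hm).1, F.mem_conj_E.2 (by
    rw [show m⁻¹ * (m * F.z * m⁻¹) * m = F.z by group]; exact F.ctx.mem)⟩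
  have hz : F.z ∈ D' := ⟨F.ctx.mem, (R.fused hm hne).mem'⟩
  have pairwise : ∀ u (hu : u ∈ (R.CE : Set G) ∪ (B : Set G)), ∀ v (hv : v ∈ (R.CE : Set G) ∪ (B : Set G)),
      Commute (π ⟨u, hgen u hu⟩) (π ⟨v, hgen v hv⟩) := by
    intro u hu v hv
    show π ⟨u, hgen u hu⟩ * π ⟨v, hgen v hv⟩ = π ⟨v, hgen v hv⟩ * π ⟨u, hgen u hu⟩
    rw [← map_mul, ← map_mul]
    refine (QuotientGroup.eq.2 ?_).symm
    show (v * u)⁻¹ * (u * v) ∈ D'
    rw [mul_inv_rev]
    rcases hu with hu | hu <;> rcases hv with hv | hv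
    · rcases F.ctx.comm u⁻¹ (inv_mem hu.1) v⁻¹ (inv_mem hv.1) with e | e <;>
        rw [inv_inv, inv_inv] at e <;> rw [show u⁻¹ * v⁻¹ * (u * v) = u⁻¹ * v⁻¹ * u * v by group, e]
      exacts [one_mem _, hz]
    · have hv' := (hB ▸ hv : v ∈ (F.conj m).E ⊓ F.duadK D)
      refine ⟨?_, ?_⟩
      · have := F.E.mul_mem (F.E.inv_mem hu.1) (F.conj_mem (duadK_comm_z (inv_mem hv'.2)) hu.1)
        rwa [show u⁻¹ * (v⁻¹ * u * v⁻¹⁻¹) = u⁻¹ * v⁻¹ * (u * v) by group] at this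
      · have := mul_mem (hconjE u⁻¹ (inv_mem hu.2) _ (inv_mem hv'.1)) hv'.1
        rwa [show u⁻¹ * v⁻¹ * u⁻¹⁻¹ * v = u⁻¹ * v⁻¹ * (u * v) by group] at this
    · have hu' := (hB ▸ hu : u ∈ (F.conj m).E ⊓ F.duadK D)
      refine ⟨?_, ?_⟩
      · have := mul_mem (F.conj_mem (duadK_comm_z (inv_mem hu'.2)) (inv_mem hv.1)) hv.1
        rwa [show u⁻¹ * v⁻¹ * u⁻¹⁻¹ * v = u⁻¹ * v⁻¹ * (u * v) by group] at this
      · have := (F.conj m).E.mul_mem ((F.conj m).E.inv_mem hu'.1) (hconjE v⁻¹ (inv_mem hv.2) _ hu'.1)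
        rwa [show u⁻¹ * (v⁻¹ * u * v⁻¹⁻¹) = u⁻¹ * v⁻¹ * (u * v) by group] at this
    · obtain ⟨u0, hu0, rfl⟩ := hu
      obtain ⟨v0, hv0, rfl⟩ := hv
      simp only [MulEquiv.coe_toMonoidHom, MulAut.conj_apply]
      rw [show (m * u0 * m⁻¹)⁻¹ * (m * v0 * m⁻¹)⁻¹ * (m * u0 * m⁻¹ * (m * v0 * m⁻¹)) =
        m * (u0⁻¹ * v0⁻¹ * u0 * v0) * m⁻¹ by group]
      rcases F.ctx.comm u0⁻¹ (inv_mem hu0.1) v0⁻¹ (inv_mem hv0.1) with e | e <;>
        rw [inv_inv, inv_inv] at e <;> rw [e]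
      · simp
      · exact hmz
  have hpair : R.pair m = Subgroup.closure ((R.CE : Set G) ∪ (B : Set G)) := by
    rw [Subgroup.closure_union, Subgroup.closure_eq, Subgroup.closure_eq]; rfl
  have hle : Subgroup.closure ((R.CE : Set G) ∪ (B : Set G)) ≤ F.duadK D := (Subgroup.closure_le _).2 hgen
  rw [hpair] at ha hb
  have step : ∀ u (hu : u ∈ (R.CE : Set G) ∪ (B : Set G)),
      Commute (π ⟨u, hgen u hu⟩) (π ⟨b, hle hb⟩) := by
    intro u hu
    have : ∀ s (hs : s ∈ Subgroup.closure ((R.CE : Set G) ∪ (B : Set G))),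
        Commute (π ⟨u, hgen u hu⟩) (π ⟨s, hle hs⟩) := by
      intro s hs
      induction hs using Subgroup.closure_induction with
      | mem v hv => exact pairwise u hu v hv
      | one =>
        rw [show (⟨1, hle (one_mem _)⟩ : ↥(F.duadK D)) = 1 from rfl, map_one]
        exact Commute.one_right _
      | mul v w hv hw ihv ihw =>
        rw [show (⟨v * w, hle (mul_mem hv hw)⟩ : ↥(F.duadK D)) = ⟨v, hle hv⟩ * ⟨w, hle hw⟩ from rfl, map_mul]
        exact ihv.mul_right ihw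
      | inv v hv ihv =>
        rw [show (⟨v⁻¹, hle (inv_mem hv)⟩ : ↥(F.duadK D)) = ⟨v, hle hv⟩⁻¹ from rfl, map_inv]
        exact ihv.inv_right
    exact this b hb
  have hcomm : Commute (π ⟨a, hle ha⟩) (π ⟨b, hle hb⟩) := by
    have : ∀ s (hs : s ∈ Subgroup.closure ((R.CE : Set G) ∪ (B : Set G))),
        Commute (π ⟨s, hle hs⟩) (π ⟨b, hle hb⟩) := by
      intro s hs
      induction hs using Subgroup.closure_induction with
      | mem v hv => exact step v hv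
      | one =>
        rw [show (⟨1, hle (one_mem _)⟩ : ↥(F.duadK D)) = 1 from rfl, map_one]
        exact Commute.one_left _
      | mul v w hv hw ihv ihw =>
        rw [show (⟨v * w, hle (mul_mem hv hw)⟩ : ↥(F.duadK D)) = ⟨v, hle hv⟩ * ⟨w, hle hw⟩ from rfl, map_mul]
        exact ihv.mul_left ihw
      | inv v hv ihv =>
        rw [show (⟨v⁻¹, hle (inv_mem hv)⟩ : ↥(F.duadK D)) = ⟨v, hle hv⟩⁻¹ from rfl, map_inv]
        exact ihv.inv_left
    exact this a ha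
  have h1 : π (⟨a, hle ha⟩ * ⟨b, hle hb⟩ * ⟨a, hle ha⟩⁻¹ * ⟨b, hle hb⟩⁻¹) = 1 := by
    simp only [map_mul, map_inv]
    rw [hcomm.eq, mul_inv_cancel_right, mul_inv_cancel]
  exact ((QuotientGroup.eq_one_iff _).1 h1 : _ ∈ Dk)

theorem comm_mem_Q {a b : G} (ha : a ∈ R.L) (hb : b ∈ R.L) : a * b * a⁻¹ * b⁻¹ ∈ F.duadQ D := by
  set k := a * b * a⁻¹ * b⁻¹
  have hyM := R.y_mem_M
  have hpy : F.p * R.y ∈ F.duadM D := mul_mem p_mem_duadM hyM
  have hne2 : F.p * R.y * F.z * (F.p * R.y)⁻¹ ≠ F.z := fun h => R.y_ne_z (by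
    calc R.y * F.z * R.y⁻¹ = F.p⁻¹ * (F.p * R.y * F.z * (F.p * R.y)⁻¹) * F.p := by group
      _ = F.z := by rw [h, mul_assoc, F.p_comm.symm.eq, inv_mul_cancel_left])
  have h1 := R.comm_mem_inter ha hb hyM R.y_ne_z
  have h2 := R.comm_mem_inter ha hb hpy hne2
  set j := F.p⁻¹ * k * F.p
  have hjE : j ∈ F.E := by simpa using F.conj_mem F.p_comm.inv_left h1.1
  have hj' : j ∈ (F.conj R.y).E := F.mem_conj_E.2 (by
    have := F.mem_conj_E.1 h2.2
    rwa [show R.y⁻¹ * (F.p⁻¹ * k * F.p) * R.y = (F.p * R.y)⁻¹ * k * (F.p * R.y) by group])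
  have hk : F.p * j * F.p⁻¹ = k := by show F.p * (F.p⁻¹ * k * F.p) * F.p⁻¹ = k; group
  have hline := (R.fused hyM R.y_ne_z).scalar_b.2 j ⟨hjE, hj'⟩ (by rw [hk]; exact h1)
  have hzQ : R.y * F.z * R.y⁻¹ ∈ F.duadQ D := R.conj_z_mem hyM
  have hjQ : j ∈ F.duadQ D := ⟨hjE, F.line_le (W := F.fixR D.Rd) hzQ.2 F.p_fixR hline⟩
  rw [← hk]
  exact (Subgroup.mem_normalizer_iff.1 p_mem_duadM j).1 hjQ

theorem sq_mem_Q {a : G} (ha : a ∈ R.L) : a * a ∈ F.duadQ D := by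
  set Qk := (F.duadQ D).subgroupOf R.L
  haveI : Qk.Normal := ⟨fun n hn g => by
    have := (Subgroup.mem_normalizer_iff.1 (duadK_le_M (R.L_le g.2)) n).1 hn
    exact this⟩
  set π := QuotientGroup.mk' Qk
  have hcomm : ∀ u v : ↥R.L, Commute (π u) (π v) := fun u v => by
    have h : π (u * v * u⁻¹ * v⁻¹) = 1 := (QuotientGroup.eq_one_iff _).2 (R.comm_mem_Q u.2 v.2)
    simp only [map_mul, map_inv] at h
    exact mul_inv_eq_iff_eq_mul.1 (mul_inv_eq_one.1 h)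
  have hsq : ∀ s (hs : s ∈ R.L), π ⟨s, hs⟩ * π ⟨s, hs⟩ = 1 := by
    intro s hs
    have hs' : s ∈ Subgroup.closure ((R.CE : Set G) ∪ (R.CE.map (MulAut.conj R.y).toMonoidHom : Set G)) := by
      rw [Subgroup.closure_union, Subgroup.closure_eq, Subgroup.closure_eq]
      exact hs
    have hle : Subgroup.closure ((R.CE : Set G) ∪ (R.CE.map (MulAut.conj R.y).toMonoidHom : Set G)) = R.L := by
      rw [Subgroup.closure_union, Subgroup.closure_eq, Subgroup.closure_eq]; rfl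
    induction hs' using Subgroup.closure_induction with
    | mem v hv =>
      rw [← map_mul]
      refine (QuotientGroup.eq_one_iff _).2 ?_
      show v * v ∈ F.duadQ D
      rcases hv with hv | ⟨v0, hv0, rfl⟩
      · rcases F.ctx.sq v hv.1 with e | e <;> rw [e]
        exacts [one_mem _, R.z_mem_Q]
      · simp only [MulEquiv.coe_toMonoidHom, MulAut.conj_apply]
        rw [show R.y * v0 * R.y⁻¹ * (R.y * v0 * R.y⁻¹) = R.y * (v0 * v0) * R.y⁻¹ by group]
        rcases F.ctx.sq v0 hv0.1 with e | e <;> rw [e]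
        · simp
        · exact R.conj_z_mem R.y_mem_M
    | one => rw [show (⟨1, hs⟩ : ↥R.L) = 1 from rfl, map_one, mul_one]
    | mul v w hv hw ihv ihw =>
      have hv' : v ∈ R.L := hle.le hv
      have hw' : w ∈ R.L := hle.le hw
      rw [show (⟨v * w, hs⟩ : ↥R.L) = ⟨v, hv'⟩ * ⟨w, hw'⟩ from rfl, map_mul,
        (hcomm ⟨w, hw'⟩ ⟨v, hv'⟩).mul_mul_mul_comm, ihv hv', ihw hw', mul_one]
    | inv v hv ihv =>
      have hv' : v ∈ R.L := hle.le hv
      rw [show (⟨v⁻¹, hs⟩ : ↥R.L) = ⟨v, hv'⟩⁻¹ from rfl, map_inv, ← mul_inv_rev, ihv hv', inv_one]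
  have h := hsq a ha
  rw [← map_mul] at h
  exact ((QuotientGroup.eq_one_iff _).1 h : _ ∈ Qk)

/-- The centre. -/
theorem mem_Q_of_central {a : G} (ha : a ∈ R.L) (hc : ∀ b ∈ R.L, Commute a b) : a ∈ F.duadQ D := by
  haveI : FiniteDimensional (ZMod 2) F.V := Module.Finite.of_finite
  obtain ⟨v, hv0, -, hU, -⟩ := R.exists_vec
  have haK := R.L_le ha
  set U := F.fixR D.Rd
  have hfix : ∀ w ∈ F.perp U, F.act a w = w := fun w hw => by
    obtain ⟨e, he, rfl⟩ := cls_surj F.ctx w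
    have heL : e ∈ R.L := R.CE_le_L (by rw [R.CE_eq]; exact ⟨he, hw⟩)
    rw [act_cls F.ctx (duadK_comm_z haK) he, (hc e heL).eq, mul_inv_cancel_right]
  by_cases haE : a ∈ F.E
  · refine ⟨haE, ?_⟩
    have h : F.cls a ∈ F.perp (F.perp U) := F.mem_perp.2 fun w hw => by
      obtain ⟨e, he, rfl⟩ := cls_surj F.ctx w
      have heL : e ∈ R.L := R.CE_le_L (by rw [R.CE_eq]; exact ⟨he, hw⟩)
      exact (B_cls F.ctx he haE).2 (hc e heL).symm
    rwa [F.perp_perp] at h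
  · exfalso
    have hI := R.img_K_mem haK
    have hne : F.img a ≠ 1 := fun h => haE (R.mem_E_of_img haK h)
    obtain ⟨c, -, -, -, hact, hrk⟩ := F.finrank_range_disp' (duadK_comm_z haK) hI hne (R.sq_mem_Q ha).1
    have hle : F.perp U ≤ F.fix a := fun w hw => F.mem_ker_disp.2 (hfix w hw)
    have h1 := Submodule.finrank_mono hle
    have h2 : finrank (ZMod 2) ↥(LinearMap.range (F.disp a)) + finrank (ZMod 2) ↥(F.fix a) = 12 :=
      (LinearMap.finrank_range_add_finrank_ker (F.disp a)).trans F.finrank_V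
    rw [F.finrank_perp, hU, F.finrank_line hv0] at h1
    have hdisp : F.disp c = F.disp a := LinearMap.ext fun u => by rw [disp_apply, disp_apply, hact]
    omega

end PentadPt

end Frame

end Cfsg.Lib.JankoFour
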