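import Mathlib.GroupTheory.Perm.Basic
import Mathlib.GroupTheory.OrderOfElement
import Mathlib.SetTheory.Cardinal.Finite

/-!
# Permutation data for `Aut M₂₂`

A faithful action on 24 points in which the subgroup of index two fixes two points, its involutions fix eight
points and its elements of order seven fix three.
-/

set_option autoImplicit false

namespace Cfsg.Lib.JankoFour

/-- The action on the 24 points. -/
structure PointData (A : Type) [Group A] (I : Subgroup A) where
  /-- The points. -/
  Pt : Type
  /-- The action. -/
  perm : A →* Equiv.Perm Pt
  injective : Function.Injective perm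
  /-- The first fixed point. -/
  a : Pt
  /-- The second fixed point. -/
  b : Pt
  ne : a ≠ b
  fixes : ∀ g ∈ I, perm g a = a ∧ perm g b = b
  card : Nat.card Pt = 24
  two : ∀ g ∈ I, orderOf g = 2 → Nat.card {o : Pt // perm g o = o} = 8
  seven : ∀ g ∈ I, orderOf g = 7 → Nat.card {o : Pt // perm g o = o} = 3

end Cfsg.Lib.JankoFour
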