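import Cfsg.Agent.Lib.JankoFourLocal.PentadSpecial
import Cfsg.Agent.Lib.JankoFourLocal.PointData
import Cfsg.Agent.Lib.JankoFour.SylowThree
import Mathlib.GroupTheory.Index
import Mathlib.GroupTheory.Perm.Cycle.Type

/-!
# A copy of `L₃(2)` in the normalizer of the special group

The centralizer of an element of order three of the copy of `Sym(5)` is a conjugate of a subgroup of the
centralizer of `π`, and acts on the 24 points; a point stabilizer is a central extension of `L₃(2)`.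
-/

set_option autoImplicit false
set_option linter.style.haveILetI false
set_option linter.unusedSectionVars false
set_option linter.unusedVariables false

namespace Cfsg.Lib.JankoFour

open Cfsg Cfsg.Lib.Extra Module
open scoped Pointwise commutatorElement

/-- A permutation of prime order without fixed points on an invariant set of points. -/
theorem dvd_card_of_invariant {α : Type*} [Fintype α] [DecidableEq α] {q : ℕ} [hq : Fact q.Prime]
    (σ : Equiv.Perm α) (hσ : σ ^ q = 1) (s : Finset α) (hs : ∀ x, σ x ∈ s ↔ x ∈ s)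
    (hfree : ∀ x ∈ s, σ x ≠ x) : q ∣ s.card := by
  let τ : Equiv.Perm {x // x ∈ s} := σ.subtypePerm hs
  have hτ : τ ^ q ^ 1 = 1 := by
    refine Equiv.ext fun ⟨x, hx⟩ => Subtype.ext ?_
    simp only [τ, pow_one, Equiv.Perm.subtypePerm_pow, Equiv.Perm.subtypePerm_apply, hσ, Equiv.Perm.one_apply]
  have h := Equiv.Perm.card_compl_support_modEq hτ
  have h0 : τ.supportᶜ = ∅ := Finset.eq_empty_of_forall_notMem fun x hx => by
    rw [Finset.mem_compl, Equiv.Perm.mem_support, not_not] at hx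
    exact hfree x x.2 (congrArg Subtype.val hx)
  rw [h0, Finset.card_empty, Fintype.card_coe] at h
  exact (Nat.modEq_zero_iff_dvd).1 h.symm

namespace Frame

variable {G : Type*} [Group G] [Finite G] {A : Type} [Group A] {I : Subgroup A}
variable {F : Frame G A I} {D : LocalData A I}

namespace PentadPt

variable (R : PentadPt F D)

theorem exists_three : ∃ X ∈ R.J, orderOf X = 3 := by
  obtain ⟨e⟩ := R.J_equiv
  haveI : Fact (Nat.Prime 3) := ⟨by norm_num⟩
  obtain ⟨c, hc⟩ := exists_prime_orderOf_dvd_card' (G := ↥R.J) 3 (by rw [R.card_J]; norm_num)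
  exact ⟨c, c.2, by rw [Subgroup.orderOf_coe, hc]⟩

/-- The centralizer in the normalizer of an element of order three of the copy of `Sym(5)`. -/
noncomputable def VX (R : PentadPt F D) (X : G) : Subgroup G :=
  F.duadM D ⊓ Subgroup.centralizer ({X} : Set G)

theorem mem_VX {X v : G} : v ∈ R.VX X ↔ v ∈ F.duadM D ∧ Commute v X := by
  rw [VX, Subgroup.mem_inf, Subgroup.mem_centralizer_singleton_iff]
  rfl

section
variable {X : G} (hX : X ∈ R.J) (hX3 : orderOf X = 3)
include hX hX3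

/-- The centralizer covers the quotient. -/
theorem VX_surj {q : ↥(F.duadM D) →* SLThree} (hq : Function.Surjective q)
    (hker : ∀ m : ↥(F.duadM D), q m = 1 ↔ (m : G) ∈ F.duadK D) :
    Function.Surjective (q.comp (Subgroup.inclusion (inf_le_left : R.VX X ≤ F.duadM D))) := by
  haveI := sl_three_simple
  haveI : Fact (Nat.Prime 3) := ⟨by norm_num⟩
  have hX3' : X ^ 3 = 1 := hX3 ▸ pow_orderOf_eq_one X
  have hXK := R.J_K hX
  have hfr : ∀ w : SLThree, ∃ n : ↥(F.duadM D), q n = w ∧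
      ((n : G) * X * (n : G)⁻¹ = X ∨ (n : G) * X * (n : G)⁻¹ = X⁻¹) := by
    intro w
    obtain ⟨m, rfl⟩ := hq w
    have hmX : (m : G) * X * (m : G)⁻¹ ∈ F.duadK D := duadK_conj m.2 hXK
    obtain ⟨k', i, hk⟩ := exists_conj_of_sq_not_dvd (K := ↥(F.duadK D)) (q := 3)
      (fun h => R.nine (by simpa using h)) (a := ⟨_, hmX⟩) (b := ⟨X, hXK⟩)
      (by
        rw [← Subgroup.orderOf_coe]
        exact (orderOf_injective (MulAut.conj (m : G)).toMonoidHom (MulAut.conj (m : G)).injective X).trans hX3)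
      (by rw [← Subgroup.orderOf_coe]; exact hX3)
    have hk' : (k' : G) * ((m : G) * X * (m : G)⁻¹) * (k' : G)⁻¹ = X ^ i := congrArg Subtype.val hk
    let kM : ↥(F.duadM D) := ⟨k', duadK_le_M k'.2⟩
    refine ⟨kM * m, by rw [map_mul, (hker kM).2 k'.2, one_mul], ?_⟩
    have e : ((kM * m : ↥(F.duadM D)) : G) * X * ((kM * m : ↥(F.duadM D)) : G)⁻¹ = X ^ i := by
      rw [← hk']
      simp only [Subgroup.coe_mul, kM]
      group
    rw [e]
    have hmod : X ^ i = X ^ (i % 3) := by rw [← hX3, pow_mod_orderOf]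
    rcases (show i % 3 = 0 ∨ i % 3 = 1 ∨ i % 3 = 2 by omega) with e0 | e0 | e0 <;> rw [e0] at hmod
    · exfalso
      rw [hmod, pow_zero] at e
      have h1 : X = 1 := conj_eq_one_iff.1 e
      rw [h1, orderOf_one] at hX3
      omega
    · exact Or.inl (by rw [hmod, pow_one])
    · exact Or.inr (by rw [hmod]; exact (inv_eq_of_mul_eq_one_right (by rw [← pow_succ']; exact hX3')).symm)
  set qV := q.comp (Subgroup.inclusion (inf_le_left : R.VX X ≤ F.duadM D))
  haveI hn : qV.range.Normal := by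
    refine ⟨fun u hu w => ?_⟩
    obtain ⟨n, rfl, hn⟩ := hfr w
    obtain ⟨v, rfl⟩ := hu
    have hvX := (R.mem_VX.1 v.2).2
    have hc : (n : G) * v * (n : G)⁻¹ ∈ R.VX X := by
      refine R.mem_VX.2 ⟨mul_mem (mul_mem n.2 (R.mem_VX.1 v.2).1) (inv_mem n.2), ?_⟩
      have h1 := hvX.map (MulAut.conj (n : G)).toMonoidHom
      simp only [MulEquiv.coe_toMonoidHom, MulAut.conj_apply] at h1
      rcases hn with h | h <;> rw [h] at h1
      exacts [h1, Commute.inv_right_iff.1 h1]
    refine ⟨⟨_, hc⟩, ?_⟩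
    show q ⟨(n : G) * v * (n : G)⁻¹, _⟩ = q n * q ⟨(v : G), _⟩ * (q n)⁻¹
    rw [← map_inv, ← map_mul, ← map_mul]
    rfl
  rw [← MonoidHom.range_eq_top]
  refine (IsSimpleGroup.eq_bot_or_eq_top_of_normal qV.range inferInstance).resolve_left fun hbot => ?_
  have hsq : ∀ w : SLThree, w * w = 1 := by
    intro w
    obtain ⟨n, rfl, hn⟩ := hfr w
    have hc : (n : G) * n ∈ R.VX X := by
      refine R.mem_VX.2 ⟨mul_mem n.2 n.2, mul_inv_eq_iff_eq_mul.1 ?_⟩
      calc (n : G) * n * X * ((n : G) * n)⁻¹ = (n : G) * ((n : G) * X * (n : G)⁻¹) * (n : G)⁻¹ := by group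
        _ = X := by
          rcases hn with h | h
          · rw [h, h]
          · rw [h, ← inv_inj, mul_inv_rev, mul_inv_rev, inv_inv, inv_inv, ← mul_assoc, h]
    have h1 : qV ⟨_, hc⟩ ∈ qV.range := ⟨_, rfl⟩
    rw [hbot, Subgroup.mem_bot] at h1
    rw [← map_mul]
    exact h1
  exact absurd (hsq cycleC) (by decide)

/-- The elements of the centralizer over the duad line. -/
theorem card_cent_K : ∃ n, 8 ≤ n ∧ n ≡ 1 [MOD 7] ∧ (∃ a, n = 2 ^ a) ∧
    Nat.card ↥(F.duadK D ⊓ Subgroup.centralizer ({X} : Set G)) = n * 6 := by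
  classical
  haveI : Fact (Nat.Prime 7) := ⟨by norm_num⟩
  haveI : Fact (Nat.Prime 2) := ⟨Nat.prime_two⟩
  have hXK := R.J_K hX
  set T := R.L ⊓ Subgroup.centralizer ({X} : Set G) with hT
  set U := R.J ⊓ Subgroup.centralizer ({X} : Set G) with hU
  have hQT : F.duadQ D ≤ T := fun a ha =>
    ⟨R.Q_le_L ha, Subgroup.mem_centralizer_singleton_iff.2 (mem_duadK.1 hXK a ha).symm.eq⟩
  refine ⟨Nat.card ↥T, ?_, ?_, ?_, ?_⟩
  · rw [← R.toFivePt.card_duadQ]
    exact Subgroup.card_le_of_le hQT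
  · by_contra hmod
    have hn : R.y ∈ Subgroup.normalizer (T : Set G) := mem_normalizer_of_conj fun a ha => by
      refine ⟨R.L_conj R.y_mem_M ha.1, Subgroup.mem_centralizer_singleton_iff.2 ?_⟩
      have hxy : Commute X R.y := R.J_y X hX
      have h1 : Commute a X := Subgroup.mem_centralizer_singleton_iff.1 ha.2
      exact ((hxy.symm.mul_left h1).mul_left hxy.symm.inv_left).eq
    obtain ⟨e, he, he1, hey⟩ := exists_commute_of_mod R.y_ord hn hmod
    obtain ⟨i, j, hj, rfl⟩ := R.y_split e hey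
    refine he1 ?_
    have hyi : (R.y ^ i) ∈ F.duadK D := by
      have := mul_mem (R.L_le he.1) (inv_mem (R.J_K hj))
      rwa [mul_inv_cancel_right] at this
    have h7 : R.y ^ i = 1 := by
      by_contra hne
      have ho : orderOf (R.y ^ i) = 7 := orderOf_eq_prime (by
        have hy7 : R.y ^ 7 = 1 := by rw [← R.y_ord]; exact pow_orderOf_eq_one _
        rw [← pow_mul, mul_comm, pow_mul, hy7, one_pow]) hne
      exact R.toFivePt.not_seven_cent ho (mem_duadK.1 hyi)
    rw [h7, one_mul] at he ⊢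
    exact (Subgroup.mem_bot).1 (R.L_inf_J ▸ (⟨he.1, hj⟩ : j ∈ R.L ⊓ R.J))
  · obtain ⟨k, -, hk⟩ := (Nat.dvd_prime_pow Nat.prime_two).1
      (R.card_L ▸ Subgroup.card_dvd_of_le (inf_le_left : T ≤ R.L))
    exact ⟨k, hk⟩
  · obtain ⟨e⟩ := R.J_equiv
    have hU6 : Nat.card ↥U = 6 := by
      rw [← card_cent_three_of_equiv e (g := ⟨X, hX⟩) (by rw [← Subgroup.orderOf_coe]; exact hX3)]
      refine Nat.card_congr (Equiv.ofBijective (fun u : ↥U => (⟨⟨u, u.2.1⟩,
        Subgroup.mem_centralizer_singleton_iff.2 (Subtype.ext (Subgroup.mem_centralizer_singleton_iff.1 u.2.2))⟩ :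
          ↥(Subgroup.centralizer ({⟨X, hX⟩} : Set ↥R.J)))) ⟨fun a b h => Subtype.ext ?_, ?_⟩)
      · exact congrArg (fun w : ↥(Subgroup.centralizer ({⟨X, hX⟩} : Set ↥R.J)) => ((w : ↥R.J) : G)) h
      · rintro ⟨⟨u, hu⟩, hc⟩
        exact ⟨⟨u, hu, Subgroup.mem_centralizer_singleton_iff.2
          (congrArg Subtype.val (Subgroup.mem_centralizer_singleton_iff.1 hc))⟩, rfl⟩
    rw [← hU6, ← Nat.card_prod]
    refine (Nat.card_congr (Equiv.ofBijective (fun q : ↥T × ↥U =>
      (⟨(q.1 : G) * q.2, mul_mem (R.L_le q.1.2.1) (R.J_K q.2.2.1), mul_mem q.1.2.2 q.2.2.2⟩ :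
        ↥(F.duadK D ⊓ Subgroup.centralizer ({X} : Set G)))) ⟨fun a b h => ?_, ?_⟩)).symm
    · have h' : (a.1 : G) * a.2 = b.1 * b.2 := congrArg Subtype.val h
      have h1 : (b.1 : G)⁻¹ * a.1 = b.2 * (a.2 : G)⁻¹ := by
        rw [eq_mul_inv_iff_mul_eq, mul_assoc, h', inv_mul_cancel_left]
      have h2 : (b.1 : G)⁻¹ * a.1 ∈ R.L ⊓ R.J :=
        ⟨R.L.mul_mem (R.L.inv_mem b.1.2.1) a.1.2.1, h1 ▸ R.J.mul_mem b.2.2.1 (R.J.inv_mem a.2.2.1)⟩
      rw [R.L_inf_J, Subgroup.mem_bot, inv_mul_eq_one] at h2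
      exact Prod.ext (Subtype.ext h2.symm) (Subtype.ext (mul_left_cancel (h2 ▸ h')))
    · rintro ⟨k, hk, hkX⟩
      obtain ⟨l, hl, j, hj, rfl⟩ := R.K_split.2 k hk
      have hkX' : Commute (l * j) X := Subgroup.mem_centralizer_singleton_iff.1 hkX
      have h1 : j * X * j⁻¹ * X⁻¹ ∈ R.L ⊓ R.J := by
        refine ⟨?_, R.J.mul_mem (R.J.mul_mem (R.J.mul_mem hj hX) (R.J.inv_mem hj)) (R.J.inv_mem hX)⟩
        have e : j * X * j⁻¹ = l⁻¹ * X * l := by
          calc j * X * j⁻¹ = l⁻¹ * (l * j * X * (l * j)⁻¹) * l := by group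
            _ = _ := by rw [hkX'.eq, mul_inv_cancel_right]
        rw [e, mul_assoc (l⁻¹ * X), mul_assoc l⁻¹, ← mul_assoc X]
        exact R.L.mul_mem (R.L.inv_mem hl) (R.L_conj (duadK_le_M hXK) hl)
      rw [R.L_inf_J, Subgroup.mem_bot, mul_inv_eq_one, mul_inv_eq_iff_eq_mul] at h1
      have hjX : Commute j X := h1
      have hlX : Commute l X := by
        have := hkX'.mul_left hjX.inv_left
        rwa [mul_inv_cancel_right] at this
      exact ⟨(⟨l, hl, Subgroup.mem_centralizer_singleton_iff.2 hlX.eq⟩,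
        ⟨j, hj, Subgroup.mem_centralizer_singleton_iff.2 hjX.eq⟩), rfl⟩

end

include R in
/-- The copy of `L₃(2)`. -/
theorem exists_sl_three (P : PointData A I) (hres : Cfsg.pResidual 2 G = ⊤) :
    ∃ K₂ : Subgroup G, K₂ ≤ F.duadM D ∧ Nonempty (↥K₂ ≃* SLThree) := by
  classical
  haveI := F.finite_A
  haveI := sl_three_simple
  haveI : Fact (Nat.Prime 7) := ⟨by norm_num⟩
  haveI : Fact (Nat.Prime 2) := ⟨Nat.prime_two⟩
  haveI : Finite P.Pt := Nat.finite_of_card_ne_zero (by rw [P.card]; norm_num)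
  haveI : Fintype P.Pt := Fintype.ofFinite _
  obtain ⟨X, hX, hX3⟩ := R.exists_three
  obtain ⟨t, ht⟩ := isConj_iff.1 (F.isConj_p hres hX3)
  obtain ⟨q, hq, hker, -⟩ := R.toFivePt.exists_quot
  set V := R.VX X with hV
  have hVM : V ≤ F.duadM D := fun v hv => (R.mem_VX.1 hv).1
  set qV : ↥V →* SLThree := q.comp (Subgroup.inclusion hVM)
  have hqV : Function.Surjective qV := R.VX_surj hX hX3 hq hker
  have hkerV : ∀ v : ↥V, qV v = 1 ↔ (v : G) ∈ F.duadK D := fun v => hker _
  have hXt : t⁻¹ * X * t = F.p := by rw [← ht]; group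
  have hC : ∀ v ∈ V, t⁻¹ * v * t ∈ F.C := fun v hv => by
    have h : Commute (t⁻¹ * v * t) F.p := by
      have := (R.mem_VX.1 hv).2.map (MulAut.conj t⁻¹).toMonoidHom
      simp only [MulEquiv.coe_toMonoidHom, MulAut.conj_apply, inv_inv] at this
      rwa [hXt] at this
    exact F.mem_C.2 ⟨F.commute_z_of_commute_p hres h, h⟩
  let cV : ↥V →* ↥F.C := MonoidHom.codRestrict ((MulAut.conj t⁻¹).toMonoidHom.comp V.subtype) F.C fun v => by
    simpa using hC v v.2
  have hcV : ∀ v : ↥V, ((cV v : ↥F.C) : G) = t⁻¹ * v * t := fun v => by simp [cV]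
  have hcinj : Function.Injective cV := fun u v h => by
    have := congrArg Subtype.val h
    rw [hcV, hcV] at this
    exact Subtype.ext (mul_left_cancel (mul_right_cancel this))
  -- the order
  obtain ⟨n, hn8, hn7, ⟨a, rfl⟩, hnK⟩ := R.card_cent_K hX hX3
  have hkcard : Nat.card ↥qV.ker = 2 ^ a * 6 := by
    rw [← hnK]
    refine Nat.card_congr (Equiv.ofBijective (fun v : ↥qV.ker => (⟨((v : ↥V) : G), (hkerV _).1 v.2,
      (v : ↥V).2.2⟩ : ↥(F.duadK D ⊓ Subgroup.centralizer ({X} : Set G))))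
      ⟨fun u v h => Subtype.ext (Subtype.ext (congrArg Subtype.val h :)), ?_⟩)
    rintro ⟨k, hk, hkX⟩
    exact ⟨⟨⟨k, duadK_le_M hk, hkX⟩, (hkerV ⟨k, _⟩).2 hk⟩, rfl⟩
  have hVcard : Nat.card ↥V = 168 * (2 ^ a * 6) := by
    have h := qV.ker.index_mul_card
    rw [Subgroup.index_ker, MonoidHom.range_eq_top.2 hqV, Subgroup.card_top, card_sl_three, hkcard] at h
    exact h.symm
  have ha3 : a = 3 := by
    have hd : Nat.card ↥V ∣ 6 * 443520 :=
      F.card_C ▸ Subgroup.card_dvd_of_injective cV hcinj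
    rw [hVcard] at hd
    have ha : a ≤ 4 := by
      have : 2 ^ a ∣ 2640 := by
        have h' : 168 * 6 * 2 ^ a ∣ 168 * 6 * 2640 := by
          rw [show 168 * 6 * 2640 = 6 * 443520 by norm_num, mul_assoc, mul_comm 6]; exact hd
        exact (Nat.mul_dvd_mul_iff_left (by norm_num)).1 h'
      by_contra hlt
      have := (pow_dvd_pow 2 (show 5 ≤ a by omega)).trans this
      norm_num at this
    interval_cases a <;> simp_all (config := { decide := true })
  subst ha3
  -- the action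
  let im : ↥V →* A := F.imgC.comp cV
  let θ : ↥V →* Equiv.Perm P.Pt := P.perm.comp im
  have him : ∀ v, im v ∈ I := fun v => F.imgC_range ▸ ⟨cV v, rfl⟩
  have him' : ∀ v, im v = F.img (t⁻¹ * v * t) := fun v => by rw [← hcV]; rfl
  have hfixa : ∀ v, θ v P.a = P.a ∧ θ v P.b = P.b := fun v => P.fixes _ (him v)
  have hXV : X ∈ V := R.mem_VX.2 ⟨duadK_le_M (R.J_K hX), Commute.refl X⟩
  have hyV : R.y ∈ V := R.mem_VX.2 ⟨R.y_mem_M, (R.J_y X hX).symm⟩
  have hXK := R.J_K hX
  set z' := t * F.z * t⁻¹ with hz'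
  have hz'X : ∀ v ∈ V, Commute z' v := fun v hv => by
    have h := ((F.mem_C.1 (hC v hv)).1.map (MulAut.conj t).toMonoidHom).symm
    simp only [MulEquiv.coe_toMonoidHom, MulAut.conj_apply] at h
    rwa [show t * (t⁻¹ * v * t) * t⁻¹ = v by group] at h
  have hQV : ∀ {e}, e ∈ F.duadQ D → e ∈ V := fun {e} he =>
    R.mem_VX.2 ⟨Subgroup.le_normalizer he, (mem_duadK.1 hXK e he).symm⟩
  have hz'K : z' ∈ F.duadK D := mem_duadK.2 fun e he => hz'X e (hQV he)
  have hz'V : z' ∈ V := R.mem_VX.2 ⟨duadK_le_M hz'K, hz'X X hXV⟩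
  have hz'2 : z' * z' = 1 := by
    rw [hz', show t * F.z * t⁻¹ * (t * F.z * t⁻¹) = t * (F.z * F.z) * t⁻¹ by group, F.ctx.sq_z, mul_one,
      mul_inv_cancel]
  have hQinj : ∀ {e}, ∀ he : e ∈ F.duadQ D, θ ⟨e, hQV he⟩ = 1 → e = 1 := by
    intro e he h
    have h1 : im ⟨e, hQV he⟩ = 1 := P.injective (by rw [map_one]; exact h)
    rw [him'] at h1
    rcases F.ker_C_sq (hC e (hQV he)) h1 (Or.inl (by
      rw [show t⁻¹ * e * t * (t⁻¹ * e * t) = t⁻¹ * (e * e) * t by group, R.toFivePt.duadQ_sq he, mul_one,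
        inv_mul_cancel])) with e1 | e1
    · exact conj_eq_one_iff.1 (show t⁻¹ * e * t⁻¹⁻¹ = 1 by rwa [inv_inv])
    · have hez : e = z' := by rw [hz', ← e1]; group
      exact R.toFivePt.fix_eq_one R.y_mem R.y_ord R.y_norm he (hez ▸ hz'X R.y hyV)
  have hQord : ∀ {e}, ∀ he : e ∈ F.duadQ D, e ≠ 1 → orderOf (im ⟨e, hQV he⟩) = 2 := fun {e} he h1 => by
    refine orderOf_eq_prime ?_ fun h => h1 (hQinj he (by show P.perm _ = 1; rw [h, map_one]))
    rw [pow_two, ← map_mul]
    exact map_one im ▸ congrArg im (Subtype.ext (R.toFivePt.duadQ_sq he))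
  set y' : ↥V := ⟨R.y, hyV⟩
  have hyQ : ∀ {e}, e ∈ F.duadQ D → R.y * e * R.y⁻¹ ∈ F.duadQ D := fun {e} he =>
    (Subgroup.mem_normalizer_iff.1 R.y_mem_M e).1 he
  have hy7' : y' ^ 7 = 1 := Subtype.ext (by
    show R.y ^ 7 = 1
    rw [← R.y_ord]; exact pow_orderOf_eq_one _)
  have hy1 : im y' ≠ 1 := fun h => by
    have key : ∀ e ∈ F.duadQ D, Commute e R.y := fun e he => by
      have hd : R.y * e * R.y⁻¹ * e⁻¹ ∈ F.duadQ D := (F.duadQ D).mul_mem (hyQ he) ((F.duadQ D).inv_mem he)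
      have h0 : θ ⟨_, hQV hd⟩ = 1 := by
        rw [show (⟨_, hQV hd⟩ : ↥V) = y' * ⟨e, hQV he⟩ * y'⁻¹ * ⟨e, hQV he⟩⁻¹ from rfl]
        show P.perm (im _) = 1
        simp [map_mul, h]
      exact (mul_inv_eq_iff_eq_mul.1 (mul_inv_eq_one.1 (hQinj hd h0))).symm
    exact F.ctx.ne_one (R.toFivePt.fix_eq_one R.y_mem R.y_ord R.y_norm R.z_mem_Q (key _ R.z_mem_Q))
  have hy7 : orderOf (im y') = 7 := orderOf_eq_prime (by rw [← map_pow, hy7', map_one]) hy1
  set σ := θ y'
  have h3 : Nat.card {o : P.Pt // σ o = o} = 3 := P.seven _ (him _) hy7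
  set Fy : Finset P.Pt := Finset.univ.filter fun o => σ o = o with hFy
  have hFy3 : Fy.card = 3 := by
    rw [← h3, Nat.card_eq_fintype_card, Fintype.card_subtype]
  obtain ⟨o, hoF, hoab⟩ : ∃ o ∈ Fy, o ∉ ({P.a, P.b} : Finset P.Pt) :=
    Finset.not_subset.1 fun h => by
      have := Finset.card_le_card h
      rw [hFy3, Finset.card_pair P.ne] at this
      omega
  have ho : σ o = o := (Finset.mem_filter.1 hoF).2
  have hoa : o ≠ P.a := fun h => hoab (by simp [h])
  have hob : o ≠ P.b := fun h => hoab (by simp [h])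
  -- the stabilizer meets the elements over the duad line trivially
  have hstab : ∀ e, ∀ he : e ∈ F.duadQ D, θ ⟨e, hQV he⟩ o = o → e = 1 := by
    intro e he hfix
    by_contra he1
    have hall : ∀ d, ∀ hd : d ∈ F.duadQ D, θ ⟨d, hQV hd⟩ o = o := by
      intro d hd
      by_cases hd1 : d = 1
      · subst hd1
        rw [show (⟨1, hQV hd⟩ : ↥V) = 1 from rfl, map_one, Equiv.Perm.one_apply]
      obtain ⟨i, hi⟩ := R.toFivePt.orbit_seven R.y_mem R.y_ord R.y_norm he he1 hd hd1
      have hpi : θ (y' ^ i) o = o := by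
        rw [map_pow]
        clear hi
        induction i with
        | zero => rfl
        | succ i ih => rw [pow_succ, Equiv.Perm.mul_apply, ho, ih]
      rw [show (⟨d, hQV hd⟩ : ↥V) = y' ^ i * ⟨e, hQV he⟩ * (y' ^ i)⁻¹ from Subtype.ext hi.symm, map_mul, map_mul,
        map_inv, Equiv.Perm.mul_apply, Equiv.Perm.mul_apply, Equiv.Perm.inv_eq_iff_eq.2 hpi.symm, hfix, hpi]
    let ρ : ↥(F.duadQ D) →* Equiv.Perm P.Pt := θ.comp (Subgroup.inclusion fun d hd => hQV hd)
    letI : MulAction ↥(F.duadQ D) P.Pt := MulAction.compHom P.Pt ρ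
    set Fx : Finset P.Pt := Finset.univ.filter fun u => ∀ d : ↥(F.duadQ D), ρ d u = u with hFx
    have hmemFx : ∀ {u}, u ∈ Fx ↔ ∀ d : ↥(F.duadQ D), ρ d u = u := fun {u} => by simp [hFx]
    have heven : 2 ∣ Fx.card := by
      have h := (IsPGroup.of_card (n := 3) (by rw [R.toFivePt.card_duadQ]; norm_num) :
        IsPGroup 2 ↥(F.duadQ D)).card_modEq_card_fixedPoints (α := P.Pt)
      rw [P.card] at h
      have hc : Nat.card ↥(MulAction.fixedPoints ↥(F.duadQ D) P.Pt) = Fx.card := by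
        rw [← Fintype.card_coe, ← Nat.card_eq_fintype_card]
        exact Nat.card_congr (Equiv.subtypeEquivRight fun u => hmemFx.symm)
      rw [hc] at h
      have h' : 24 % 2 = Fx.card % 2 := h
      omega
    have hle : Fx.card ≤ 8 := by
      have h8 := P.two _ (him ⟨e, hQV he⟩) (hQord he he1)
      rw [← h8, Nat.card_eq_fintype_card, Fintype.card_subtype]
      exact Finset.card_le_card fun u hu => Finset.mem_filter.2 ⟨Finset.mem_univ u, hmemFx.1 hu ⟨e, he⟩⟩
    have hFyx : Fy = {P.a, P.b, o} := by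
      symm
      refine Finset.eq_of_subset_of_card_le ?_ ?_
      · intro u hu
        simp only [Finset.mem_insert, Finset.mem_singleton] at hu
        refine Finset.mem_filter.2 ⟨Finset.mem_univ u, ?_⟩
        rcases hu with rfl | rfl | rfl
        exacts [(hfixa _).1, (hfixa _).2, ho]
      · rw [hFy3, Finset.card_insert_of_notMem (by simp [P.ne, hoa.symm]), Finset.card_pair hob.symm]
    have hFysub : Fy ⊆ Fx := fun u hu => hmemFx.2 fun d => by
      rw [hFyx] at hu
      simp only [Finset.mem_insert, Finset.mem_singleton] at hu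
      rcases hu with rfl | rfl | rfl
      exacts [(hfixa _).1, (hfixa _).2, hall d d.2]
    have hinv : ∀ u ∈ Fx, σ u ∈ Fx := fun u hu => hmemFx.2 fun d => by
      have hd' : R.y⁻¹ * d * R.y ∈ F.duadQ D := by
        simpa using (Subgroup.mem_normalizer_iff.1 (inv_mem R.y_mem_M) (d : G)).1 d.2
      have h1 : (⟨(d : G), hQV d.2⟩ : ↥V) * y' = y' * ⟨_, hQV hd'⟩ := Subtype.ext (by
        show (d : G) * R.y = R.y * (R.y⁻¹ * d * R.y)
        group)
      have h2 : θ ⟨_, hQV hd'⟩ u = u := hmemFx.1 hu ⟨_, hd'⟩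
      show θ ⟨(d : G), hQV d.2⟩ (θ y' u) = θ y' u
      rw [← Equiv.Perm.mul_apply, ← map_mul, h1, map_mul, Equiv.Perm.mul_apply, h2]
    have himg : Fx.image σ = Fx := Finset.eq_of_subset_of_card_le
      (fun v hv => by obtain ⟨u, hu, rfl⟩ := Finset.mem_image.1 hv; exact hinv u hu)
      (by rw [Finset.card_image_of_injective _ σ.injective])
    have hiff : ∀ u, σ u ∈ Fx ↔ u ∈ Fx := fun u => ⟨fun h => by
      rw [← himg, Finset.mem_image] at h
      obtain ⟨w, hw, hwu⟩ := h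
      exact σ.injective hwu ▸ hw, hinv u⟩
    have h7 := dvd_card_of_invariant (q := 7) σ (by rw [← map_pow, hy7', map_one]) (Fx \ Fy) (fun u => by
        simp only [Finset.mem_sdiff, hiff, hFy, Finset.mem_filter, Finset.mem_univ, true_and,
          EmbeddingLike.apply_eq_iff_eq])
      fun u hu h => (Finset.mem_sdiff.1 hu).2 (Finset.mem_filter.2 ⟨Finset.mem_univ u, h⟩)
    rw [Finset.card_sdiff_of_subset hFysub, hFy3] at h7
    have hge := Finset.card_le_card hFysub
    omega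
  letI : MulAction ↥V P.Pt := MulAction.compHom P.Pt θ
  set S := MulAction.stabilizer ↥V o with hS
  have hmemS : ∀ v : ↥V, v ∈ S ↔ θ v o = o := fun v => MulAction.mem_stabilizer_iff
  have horb : S.index ≤ 22 := by
    rw [MulAction.index_stabilizer, Set.ncard_eq_toFinset_card']
    refine (Finset.card_le_card (t := ({P.a, P.b} : Finset P.Pt)ᶜ) fun u hu => ?_).trans ?_
    · obtain ⟨v, rfl⟩ := Set.mem_toFinset.1 hu
      simp only [Finset.mem_compl, Finset.mem_insert, Finset.mem_singleton]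
      rintro (h | h)
      · exact hoa ((θ v).injective (h.trans (hfixa v).1.symm))
      · exact hob ((θ v).injective (h.trans (hfixa v).2.symm))
    · rw [Finset.card_compl, Finset.card_pair P.ne, ← Nat.card_eq_fintype_card, P.card]
  have hScard : 367 ≤ Nat.card ↥S := by
    have h := S.index_mul_card
    rw [hVcard] at h
    have h' := Nat.mul_le_mul_right (Nat.card ↥S) horb
    omega
  set φ := qV.comp S.subtype
  have hkle : Nat.card ↥φ.ker ≤ 6 := by
    let f : ↥φ.ker × ↥(F.duadQ D) → ↥qV.ker := fun u => ⟨((u.1 : ↥S) : ↥V) * ⟨(u.2 : G), hQV u.2.2⟩,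
      qV.ker.mul_mem u.1.2 ((hkerV _).2 (R.Q_le_K u.2.2))⟩
    have hf : Function.Injective f := by
      intro u v h
      have h' : ((u.1 : ↥S) : ↥V) * ⟨(u.2 : G), hQV u.2.2⟩ = ((v.1 : ↥S) : ↥V) * ⟨(v.2 : G), hQV v.2.2⟩ :=
        congrArg Subtype.val h
      have hd : (u.2 : G) * (v.2 : G)⁻¹ ∈ F.duadQ D := mul_mem u.2.2 (inv_mem v.2.2)
      have hd' : (⟨_, hQV hd⟩ : ↥V) = ((u.1 : ↥S) : ↥V)⁻¹ * ((v.1 : ↥S) : ↥V) := by
        rw [eq_inv_mul_iff_mul_eq, ← mul_inv_eq_iff_eq_mul.2 h', mul_assoc]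
        rfl
      have h1 := hstab _ hd ((hmemS _).1 (hd' ▸ S.mul_mem (S.inv_mem (u.1 : ↥S).2) (v.1 : ↥S).2))
      have e2 : u.2 = v.2 := Subtype.ext (mul_inv_eq_one.1 h1)
      rw [e2] at h'
      exact Prod.ext (Subtype.ext (Subtype.ext (mul_right_cancel h'))) e2
    have := Nat.card_le_card_of_injective f hf
    rw [Nat.card_prod, hkcard, R.toFivePt.card_duadQ] at this
    omega
  have hz'S : (⟨z', hz'V⟩ : ↥V) ∈ S := (hmemS _).2 (by
    show P.perm (im _) o = o
    rw [him', show t⁻¹ * z' * t = F.z by rw [hz']; group, F.img_mem F.ctx.mem, map_one, Equiv.Perm.one_apply])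
  have hXS : (⟨X, hXV⟩ : ↥V) ∈ S := (hmemS _).2 (by
    show P.perm (im _) o = o
    rw [him', hXt, F.img_p, map_one, Equiv.Perm.one_apply])
  let w : ↥S := ⟨⟨z', hz'V⟩, hz'S⟩ * ⟨⟨X, hXV⟩, hXS⟩
  have hwk : w ∈ φ.ker := by
    show qV (⟨z', hz'V⟩ * ⟨X, hXV⟩) = 1
    rw [map_mul, (hkerV ⟨z', hz'V⟩).2 hz'K, (hkerV ⟨X, hXV⟩).2 hXK, mul_one]
  have hwc : ∀ s : ↥S, Commute w s := fun s => by
    refine Subtype.ext (Subtype.ext ?_)
    exact ((hz'X _ (s : ↥V).2).mul_left (R.mem_VX.1 (s : ↥V).2).2.symm).eq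
  have hw : orderOf w = 6 := by
    rw [← orderOf_injective S.subtype S.subtype_injective, ← orderOf_injective V.subtype V.subtype_injective]
    show orderOf (z' * X) = 6
    rw [(hz'X X hXV).orderOf_mul_eq_mul_orderOf_of_coprime]
    · rw [hX3, orderOf_eq_prime (p := 2) (by rw [pow_two, hz'2]) fun h => F.ctx.ne_one (conj_eq_one_iff.1 h)]
    · rw [hX3, orderOf_eq_prime (p := 2) (by rw [pow_two, hz'2]) fun h => F.ctx.ne_one (conj_eq_one_iff.1 h)]
      norm_num
  have hkereq : Subgroup.zpowers w = φ.ker := Subgroup.eq_of_le_of_card_ge (Subgroup.zpowers_le.2 hwk)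
    (by rw [Nat.card_zpowers, hw]; exact hkle)
  have hφ : Function.Surjective φ := by
    rw [← MonoidHom.range_eq_top]
    have h := φ.ker.index_mul_card
    rw [Subgroup.index_ker] at h
    have hidx := φ.range.index_mul_card
    rw [card_sl_three] at hidx
    have hr : 62 ≤ Nat.card ↥φ.range := by
      have := Nat.mul_le_mul_left (Nat.card ↥φ.range) hkle
      omega
    have hi2 : φ.range.index ≤ 2 := by
      by_contra hlt
      have := Nat.mul_le_mul_right (Nat.card ↥φ.range) (show 3 ≤ φ.range.index by omega)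
      omega
    rcases (show φ.range.index = 0 ∨ φ.range.index = 1 ∨ φ.range.index = 2 by omega) with e | e | e
    · rw [e, zero_mul] at hidx; omega
    · exact Subgroup.index_eq_one.1 e
    · exfalso
      haveI := Subgroup.normal_of_index_eq_two e
      rcases IsSimpleGroup.eq_bot_or_eq_top_of_normal φ.range inferInstance with h' | h'
      · rw [h', Subgroup.card_bot] at hr; omega
      · rw [h', Subgroup.index_top] at e; omega
  obtain ⟨e⟩ := exists_sl_lift φ hφ (fun k hk s => by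
      rw [← hkereq] at hk
      obtain ⟨i, rfl⟩ := Subgroup.mem_zpowers_iff.1 hk
      exact (hwc s).zpow_left i)
    (fun k hk => by
      rw [← hkereq] at hk
      exact orderOf_dvd_iff_pow_eq_one.1 (hw ▸ (Nat.card_zpowers w ▸ Subgroup.orderOf_dvd_natCard _ hk)))
    fun s hs => by
      have hk : s * s ∈ φ.ker := by rw [MonoidHom.mem_ker, map_mul, hs]
      rw [← hkereq] at hk
      obtain ⟨i, hi⟩ := Subgroup.mem_zpowers_iff.1 hk
      have h6 : (s * s) ^ 6 = 1 := by
        rw [← orderOf_dvd_iff_pow_eq_one, ← hw]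
        exact Nat.card_zpowers w ▸ Subgroup.orderOf_dvd_natCard _ (hi ▸ Subgroup.zpow_mem _ (Subgroup.mem_zpowers w) i)
      set u : G := ((((s * s) ^ 3 : ↥S) : ↥V) : G) with hu
      have hu2 : u * u = 1 := by
        rw [hu]
        exact congrArg (fun g : ↥S => ((g : ↥V) : G)) (show (s * s) ^ 3 * (s * s) ^ 3 = 1 by rw [← pow_add, h6])
      have hucase : u = 1 ∨ u = z' := by
        have e3 : u = (z' * X) ^ (i * 3) := by
          rw [hu, ← hi, ← zpow_natCast (w ^ i) 3, ← zpow_mul]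
          push_cast
          rfl
        rw [(hz'X X hXV).mul_zpow] at e3
        have hX' : X ^ (i * 3) = 1 := by
          rw [mul_comm, zpow_mul, zpow_ofNat, ← hX3, pow_orderOf_eq_one, one_zpow]
        rw [hX', mul_one] at e3
        rcases Int.emod_two_eq_zero_or_one (i * 3) with hp | hp
        · left
          rw [e3, ← Int.emod_add_mul_ediv (i * 3) 2, hp, zero_add, zpow_mul, zpow_two, hz'2, one_zpow]
        · right
          rw [e3, ← Int.emod_add_mul_ediv (i * 3) 2, hp, zpow_add, zpow_one, zpow_mul, zpow_two, hz'2, one_zpow,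
            mul_one]
      set r : G := t⁻¹ * (((s ^ 3 : ↥S) : ↥V) : G) * t with hr
      have hrC : r ∈ F.C := hC _ ((s ^ 3 : ↥S) : ↥V).2
      have hrr : r * r = t⁻¹ * u * t := by
        rw [hr, hu, show (s * s) ^ 3 = s ^ 3 * s ^ 3 from (Commute.refl s).mul_pow 3]
        simp only [Subgroup.coe_mul]
        group
      have h1 := F.sq_one hres hrC (by
        rcases hucase with e | e <;> rw [hrr, e]
        · exact Or.inl (by group)
        · exact Or.inr (by rw [hz']; group))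
      rw [hrr] at h1
      have hu1 : u = 1 := conj_eq_one_iff.1 (show t⁻¹ * u * t⁻¹⁻¹ = 1 by rwa [inv_inv])
      exact Subtype.ext (Subtype.ext hu1)
  let ι : ↥S →* G := V.subtype.comp S.subtype
  have hι : Function.Injective ι := V.subtype_injective.comp S.subtype_injective
  refine ⟨(commutator ↥S).map ι, ?_, ⟨((commutator ↥S).equivMapOfInjective ι hι).symm.trans e⟩⟩
  rintro _ ⟨s, -, rfl⟩
  exact (R.mem_VX.1 (s : ↥V).2).1

end PentadPt

end Frame

end Cfsg.Lib.JankoFour
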