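import Cfsg.Agent.Lib.JankoFourLocal.PentadCore
import Cfsg.Agent.Lib.PGroup.Basic
import Cfsg.Prelude.Def_Transfer
import Mathlib.GroupTheory.Complement

/-!
# The normalizer of the special group of order `2¹⁵`

The group is special, its normalizer induces `Sym(5) × L₃(2)` on it, and the extension does not split.
-/

set_option autoImplicit false
set_option linter.style.haveILetI false
set_option linter.unusedSectionVars false
set_option linter.unusedVariables false

namespace Cfsg.Lib.JankoFour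

open Cfsg Cfsg.Lib.Extra Module
open scoped Pointwise commutatorElement

namespace Frame

variable {G : Type*} [Group G] [Finite G] {A : Type} [Group A] {I : Subgroup A}
variable {F : Frame G A I} {D : LocalData A I}

/-- No copy of `L₃(2)` centralizes an element of order five. -/
theorem FivePt.no_sl_cent (P : FivePt F D) {a : G} (ha : orderOf a = 5) (f : SLThree →* G)
    (hf : Function.Injective f) (hc : ∀ s, Commute (f s) a) : False := by
  haveI : Fact (Nat.Prime 5) := ⟨by norm_num⟩
  haveI := sl_three_simple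
  obtain ⟨hcard, -, N, hN, hcomm, h2, h8, -⟩ := P.exists_eight
  obtain ⟨m, k, hk⟩ := exists_conj_of_sq_not_dvd (q := 5)
    (fun h => P.not_sq_dvd (by simpa using h)) ha P.ord
  have hk1 : P.x ^ k ≠ 1 := fun h => by
    rw [h, conj_eq_one_iff] at hk
    rw [hk, orderOf_one] at ha
    omega
  have hmem : ∀ s, m * f s * m⁻¹ ∈ P.Cx := fun s => by
    refine P.mem_Cx.2 (commute_of_commute_pow P.x_pow (k := k) hk1 ?_)
    have := (hc s).map (MulAut.conj m).toMonoidHom
    simp only [MulEquiv.coe_toMonoidHom, MulAut.conj_apply] at this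
    rwa [hk] at this
  let g : SLThree →* ↥P.Cx := MonoidHom.codRestrict ((MulAut.conj m).toMonoidHom.comp f) P.Cx hmem
  let h : SLThree →* P.Gb := P.pr.comp g
  have hinj : Function.Injective h := by
    rw [← MonoidHom.ker_eq_bot_iff]
    refine (IsSimpleGroup.eq_bot_or_eq_top_of_normal h.ker inferInstance).resolve_right fun htop => ?_
    let g' : SLThree →* ↥P.Z := g.codRestrict P.Z fun s =>
      (QuotientGroup.eq_one_iff _).1 (MonoidHom.mem_ker.1 (htop ▸ Subgroup.mem_top s : s ∈ h.ker))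
    have hg' : Function.Injective g' := fun s t e => by
      have e' : m * f s * m⁻¹ = m * f t * m⁻¹ :=
        congrArg (fun w : ↥P.Z => ((w : ↥P.Cx) : G)) e
      exact hf (mul_left_cancel (mul_right_cancel e'))
    have := Nat.card_le_card_of_injective g' hg'
    rw [P.card_Z, card_sl_three] at this
    omega
  have hcr : Nat.card ↥h.range = 168 := by
    rw [← Nat.card_congr (MonoidHom.ofInjective hinj).toEquiv, card_sl_three]
  have hdis : N ⊓ h.range = ⊥ := by
    haveI : (N.comap h).Normal := hN.comap h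
    have hb : N.comap h = ⊥ :=
      (IsSimpleGroup.eq_bot_or_eq_top_of_normal (N.comap h) inferInstance).resolve_right fun htop => by
        have hle : h.range ≤ N := by
          rintro _ ⟨s, rfl⟩
          exact (htop ▸ Subgroup.mem_top s : s ∈ N.comap h)
        have := Subgroup.card_le_of_le hle
        rw [hcr, h8] at this
        omega
    refine (Subgroup.eq_bot_iff_forall _).2 ?_
    rintro _ ⟨hn, s, rfl⟩
    rw [show s = 1 from (Subgroup.mem_bot).1 (hb ▸ (hn : s ∈ N.comap h)), map_one]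
  refine P.eight_nonsplit hcomm h2 h8 hcard h.range ?_
  exact Subgroup.isComplement'_of_card_mul_and_disjoint (by rw [h8, hcr, hcard]) (disjoint_iff.2 hdis)

namespace PentadPt

variable (R : PentadPt F D)

theorem mem_center_L {a : ↥R.L} : a ∈ Subgroup.center ↥R.L ↔ (a : G) ∈ F.duadQ D := by
  rw [Subgroup.mem_center_iff]
  refine ⟨fun h => R.mem_Q_of_central a.2 fun b hb => (congrArg Subtype.val (h ⟨b, hb⟩)).symm,
    fun h b => Subtype.ext ((mem_duadK.1 (R.L_le b.2) _ h).eq)⟩

theorem card_center_L : Nat.card ↥(Subgroup.center ↥R.L) = 8 := by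
  rw [show Subgroup.center ↥R.L = (F.duadQ D).subgroupOf R.L by
    ext a; rw [Subgroup.mem_subgroupOf]; exact R.mem_center_L,
    Nat.card_congr (Subgroup.subgroupOfEquivOfLe R.Q_le_L).toEquiv, R.toFivePt.card_duadQ]

/-- Two elements of the group with commutator the involution. -/
theorem exists_comm_z : ∃ a ∈ R.L, ∃ b ∈ R.L, a * b * a⁻¹ * b⁻¹ = F.z := by
  haveI : FiniteDimensional (ZMod 2) F.V := Module.Finite.of_finite
  by_contra hcon
  push Not at hcon
  obtain ⟨v, hv0, -, hU, -⟩ := R.exists_vec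
  have hle : F.perp (F.fixR D.Rd) ≤ F.perp (F.perp (F.fixR D.Rd)) := fun w hw => F.mem_perp.2 fun u hu => by
    obtain ⟨a, ha, rfl⟩ := cls_surj F.ctx w
    obtain ⟨b, hb, rfl⟩ := cls_surj F.ctx u
    have haL : a ∈ R.L := R.CE_le_L (by rw [R.CE_eq]; exact ⟨ha, hw⟩)
    have hbL : b ∈ R.L := R.CE_le_L (by rw [R.CE_eq]; exact ⟨hb, hu⟩)
    refine (B_cls F.ctx hb ha).2 ?_
    rcases F.ctx.comm b hb a ha with e | e
    · exact mul_inv_eq_iff_eq_mul.1 (mul_inv_eq_one.1 e)
    · exact absurd e (hcon b hbL a haL)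
  have h1 := Submodule.finrank_mono hle
  rw [F.perp_perp, F.finrank_perp, hU, F.finrank_line hv0] at h1
  omega

theorem mem_commutator_L {a : ↥R.L} (ha : (a : G) ∈ F.duadQ D) : a ∈ commutator ↥R.L := by
  by_cases h1 : (a : G) = 1
  · rw [show a = 1 from Subtype.ext h1]; exact one_mem _
  obtain ⟨u, hu, v, hv, e⟩ := R.exists_comm_z
  obtain ⟨i, hi⟩ := R.toFivePt.orbit_seven R.y_mem R.y_ord R.y_norm R.z_mem_Q F.ctx.ne_one ha h1
  have hy : R.y ^ i ∈ F.duadM D := pow_mem R.y_mem_M i
  have e' : a = ⁅(⟨_, R.L_conj hy hu⟩ : ↥R.L), (⟨_, R.L_conj hy hv⟩ : ↥R.L)⁆ := by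
    refine Subtype.ext ?_
    rw [← hi, ← e]
    simp only [commutatorElement_def, Subgroup.coe_mul, Subgroup.coe_inv]
    group
  rw [e']
  exact Subgroup.commutator_mem_commutator (Subgroup.mem_top _) (Subgroup.mem_top _)

/-- The group is special. -/
theorem isSpecial : Cfsg.IsSpecial 2 ↥R.L := by
  haveI : Fact (Nat.Prime 2) := ⟨Nat.prime_two⟩
  have hp : IsPGroup 2 ↥R.L := IsPGroup.of_card R.card_L
  have hc : commutator ↥R.L = Subgroup.center ↥R.L := by
    refine le_antisymm ?_ fun a ha => R.mem_commutator_L (R.mem_center_L.1 ha)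
    rw [commutator_def, Subgroup.commutator_le]
    intro a _ b _
    refine R.mem_center_L.2 ?_
    simp only [commutatorElement_def, Subgroup.coe_mul, Subgroup.coe_inv]
    exact R.comm_mem_Q a.2 b.2
  refine ⟨hp, ?_, hc⟩
  rw [PGroup.frattini_eq_sup hp, hc, sup_eq_left, Subgroup.closure_le]
  rintro _ ⟨g, rfl⟩
  refine R.mem_center_L.2 ?_
  simp only [pow_two, Subgroup.coe_mul]
  exact R.sq_mem_Q g.2

/-- The normalizer of the special group is the normalizer of the elements over the duad line. -/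
theorem mem_normalizer_L {g : G} : g ∈ Subgroup.normalizer (R.L : Set G) ↔ g ∈ F.duadM D := by
  refine ⟨fun hg => mem_normalizer_of_conj fun a ha => ?_, fun hg => mem_normalizer_of_conj fun a ha => R.L_conj hg ha⟩
  refine R.mem_Q_of_central ((Subgroup.mem_normalizer_iff.1 hg a).1 (R.Q_le_L ha)) fun b hb => ?_
  have hb' := (Subgroup.mem_normalizer_iff.1 (inv_mem hg) b).1 hb
  rw [inv_inv] at hb'
  have := ((mem_duadK.1 (R.L_le hb') a ha).symm).map (MulAut.conj g).toMonoidHom
  simp only [MulEquiv.coe_toMonoidHom, MulAut.conj_apply] at this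
  rwa [show g * (g⁻¹ * b * g) * g⁻¹ = b by group] at this

theorem normalizer_L : Subgroup.normalizer (R.L : Set G) = F.duadM D :=
  SetLike.ext fun g => R.mem_normalizer_L

/-- The normalizer induces `Sym(5) × L₃(2)`. -/
theorem quot_equiv : Nonempty (↥(Subgroup.normalizer (R.L : Set G)) ⧸
    R.L.subgroupOf (Subgroup.normalizer (R.L : Set G)) ≃* Equiv.Perm (Fin 5) × SLThree) := by
  haveI := sl_three_simple
  set N := Subgroup.normalizer (R.L : Set G) with hNdef
  set L' := R.L.subgroupOf N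
  haveI : L'.Normal := ⟨fun n hn g => R.L_conj (R.mem_normalizer_L.1 g.2) hn⟩
  obtain ⟨q, hq, hker, -⟩ := R.toFivePt.exists_quot
  let π := QuotientGroup.mk' L'
  let q' : ↥N →* SLThree := q.comp (Subgroup.inclusion R.normalizer_L.le)
  have hq' : Function.Surjective q' := fun w => by
    obtain ⟨a, ha⟩ := hq w
    exact ⟨⟨a, R.mem_normalizer_L.2 a.2⟩, ha⟩
  have hkerN : ∀ n : ↥N, q' n = 1 ↔ (n : G) ∈ F.duadK D := fun n => hker _
  have hLker : L' ≤ q'.ker := fun n hn => (hkerN n).2 (R.L_le hn)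
  let qb : ↥N ⧸ L' →* SLThree := QuotientGroup.lift L' q' hLker
  have hqb : Function.Surjective qb := fun w => by
    obtain ⟨n, hn⟩ := hq' w
    exact ⟨π n, hn⟩
  have hJN : R.J ≤ N := fun j hj => R.mem_normalizer_L.2 (duadK_le_M (R.J_K hj))
  let jN : ↥R.J →* ↥N ⧸ L' := π.comp (Subgroup.inclusion hJN)
  have hjinj : Function.Injective jN := by
    refine (injective_iff_map_eq_one jN).2 fun j hj => Subtype.ext ?_
    have hjL : (j : G) ∈ R.L := (QuotientGroup.eq_one_iff (Subgroup.inclusion hJN j)).1 hj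
    have : (j : G) ∈ R.L ⊓ R.J := ⟨hjL, j.2⟩
    rwa [R.L_inf_J] at this
  have hrange : jN.range = qb.ker := by
    ext w
    obtain ⟨n, rfl⟩ := QuotientGroup.mk'_surjective L' w
    rw [MonoidHom.mem_ker, show qb (QuotientGroup.mk' L' n) = q' n from rfl, hkerN]
    constructor
    · rintro ⟨j, hj⟩
      have h1 : ((Subgroup.inclusion hJN j : ↥N) : G)⁻¹ * n ∈ R.L := (QuotientGroup.eq (s := L')).1 hj
      have := mul_mem (R.J_K j.2) (R.L_le h1)
      rwa [Subgroup.coe_inclusion, mul_inv_cancel_left] at this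
    · intro hn
      obtain ⟨l, hl, j, hj, e⟩ := R.K_split.2 n hn
      refine ⟨⟨j, hj⟩, (QuotientGroup.eq (s := L')).2 ?_⟩
      show j⁻¹ * (n : G) ∈ R.L
      rw [e, ← mul_assoc]
      have := R.L_conj (inv_mem (duadK_le_M (R.J_K hj))) hl
      rwa [inv_inv] at this
  obtain ⟨eJ⟩ := R.J_equiv
  let eB : ↥qb.ker ≃* Equiv.Perm (Fin 5) :=
    ((MonoidHom.ofInjective hjinj).trans (MulEquiv.subgroupCongr hrange)).symm.trans eJ
  let eQ : (↥N ⧸ L') ⧸ qb.ker ≃* SLThree := QuotientGroup.quotientKerEquivOfSurjective qb hqb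
  obtain ⟨e⟩ := equiv_prod_of_center (B := qb.ker) (eQ.isSimpleGroup_congr.2 inferInstance)
    (fun a ha hc => congrArg Subtype.val (center_of_equiv_perm_five eB (a := ⟨a, ha⟩)
      fun b => Subtype.ext (hc b b.2)))
    (y := π ⟨R.y, R.mem_normalizer_L.2 R.y_mem_M⟩)
    (fun h => R.toFivePt.not_seven_cent R.y_ord (mem_duadK.1 ((hkerN _).1 h)))
    (fun b hb => by
      rw [← hrange] at hb
      obtain ⟨j, rfl⟩ := hb
      show π _ * π _ = π _ * π _
      rw [← map_mul, ← map_mul]
      exact congrArg π (Subtype.ext (R.J_y j j.2).symm.eq))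
  exact ⟨e.trans (eB.prodCongr eQ)⟩

/-- The special group has no complement. -/
theorem nonsplit (K : Subgroup ↥(Subgroup.normalizer (R.L : Set G))) :
    ¬ (R.L.subgroupOf (Subgroup.normalizer (R.L : Set G))).IsComplement' K := by
  intro hK
  haveI : (R.L.subgroupOf (Subgroup.normalizer (R.L : Set G))).Normal :=
    ⟨fun n hn g => R.L_conj (R.mem_normalizer_L.1 g.2) hn⟩
  obtain ⟨e⟩ := R.quot_equiv
  let φ : Equiv.Perm (Fin 5) × SLThree →* G :=
    ((Subgroup.normalizer (R.L : Set G)).subtype.comp K.subtype).comp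
      (e.symm.trans hK.symm.QuotientMulEquiv).toMonoidHom
  have hφ : Function.Injective φ :=
    (Subtype.val_injective.comp Subtype.val_injective).comp (e.symm.trans hK.symm.QuotientMulEquiv).injective
  let c : Equiv.Perm (Fin 5) := finRotate 5
  have hc : orderOf c = 5 := by
    haveI : Fact (Nat.Prime 5) := ⟨by norm_num⟩
    exact orderOf_eq_prime (by decide) (by decide)
  refine R.toFivePt.no_sl_cent (a := φ (c, 1)) ?_ (φ.comp (MonoidHom.inr (Equiv.Perm (Fin 5)) SLThree))
    (hφ.comp fun a b h => congrArg Prod.snd h) fun s => ?_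
  · rw [orderOf_injective φ hφ, Prod.orderOf_mk, orderOf_one, hc]
    rfl
  · show Commute (φ (1, s)) (φ (c, 1))
    exact (show Commute ((1, s) : Equiv.Perm (Fin 5) × SLThree) (c, 1) from
      Prod.ext (by simp) (by simp)).map φ

theorem exists_sylow_five : ∃ Q : Sylow 5 G,
    Subgroup.normalizer ((Q : Subgroup G) : Set G) ≤ Subgroup.normalizer (R.L : Set G) := by
  haveI : Fact (Nat.Prime 5) := ⟨by norm_num⟩
  have hfac : (Nat.card G).factorization 5 = 1 := by
    have h1 : 5 ∣ Nat.card G := R.ord ▸ orderOf_dvd_natCard R.x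
    have hge := ((Fact.out : Nat.Prime 5).pow_dvd_iff_le_factorization Nat.card_pos.ne' (k := 1)).1 (by
      rwa [pow_one])
    have hlt : ¬ 2 ≤ (Nat.card G).factorization 5 := fun h2 => R.toFivePt.not_sq_dvd (by
      simpa using ((Fact.out : Nat.Prime 5).pow_dvd_iff_le_factorization Nat.card_pos.ne').2 h2)
    omega
  refine ⟨Sylow.ofCard (Subgroup.zpowers R.x) (by rw [Nat.card_zpowers, R.ord, hfac, pow_one]), ?_⟩
  rw [Sylow.coe_ofCard, R.normalizer_L]
  exact R.toFivePt.normalizer_x_le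

theorem exists_sylow_seven : ∃ S : Sylow 7 G,
    Subgroup.normalizer ((S : Subgroup G) : Set G) ≤ Subgroup.normalizer (R.L : Set G) := by
  haveI : Fact (Nat.Prime 7) := ⟨by norm_num⟩
  have hfac : (Nat.card G).factorization 7 = 1 := by
    have h1 : 7 ∣ Nat.card G := R.y_ord ▸ orderOf_dvd_natCard R.y
    have hge := ((Fact.out : Nat.Prime 7).pow_dvd_iff_le_factorization Nat.card_pos.ne' (k := 1)).1 (by
      rwa [pow_one])
    have hlt : ¬ 2 ≤ (Nat.card G).factorization 7 := fun h2 => R.sq7 (by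
      simpa using ((Fact.out : Nat.Prime 7).pow_dvd_iff_le_factorization Nat.card_pos.ne').2 h2)
    omega
  refine ⟨Sylow.ofCard (Subgroup.zpowers R.y) (by rw [Nat.card_zpowers, R.y_ord, hfac, pow_one]), ?_⟩
  rw [Sylow.coe_ofCard, R.normalizer_L]
  exact R.y_normal

theorem exists_sym_five : ∃ K₁ : Subgroup G, K₁ ≤ Subgroup.normalizer (R.L : Set G) ∧
    Nonempty (↥K₁ ≃* Equiv.Perm (Fin 5)) :=
  ⟨R.J, fun _ hj => R.mem_normalizer_L.2 (duadK_le_M (R.J_K hj)), R.J_equiv⟩

end PentadPt

end Frame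

end Cfsg.Lib.JankoFour
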