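import Cfsg.Agent.Lib.JankoFourLocal.Pentad

/-!
# A copy of `Sym(5)` centralizing the elements over the duad line
-/

set_option autoImplicit false
set_option linter.style.haveILetI false
set_option linter.unusedSectionVars false

namespace Cfsg.Lib.JankoFour

open Cfsg Cfsg.Lib.Extra Module
open scoped Pointwise

namespace Frame

variable {G : Type*} [Group G] [Finite G] {A : Type} [Group A] {I : Subgroup A}

/-- The elements of order five and seven with the copy of `Sym(5)`. -/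
structure PentadPt (F : Frame G A I) (D : LocalData A I) extends FivePt F D where
  /-- The element of order seven. -/
  y : G
  y_mem : y ∈ Subgroup.centralizer ({x} : Set G)
  y_ord : orderOf y = 7
  y_norm : Nat.card ↥(Subgroup.centralizer ({x} : Set G) ⊓
    Subgroup.normalizer (Subgroup.zpowers y : Set G)) = 105
  /-- The copy of `Sym(5)`. -/
  J : Subgroup G
  J_equiv : Nonempty (↥J ≃* Equiv.Perm (Fin 5))
  J_y : ∀ j ∈ J, Commute j y
  J_K : J ≤ F.duadK D
  x_J : x ∈ J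
  y_split : ∀ g : G, Commute g y → ∃ i : ℕ, ∃ j ∈ J, g = y ^ i * j
  sq7 : ¬ 49 ∣ Nat.card G
  nine : ¬ 9 ∣ Nat.card ↥(F.duadK D)
  y_normal : Subgroup.normalizer (Subgroup.zpowers y : Set G) ≤ F.duadM D

namespace FivePt

variable {F : Frame G A I} {D : LocalData A I} (P : FivePt F D)

/-- The centralizer and the normalizer of the element of order seven. -/
theorem exists_cent_seven {y : G} (hy : y ∈ P.Cx) (hyo : orderOf y = 7) :
    (¬ 49 ∣ Nat.card G) ∧ Nat.card ↥(Subgroup.centralizer ({y} : Set G)) = 840 ∧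
      Nat.card ↥(Subgroup.normalizer (Subgroup.zpowers y : Set G)) = 2520 ∧
      ∃ J : Subgroup G, Nonempty (↥J ≃* Equiv.Perm (Fin 5)) ∧ (∀ j ∈ J, Commute j y) ∧
        ∀ g : G, Commute g y → ∃ i : ℕ, ∃ j ∈ J, g = y ^ i * j := by
  haveI : Fact (Nat.Prime 7) := ⟨by norm_num⟩
  obtain ⟨m, hm⟩ := P.exists_conj_seven hy hyo
  have hmo : orderOf (m * y * m⁻¹) = 7 := by rw [← MulAut.conj_apply, MulEquiv.orderOf_eq, hyo]
  obtain ⟨F', S, hS⟩ := F.exists_seven_pt D P.res
    (Q := Subgroup.zpowers (m * y * m⁻¹)) (by rw [Nat.card_zpowers, hmo])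
    (Subgroup.zpowers_le.2 (F.C_le_H hm))
  obtain ⟨k, hk⟩ := mem_powers_iff_mem_zpowers.2 (hS.symm ▸ Subgroup.mem_zpowers S.y :
    S.y ∈ Subgroup.zpowers (m * y * m⁻¹))
  obtain ⟨l, hl⟩ := mem_powers_iff_mem_zpowers.2 (hS.symm ▸ Subgroup.mem_zpowers (m * y * m⁻¹) :
    m * y * m⁻¹ ∈ Subgroup.zpowers S.y)
  have hk : (m * y * m⁻¹) ^ k = S.y := hk
  have hl : S.y ^ l = m * y * m⁻¹ := hl
  have hiff : ∀ g : G, Commute g y ↔ Commute (m * g * m⁻¹) S.y := fun g => by
    constructor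
    · intro h
      rw [← hk, conj_pow]
      exact (h.pow_right k).map (MulAut.conj m).toMonoidHom
    · intro h
      have h1 := (h.pow_right l).map (MulAut.conj m⁻¹).toMonoidHom
      rw [hl] at h1
      simp only [MulEquiv.coe_toMonoidHom, MulAut.conj_apply, inv_inv] at h1
      rwa [show m⁻¹ * (m * g * m⁻¹) * m = g by group, show m⁻¹ * (m * y * m⁻¹) * m = y by group] at h1
  have h49 := S.not_sq_dvd
  have hC : Nat.card ↥(Subgroup.centralizer ({y} : Set G)) = 840 := by
    rw [card_centralizer_of_prime (q := 7) (by norm_num; exact h49) hyo S.ord]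
    exact S.card_W
  have hN : Nat.card ↥(Subgroup.normalizer (Subgroup.zpowers y : Set G)) = 2520 := by
    have e : (Subgroup.zpowers y).map (MulAut.conj m).toMonoidHom = Subgroup.zpowers S.y := by
      rw [MonoidHom.map_zpowers, hS]; rfl
    have h := S.card_normalizer
    rw [← e, ← Subgroup.map_equiv_normalizer_eq, Subgroup.card_map_of_injective (MulAut.conj m).injective,
      S.card_W] at h
    omega
  obtain ⟨J', ⟨-, hJW, -, -, hsup⟩, ⟨e⟩⟩ := S.cent_structure
  refine ⟨h49, hC, hN, J'.map (MulAut.conj m⁻¹).toMonoidHom,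
    ⟨(J'.equivMapOfInjective _ (MulAut.conj m⁻¹).injective).symm.trans e⟩, ?_, fun g hg => ?_⟩
  · rintro _ ⟨j, hj, rfl⟩
    refine (hiff _).2 ?_
    simp only [MulEquiv.coe_toMonoidHom, MulAut.conj_apply]
    rw [show m * (m⁻¹ * j * m⁻¹⁻¹) * m⁻¹ = j by group]
    exact S.mem_W.1 (hJW hj)
  · have hmem : m * g * m⁻¹ ∈ Subgroup.zpowers S.y ⊔ J' := by
      rw [hsup]; exact S.mem_W.2 ((hiff g).1 hg)
    have hle : J' ≤ Subgroup.normalizer (Subgroup.zpowers S.y : Set G) := fun j hj =>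
      mem_normalizer_of_conj fun a ha => by
        obtain ⟨i, rfl⟩ := Subgroup.mem_zpowers_iff.1 ha
        rw [((S.mem_W.1 (hJW hj)).zpow_right i).eq, mul_inv_cancel_right]
        exact Subgroup.zpow_mem _ (Subgroup.mem_zpowers _) i
    rw [← SetLike.mem_coe, Subgroup.coe_mul_of_right_le_normalizer_left _ _ hle] at hmem
    obtain ⟨a, ha, j, hj, hgj⟩ := Set.mem_mul.1 hmem
    obtain ⟨i, rfl⟩ := mem_powers_iff_mem_zpowers.2 ha
    refine ⟨k * i, m⁻¹ * j * m⁻¹⁻¹, ⟨j, hj, by simp⟩, ?_⟩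
    have hgj : S.y ^ i * j = m * g * m⁻¹ := hgj
    calc g = m⁻¹ * (m * g * m⁻¹) * m := by group
      _ = m⁻¹ * (((m * y * m⁻¹) ^ k) ^ i * j) * m := by rw [hk, hgj]
      _ = _ := by rw [conj_pow, conj_pow, ← pow_mul]; group

/-- The centralizer of the elements over the duad line has Sylow 3-subgroups of order three and contains an
element of order three centralizing the element of order seven. -/
theorem exists_three_cent {y : G} (hy : y ∈ P.Cx) (hyo : orderOf y = 7) :
    (¬ 9 ∣ Nat.card ↥(F.duadK D)) ∧ ∃ e ∈ F.duadK D, orderOf e = 3 ∧ Commute e y := by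
  classical
  haveI : Fact (Nat.Prime 3) := ⟨Nat.prime_three⟩
  haveI : Fact (Nat.Prime 7) := ⟨by norm_num⟩
  obtain ⟨h49, hC840, -, -⟩ := P.exists_cent_seven hy hyo
  set Nn := F.duadM D
  set ψ := (F.duadQ D).normalizerMonoidHom
  have hker : ψ.ker = (F.duadK D).subgroupOf Nn := Subgroup.normalizerMonoidHom_ker _
  set yn : ↥Nn := ⟨y, P.Cx_le_M hy⟩
  obtain ⟨R⟩ := (inferInstance : Nonempty (Sylow 3 ↥ψ.ker))
  set Pn := (R : Subgroup ↥ψ.ker).map ψ.ker.subtype with hPn
  obtain ⟨r, hr, c, hc, hrc⟩ := Subgroup.mem_sup_of_normal_right.1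
    ((Sylow.normalizer_sup_eq_top R).symm ▸ Subgroup.mem_top yn :
      yn ∈ Subgroup.normalizer (Pn : Set ↥Nn) ⊔ ψ.ker)
  have hψy : orderOf (ψ yn) = 7 := by
    refine orderOf_eq_prime (by rw [← map_pow, show yn ^ 7 = 1 from Subtype.ext (by
      rw [Subgroup.coe_pow]; exact hyo ▸ pow_orderOf_eq_one y), map_one]) fun h => ?_
    have : yn ∈ ψ.ker := h
    rw [hker, Subgroup.mem_subgroupOf] at this
    exact P.not_seven_cent hyo (mem_duadK.1 this)
  have hψr : orderOf (ψ r) = 7 := by rw [← hψy, ← hrc, map_mul, MonoidHom.mem_ker.1 hc, mul_one]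
  have h7r : 7 ∣ orderOf r := hψr ▸ orderOf_map_dvd ψ r
  set w := r ^ (orderOf r / 7)
  have hpos : 0 < orderOf r := orderOf_pos r
  have hwo : orderOf w = 7 := by
    rw [orderOf_pow_of_dvd (Nat.div_pos (Nat.le_of_dvd hpos h7r) (by norm_num)).ne' (Nat.div_dvd_of_dvd h7r),
      Nat.div_div_self h7r hpos.ne']
  have hwn : w ∈ Subgroup.normalizer (Pn : Set ↥Nn) := Subgroup.pow_mem _ hr _
  have hcardPn : Nat.card ↥Pn = Nat.card ↥(R : Subgroup ↥ψ.ker) :=
    Subgroup.card_map_of_injective ψ.ker.subtype_injective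
  have hPnd : Nat.card ↥Pn ∣ 27 := by
    obtain ⟨R0⟩ := (inferInstance : Nonempty (Sylow 3 ↥F.C))
    obtain ⟨S0, hS0⟩ := F.exists_sylow_G P.res R0
    obtain ⟨S, hS⟩ := ((R.isPGroup'.map ψ.ker.subtype).map Nn.subtype).exists_le_sylow
    have := Subgroup.card_dvd_of_le hS
    rwa [Subgroup.card_map_of_injective Nn.subtype_injective, ← Nat.card_congr (Sylow.equiv S0 S).toEquiv,
      hS0, F.card_sub_sylow] at this
  have hK : Nat.card ↥ψ.ker = Nat.card ↥(F.duadK D) := by
    rw [hker, Nat.card_congr (Subgroup.subgroupOfEquivOfLe duadK_le_M).toEquiv]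
  have h3Pn : 3 ∣ Nat.card ↥Pn := by
    rw [hcardPn]
    obtain ⟨X, hXo, hX⟩ := P.exists_three_fix
    refine R.dvd_card_of_dvd_card ?_
    rw [hK, ← hXo]
    exact Subgroup.orderOf_dvd_natCard _ (mem_duadK.2 hX)
  -- the element of order seven centralizes the whole Sylow subgroup
  have hall : Pn ⊓ Subgroup.centralizer ({w} : Set ↥Nn) = Pn := by
    refine Subgroup.eq_of_le_of_card_ge inf_le_left ?_
    have hmod := card_cent_inf_modEq hwo hwn
    have hdiv : Nat.card ↥(Pn ⊓ Subgroup.centralizer ({w} : Set ↥Nn)) ∣ 27 :=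
      (Subgroup.card_dvd_of_le inf_le_left).trans hPnd
    have key : ∀ a ∈ Nat.divisors 27, ∀ b ∈ Nat.divisors 27, a % 7 = b % 7 → a = b := by decide
    exact (key _ (Nat.mem_divisors.2 ⟨hPnd, by norm_num⟩) _ (Nat.mem_divisors.2 ⟨hdiv, by norm_num⟩) hmod).le
  have hPnC : Nat.card ↥Pn ∣ 840 := by
    have hwG : orderOf (w : G) = 7 := by rw [Subgroup.orderOf_coe, hwo]
    rw [← hC840, ← card_centralizer_of_prime (q := 7) (by norm_num; exact h49) hwG hyo]
    suffices hle : Pn.map Nn.subtype ≤ Subgroup.centralizer ({(w : G)} : Set G) by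
      have := Subgroup.card_dvd_of_le hle
      rwa [Subgroup.card_map_of_injective Nn.subtype_injective] at this
    rintro _ ⟨a, ha, rfl⟩
    exact Subgroup.mem_centralizer_singleton_iff.2
      (congrArg Subtype.val (Subgroup.mem_centralizer_singleton_iff.1
        (show a ∈ Pn ⊓ Subgroup.centralizer ({w} : Set ↥Nn) by rw [hall]; exact ha).2))
  have h3 : Nat.card ↥Pn = 3 := by
    have key : ∀ a ∈ Nat.divisors 27, a ∣ 840 → 3 ∣ a → a = 3 := by decide
    exact key _ (Nat.mem_divisors.2 ⟨hPnd, by norm_num⟩) hPnC h3Pn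
  refine ⟨fun h9 => ?_, ?_⟩
  · have hf : 2 ≤ (Nat.card ↥ψ.ker).factorization 3 :=
      (Nat.prime_three.pow_dvd_iff_le_factorization Nat.card_pos.ne').1 (by rw [hK]; exact h9)
    have := pow_dvd_pow 3 hf
    rw [← R.card_eq_multiplicity, ← hcardPn, h3] at this
    exact absurd this (by norm_num)
  obtain ⟨⟨e, heP⟩, heo⟩ := exists_prime_orderOf_dvd_card' (G := ↥Pn) 3 (by rw [h3])
  rw [← Subgroup.orderOf_coe] at heo
  have hew : Commute (e : ↥Nn) w := Subgroup.mem_centralizer_singleton_iff.1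
    (show e ∈ Pn ⊓ Subgroup.centralizer ({w} : Set ↥Nn) by rw [hall]; exact heP).2
  have heK : (e : G) ∈ F.duadK D := by
    obtain ⟨e', -, he'⟩ := heP
    have h : (e' : ↥Nn) ∈ (F.duadK D).subgroupOf Nn := hker.le e'.2
    rw [← he']
    exact h
  have h49' : ¬ 7 ^ 2 ∣ Nat.card ↥Nn := fun h => h49 (h.trans Nn.card_subgroup_dvd_card)
  obtain ⟨m, j, hmj⟩ := exists_conj_of_sq_not_dvd h49' hwo (b := yn) (by rw [← Subgroup.orderOf_coe]; exact hyo)
  refine ⟨(m : G) * e * (m : G)⁻¹, duadK_conj m.2 heK, ?_, ?_⟩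
  · rw [← MulAut.conj_apply, MulEquiv.orderOf_eq, Subgroup.orderOf_coe, heo]
  · have hmj' : (m : G) * w * (m : G)⁻¹ = y ^ j := by simpa using congrArg Subtype.val hmj
    refine commute_of_commute_pow (q := 7) (hyo ▸ pow_orderOf_eq_one y) (k := j) (fun h1 => ?_) ?_
    · rw [h1, conj_eq_one_iff] at hmj'
      rw [show w = 1 from Subtype.ext hmj', orderOf_one] at hwo
      omega
    · rw [← hmj']
      exact (hew.map Nn.subtype).map (MulAut.conj (m : G)).toMonoidHom

/-- The point exists. -/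
theorem exists_pentad : ∃ R : PentadPt F D, R.toFivePt = P := by
  classical
  haveI : Fact (Nat.Prime 2) := ⟨Nat.prime_two⟩
  haveI : Fact (Nat.Prime 5) := ⟨by norm_num⟩
  haveI : Fact (Nat.Prime 7) := ⟨by norm_num⟩
  obtain ⟨y, hy, hyo, hn⟩ := P.exists_seven
  obtain ⟨h49, hC840, hN2520, J, ⟨e⟩, hJy, hsplit⟩ := P.exists_cent_seven hy hyo
  obtain ⟨h9, t, htK, hto, hty⟩ := P.exists_three_cent hy hyo
  set Nn := F.duadM D
  have hy7 : y ^ 7 = 1 := hyo ▸ pow_orderOf_eq_one y
  have hJmem : ∀ {g : G} {a : ℕ}, Commute g y → g ^ a = g → 7 ∣ a → g ∈ J := by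
    intro g a hg ha h7
    obtain ⟨i, j, hj, hgj⟩ := hsplit g hg
    rw [← ha, hgj, (((hJy j hj).symm).pow_left i).mul_pow, ← pow_mul]
    obtain ⟨c, rfl⟩ := h7
    rw [show i * (7 * c) = 7 * (i * c) by ring, pow_mul y, hy7, one_pow, one_mul]
    exact pow_mem hj _
  have hxJ : P.x ∈ J := hJmem (a := 21) (P.mem_Cx.1 hy).symm
    (by rw [show 21 = 5 * 4 + 1 from rfl, pow_succ, pow_mul, P.x_pow, one_pow, one_mul]) (by norm_num)
  have htJ : t ∈ J := hJmem (a := 7) hty
    (by rw [show 7 = 3 * 2 + 1 from rfl, pow_succ, pow_mul, show t ^ 3 = 1 from hto ▸ pow_orderOf_eq_one t,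
      one_pow, one_mul]) (by norm_num)
  -- the copy normalizes the elements over the duad line
  set xj : ↥J := ⟨P.x, hxJ⟩
  have hxjo : orderOf xj = 5 := by rw [← Subgroup.orderOf_coe]; exact P.ord
  set J0 := Nn.subgroupOf J
  set N := Subgroup.normalizer (Subgroup.zpowers xj : Set ↥J)
  have hNJ0 : N ≤ J0 := fun g hg => P.normalizer_x_le (mem_normalizer_of_conj fun a ha => by
    obtain ⟨i, rfl⟩ := Subgroup.mem_zpowers_iff.1 ha
    have h := (Subgroup.mem_normalizer_iff.1 hg (xj ^ i)).1 (Subgroup.zpow_mem _ (Subgroup.mem_zpowers _) i)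
    obtain ⟨k, hk⟩ := Subgroup.mem_zpowers_iff.1 h
    refine Subgroup.mem_zpowers_iff.2 ⟨k, ?_⟩
    simpa using congrArg Subtype.val hk)
  have hJ120 : Nat.card ↥J = 120 := by
    rw [Nat.card_congr e.toEquiv, Nat.card_perm, Nat.card_fin]; rfl
  have hfac : (Nat.card ↥J).factorization 5 = 1 := by
    rw [hJ120, Nat.factorization_def _ (by norm_num), show (120 : ℕ) = 5 ^ 1 * 24 by norm_num,
      padicValNat.mul (by norm_num) (by norm_num), padicValNat.prime_pow,
      padicValNat.eq_zero_of_not_dvd (by norm_num)]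
  let T : Sylow 5 ↥J := Sylow.ofCard (Subgroup.zpowers xj) (by rw [Nat.card_zpowers, hxjo, hfac, pow_one])
  have hidx : N.index % 5 = 1 := by
    have h := card_sylow_modEq_one 5 ↥J
    rw [Sylow.card_eq_index_normalizer T] at h
    exact h
  have hJM : J ≤ Nn := by
    suffices J0 = ⊤ from Subgroup.subgroupOf_eq_top.1 this
    have hmul := N.card_mul_index
    rw [hJ120] at hmul
    have h5N : 5 ∣ Nat.card ↥N := hxjo ▸ Subgroup.orderOf_dvd_natCard N
      (Subgroup.le_normalizer (Subgroup.mem_zpowers xj))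
    have hd : N.index ∣ 24 := by
      obtain ⟨c, hc⟩ := h5N
      rw [hc] at hmul
      exact ⟨c, by linarith⟩
    have key : ∀ d ∈ Nat.divisors 24, d % 5 = 1 → d = 1 ∨ d = 6 := by decide
    rcases key _ (Nat.mem_divisors.2 ⟨hd, by norm_num⟩) hidx with h1 | h6
    · exact top_unique ((Subgroup.index_eq_one.1 h1).ge.trans hNJ0)
    rw [h6] at hmul
    have hN20 : Nat.card ↥N = 20 := by omega
    have ht0 : (⟨t, htJ⟩ : ↥J) ∈ J0 := duadK_le_M htK
    have h60 : 60 ∣ Nat.card ↥J0 := by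
      have h20 := Subgroup.card_dvd_of_le hNJ0
      have h3 := Subgroup.orderOf_dvd_natCard J0 ht0
      rw [← Subgroup.orderOf_coe, hto] at h3
      rw [hN20] at h20
      exact (Nat.Coprime.mul_dvd_of_dvd_of_dvd (by norm_num : Nat.Coprime 20 3) h20 h3 :)
    refine Subgroup.eq_top_of_card_eq _ ?_
    have hd120 := hJ120 ▸ J0.card_subgroup_dvd_card
    rw [hJ120]
    by_contra hne
    have h60' : Nat.card ↥J0 = 60 := by
      obtain ⟨c, hc⟩ := h60
      rw [hc] at hd120 hne ⊢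
      have : c ∣ 2 := Nat.dvd_of_mul_dvd_mul_left (by norm_num : 0 < 60) (by norm_num; exact hd120)
      rcases (Nat.dvd_prime Nat.prime_two).1 this with rfl | rfl <;> omega
    set x0 : ↥J0 := ⟨xj, hNJ0 (Subgroup.le_normalizer (Subgroup.mem_zpowers xj))⟩
    have hx0 : orderOf x0 = 5 := by rw [← Subgroup.orderOf_coe]; exact hxjo
    let T0 : Sylow 5 ↥J0 := Sylow.ofCard (Subgroup.zpowers x0) (by
      rw [Nat.card_zpowers, hx0, h60', Nat.factorization_def _ (by norm_num),
        show (60 : ℕ) = 5 ^ 1 * 12 by norm_num, padicValNat.mul (by norm_num) (by norm_num),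
        padicValNat.prime_pow, padicValNat.eq_zero_of_not_dvd (by norm_num), pow_one])
    have h := card_sylow_modEq_one 5 ↥J0
    rw [Sylow.card_eq_index_normalizer T0] at h
    have e0 : Subgroup.normalizer (Subgroup.zpowers x0 : Set ↥J0) = N.subgroupOf J0 := by
      ext g
      have key : ∀ g : ↥J0, (∀ a ∈ Subgroup.zpowers x0, g * a * g⁻¹ ∈ Subgroup.zpowers x0) ↔
          ∀ a ∈ Subgroup.zpowers xj, (g : ↥J) * a * (g : ↥J)⁻¹ ∈ Subgroup.zpowers xj := by
        intro g
        constructor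
        · intro h a ha
          obtain ⟨i, rfl⟩ := Subgroup.mem_zpowers_iff.1 ha
          obtain ⟨k, hk⟩ := Subgroup.mem_zpowers_iff.1 (h (x0 ^ i) (Subgroup.zpow_mem _ (Subgroup.mem_zpowers _) i))
          exact Subgroup.mem_zpowers_iff.2 ⟨k, by simpa [x0] using congrArg Subtype.val hk⟩
        · intro h a ha
          obtain ⟨i, rfl⟩ := Subgroup.mem_zpowers_iff.1 ha
          obtain ⟨k, hk⟩ := Subgroup.mem_zpowers_iff.1 (h (xj ^ i) (Subgroup.zpow_mem _ (Subgroup.mem_zpowers _) i))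
          exact Subgroup.mem_zpowers_iff.2 ⟨k, Subtype.ext (by simpa [x0] using hk)⟩
      rw [Subgroup.mem_subgroupOf]
      exact ⟨fun hg => mem_normalizer_of_conj ((key g).1 fun a ha => (Subgroup.mem_normalizer_iff.1 hg a).1 ha),
        fun hg => mem_normalizer_of_conj ((key g).2 fun a ha => (Subgroup.mem_normalizer_iff.1 hg a).1 ha)⟩
    change (Subgroup.normalizer (Subgroup.zpowers x0 : Set ↥J0)).index ≡ 1 [MOD 5] at h
    have hm0 := (Subgroup.normalizer (Subgroup.zpowers x0 : Set ↥J0)).card_mul_index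
    rw [h60', e0, Nat.card_congr (Subgroup.subgroupOfEquivOfLe hNJ0).toEquiv, hN20] at hm0
    rw [e0, show (N.subgroupOf J0).index = 3 by omega] at h
    exact absurd h (by decide)
  -- and centralizes them
  have hJK : J ≤ F.duadK D := by
    intro j hj
    by_contra hjK
    set θ : ↥J →* MulAut ↥(F.duadQ D) :=
      (F.duadQ D).normalizerMonoidHom.comp (Subgroup.inclusion hJM)
    have hker : ∀ a : ↥J, θ a = 1 ↔ (a : G) ∈ F.duadK D := fun a => by
      have h : (F.duadQ D).normalizerMonoidHom.ker = (F.duadK D).subgroupOf Nn :=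
        Subgroup.normalizerMonoidHom_ker _
      rw [MonoidHom.comp_apply, ← MonoidHom.mem_ker, h, Subgroup.mem_subgroupOf]
      rfl
    have h5 : 5 ∣ Nat.card ↥θ.ker := hxjo ▸ Subgroup.orderOf_dvd_natCard _
      (MonoidHom.mem_ker.2 ((hker xj).2 P.x_mem_K))
    have h3 : 3 ∣ Nat.card ↥θ.ker := by
      have := Subgroup.orderOf_dvd_natCard θ.ker (MonoidHom.mem_ker.2 ((hker ⟨t, htJ⟩).2 htK))
      rwa [← Subgroup.orderOf_coe, hto] at this
    have hr := θ.ker.index_mul_card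
    rw [Subgroup.index_ker, hJ120] at hr
    obtain ⟨c, hc⟩ : 15 ∣ Nat.card ↥θ.ker :=
      (Nat.Coprime.mul_dvd_of_dvd_of_dvd (by norm_num : Nat.Coprime 3 5) h3 h5 :)
    rw [hc] at hr
    have h2 : 2 ∣ Nat.card ↥θ.range := by
      obtain ⟨i, -, hi⟩ := (Nat.dvd_prime_pow Nat.prime_two).1
        (show Nat.card ↥θ.range ∣ 2 ^ 3 from ⟨c, Nat.eq_of_mul_eq_mul_left (by norm_num : 0 < 15) (by
          ring_nf; ring_nf at hr; omega)⟩)
      rcases Nat.eq_zero_or_pos i with rfl | hi'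
      · exfalso
        have hm : θ ⟨j, hj⟩ ∈ θ.range := ⟨_, rfl⟩
        rw [Subgroup.eq_bot_of_card_eq θ.range (by rw [hi, pow_zero]), Subgroup.mem_bot] at hm
        exact hjK ((hker _).1 hm)
      · rw [hi]; exact dvd_pow_self 2 hi'.ne'
    obtain ⟨⟨_, a, rfl⟩, ha⟩ := exists_prime_orderOf_dvd_card' (G := ↥θ.range) 2 h2
    rw [← Subgroup.orderOf_coe] at ha
    change orderOf (θ a) = 2 at ha
    set φ := θ a
    have hφ2 : ∀ q, φ (φ q) = q := fun q => by
      have h := pow_orderOf_eq_one φ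
      rw [ha, pow_two] at h
      exact congrArg (fun χ : MulAut ↥(F.duadQ D) => χ q) h
    obtain ⟨b, hb⟩ : ∃ b, φ b ≠ b := by
      by_contra hcon
      push Not at hcon
      rw [show φ = 1 from MulEquiv.ext hcon, orderOf_one] at ha
      omega
    have hsq : ∀ q : ↥(F.duadQ D), q * q = 1 := fun q => Subtype.ext (P.duadQ_sq q.2)
    set u := b * φ b
    have hu1 : u ≠ 1 := fun h => hb ((eq_inv_of_mul_eq_one_right h).trans (inv_eq_of_mul_eq_one_right (hsq b)))
    have huf : φ u = u := by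
      show φ (b * φ b) = b * φ b
      rw [map_mul, hφ2]
      exact Subtype.ext (P.duadQ_comm (φ b).2 b.2).eq
    refine hb (Subtype.ext ?_)
    by_cases hb1 : b = 1
    · rw [hb1, map_one]
    obtain ⟨i, hi⟩ := P.orbit_seven hy hyo hn u.2 (fun h => hu1 (Subtype.ext h)) b.2
      (fun h => hb1 (Subtype.ext h))
    have hφe : ∀ q, ((φ q : ↥(F.duadQ D)) : G) = (a : G) * q * (a : G)⁻¹ := fun q => rfl
    have hcj : Commute (a : G) (y ^ i) := (hJy a a.2).pow_right i
    have hua : (a : G) * u * (a : G)⁻¹ = u := by rw [← hφe]; exact congrArg Subtype.val huf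
    rw [hφe, ← hi]
    calc (a : G) * (y ^ i * u * (y ^ i)⁻¹) * (a : G)⁻¹
        = ((a : G) * y ^ i) * u * ((a : G) * y ^ i)⁻¹ := by group
      _ = y ^ i * ((a : G) * u * (a : G)⁻¹) * (y ^ i)⁻¹ := by rw [hcj.eq]; group
      _ = _ := by rw [hua]
  -- the normalizer of the element of order seven
  have hyM : Subgroup.normalizer (Subgroup.zpowers y : Set G) ≤ Nn := by
    set Ny := Subgroup.normalizer (Subgroup.zpowers y : Set G)
    set Cy := Subgroup.centralizer ({y} : Set G)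
    have hCle : Cy ≤ Ny ⊓ Nn := fun g hg => by
      have hg' : Commute g y := Subgroup.mem_centralizer_singleton_iff.1 hg
      refine ⟨mem_normalizer_of_conj fun b hb => ?_, ?_⟩
      · obtain ⟨k, rfl⟩ := Subgroup.mem_zpowers_iff.1 hb
        rw [(hg'.zpow_right k).eq, mul_inv_cancel_right]
        exact Subgroup.zpow_mem _ (Subgroup.mem_zpowers _) k
      · obtain ⟨i, j, hj, rfl⟩ := hsplit g hg'
        exact mul_mem (pow_mem (P.Cx_le_M hy) i) (hJM hj)
    have hN105 : P.Cx ⊓ Ny ≤ Ny ⊓ Nn := fun g hg => ⟨hg.2, P.Cx_le_M hg.1⟩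
    have hne : Nat.card ↥Cy ≠ Nat.card ↥(Ny ⊓ Nn) := fun h => by
      have e1 := Subgroup.eq_of_le_of_card_ge hCle h.ge
      have hle : P.Cx ⊓ Ny ≤ P.Cx ⊓ Cy := fun g hg => ⟨hg.1, e1.ge (hN105 hg)⟩
      have := Subgroup.card_le_of_le hle
      rw [hn, P.card_cent_seven hy hyo hn] at this
      omega
    have h1 := Subgroup.card_dvd_of_le hCle
    have h2 := Subgroup.card_dvd_of_le (inf_le_left : Ny ⊓ Nn ≤ Ny)
    rw [hC840] at h1 hne
    rw [hN2520] at h2
    obtain ⟨c, hc⟩ := h1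
    rw [hc] at h2 hne
    have hc3 : c ∣ 3 := Nat.dvd_of_mul_dvd_mul_left (by norm_num : 0 < 840) (by norm_num; exact h2)
    have hc' : c = 3 := ((Nat.dvd_prime Nat.prime_three).1 hc3).resolve_left fun h => hne (by rw [h])
    have heq : Ny ⊓ Nn = Ny := Subgroup.eq_of_le_of_card_ge inf_le_left (by rw [hN2520, hc, hc'])
    exact heq ▸ inf_le_right
  exact ⟨{ toFivePt := P, y := y, y_mem := hy, y_ord := hyo, y_norm := hn, J := J, J_equiv := ⟨e⟩,
           J_y := hJy, J_K := hJK, x_J := hxJ, y_split := hsplit, sq7 := h49, nine := h9,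
           y_normal := hyM }, rfl⟩

end FivePt

end Frame

end Cfsg.Lib.JankoFour
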