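import Cfsg.Agent.Lib.JankoFourLocal.FiveMain

/-!
# An element of order seven centralizing an element of order five has a conjugate in `C(z) ∩ C(p)`
-/

set_option autoImplicit false
set_option linter.style.haveILetI false
set_option linter.unusedSectionVars false

namespace Cfsg.Lib.JankoFour

open Cfsg Cfsg.Lib.Extra Module
open scoped Pointwise

/-- Subgroups of prime order are conjugate if the square of the prime does not divide the order. -/
theorem exists_conj_of_sq_not_dvd {K : Type*} [Group K] [Finite K] {q : ℕ} [hq : Fact q.Prime]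
    (h : ¬ q ^ 2 ∣ Nat.card K) {a b : K} (ha : orderOf a = q) (hb : orderOf b = q) :
    ∃ (m : K) (k : ℕ), m * a * m⁻¹ = b ^ k := by
  have hfac : (Nat.card K).factorization q = 1 := by
    have h1 : q ∣ Nat.card K := ha ▸ orderOf_dvd_natCard a
    have hge := (hq.out.pow_dvd_iff_le_factorization Nat.card_pos.ne' (k := 1)).1 (by rwa [pow_one])
    have hlt : ¬ 2 ≤ (Nat.card K).factorization q := fun h2 =>
      h ((hq.out.pow_dvd_iff_le_factorization Nat.card_pos.ne').2 h2)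
    omega
  let S : ∀ {w : K}, orderOf w = q → Sylow q K := fun {w} hw =>
    Sylow.ofCard (Subgroup.zpowers w) (by rw [Nat.card_zpowers, hw, hfac, pow_one])
  obtain ⟨m, hm⟩ := MulAction.exists_smul_eq K (S ha) (S hb)
  have h1 : m * a * m⁻¹ ∈ (m • S ha : Sylow q K) :=
    Subgroup.smul_mem_pointwise_smul _ _ _ (Subgroup.mem_zpowers a)
  rw [hm] at h1
  obtain ⟨k, hk⟩ := mem_powers_iff_mem_zpowers.2 (show m * a * m⁻¹ ∈ Subgroup.zpowers b from h1)
  exact ⟨m, k, hk.symm⟩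

/-- An element of prime order normalizing a subgroup of order not one modulo the prime fixes an element. -/
theorem exists_commute_of_mod {K : Type*} [Group K] [Finite K] {q : ℕ} [hq : Fact q.Prime] {w : K}
    (hw : orderOf w = q) {P : Subgroup K} (hn : w ∈ Subgroup.normalizer (P : Set K))
    (hmod : ¬ Nat.card ↥P ≡ 1 [MOD q]) : ∃ e ∈ P, e ≠ 1 ∧ Commute e w := by
  by_contra hcon
  push Not at hcon
  refine hmod ?_
  have hle : Subgroup.zpowers w ≤ Subgroup.normalizer (P : Set K) := Subgroup.zpowers_le.2 hn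
  let φ : ↥(Subgroup.zpowers w) →* MulAut ↥P := P.normalizerMonoidHom.comp (Subgroup.inclusion hle)
  letI : MulAction ↥(Subgroup.zpowers w) ↥P := MulAction.compHom ↥P φ
  have h := (IsPGroup.of_card (n := 1) (by rw [Nat.card_zpowers, hw, pow_one]) :
    IsPGroup q ↥(Subgroup.zpowers w)).card_modEq_card_fixedPoints (α := ↥P)
  suffices hf : Nat.card ↥(MulAction.fixedPoints ↥(Subgroup.zpowers w) ↥P) = 1 by rwa [hf] at h
  refine Nat.card_eq_one_iff_unique.2 ⟨⟨fun a b => Subtype.ext ?_⟩, ⟨⟨1, fun s => map_one (φ s)⟩⟩⟩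
  have key : ∀ a : ↥(MulAction.fixedPoints ↥(Subgroup.zpowers w) ↥P), ((a : ↥P) : K) = 1 := by
    intro a
    by_contra hne
    have e : w * ((a : ↥P) : K) * w⁻¹ = (a : ↥P) := congrArg Subtype.val (a.2 ⟨w, Subgroup.mem_zpowers w⟩)
    exact hcon _ (a : ↥P).2 hne (mul_inv_eq_iff_eq_mul.1 e).symm
  exact Subtype.ext ((key a).trans (key b).symm)

namespace Frame

variable {G : Type*} [Group G] [Finite G] {A : Type} [Group A] {I : Subgroup A}

namespace FivePt

variable {F : Frame G A I} {D : LocalData A I} (P : FivePt F D)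

include P in
/-- An element of order three centralizing the elements over the duad line. -/
theorem exists_three_fix : ∃ X : G, orderOf X = 3 ∧ ∀ k ∈ F.pre (F.fixR D.Rd), Commute X k := by
  haveI : FiniteDimensional (ZMod 2) F.V := Module.Finite.of_finite
  haveI := F.finite_A
  obtain ⟨v, hv0, -, hU, -⟩ := F.duad_line D P.mem P.img_x P.ord
  obtain ⟨l, hl, hli, hl3⟩ := F.exists_lift_three D.c_mem D.c_ord
  obtain ⟨hlz, hlp⟩ := F.mem_C.1 hl
  have hvU : v ∈ F.fixR D.Rd := hU ▸ F.self_mem_line v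
  have hlv : F.act l v ∈ F.line v := hU ▸ F.maps_fixR hlz D.Rd_le D.Rd_two
    (fun r hr => by rw [hli]; exact conj_inv_mem D.c_Rd hr) hvU
  obtain ⟨i, hi⟩ : ∃ i : ℕ, F.act l v = F.act (F.p ^ i) v := by
    rcases F.mem_line.1 hlv with e | e | e | e
    · exact absurd (act_injective F.ctx hlz (e.trans (map_zero _).symm)) hv0
    · exact ⟨0, by rw [e, pow_zero, act_one]⟩
    · exact ⟨1, by rw [e, pow_one]⟩
    · exact ⟨2, by rw [e, pow_two, act_mul F.ctx F.p_comm F.p_comm]⟩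
  set X := (F.p ^ i)⁻¹ * l
  have hpi : Commute (F.p ^ i) F.z := F.p_comm.pow_left i
  have hXC : X ∈ F.C := mul_mem (inv_mem (pow_mem F.p_mem_C i)) hl
  have hXv : F.act X v = v := by
    show F.act ((F.p ^ i)⁻¹ * l) v = v
    rw [act_mul F.ctx hpi.inv_left hlz, hi, act_inv_act F.ctx hpi]
  have hXi : F.img X = D.c := by
    show F.img ((F.p ^ i)⁻¹ * l) = D.c
    rw [F.img_mul _ _ hpi.inv_left hlz, F.img_inv hpi, F.img_p_pow, inv_one, one_mul, hli]
  refine ⟨X, orderOf_eq_prime ?_ fun h => ?_, fun k hk => ?_⟩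
  · show ((F.p ^ i)⁻¹ * l) ^ 3 = 1
    rw [((hlp.pow_right i).symm.inv_left).mul_pow, inv_pow, F.p_pow_six, hl3, inv_one, one_mul]
  · have := D.c_ord
    rw [← hXi, h, F.img_one, orderOf_one] at this
    omega
  · have hk' : F.cls k ∈ F.line v := hU ▸ hk.2
    refine F.commute_of_fixed hXC hk.1 ?_
    rcases F.mem_line.1 hk' with e | e | e | e <;> rw [e]
    · exact map_zero _
    · exact hXv
    all_goals
      obtain ⟨hXz, hXp⟩ := F.mem_C.1 hXC
      have hc : ∀ u, F.act X (F.act F.p u) = F.act F.p (F.act X u) := fun u => F.act_pow_comm hXC u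
    · rw [hc, hXv]
    · rw [hc, hc, hXv]

include P in
/-- The centralizer of the elements over the duad line has no element of order seven. -/
theorem not_seven_cent {w : G} (hw : orderOf w = 7) : ¬ ∀ k ∈ F.pre (F.fixR D.Rd), Commute w k := by
  intro hcomm
  haveI : Fact (Nat.Prime 7) := ⟨by norm_num⟩
  obtain ⟨v, hv0, -, hU, -⟩ := F.duad_line D P.mem P.img_x P.ord
  obtain ⟨a, ha, rfl⟩ := cls_surj F.ctx v
  have haU : a ∈ F.pre (F.fixR D.Rd) := ⟨ha, hU ▸ F.self_mem_line _⟩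
  have hwz : Commute w F.z := hcomm _ (F.z_mem_pre _)
  obtain ⟨y, hy, hyi, hyo⟩ := F.exists_lift_prime D.y_mem D.y_ord (q := 7) (k := 36) (by norm_num) (by norm_num)
  obtain ⟨hyz, -⟩ := F.mem_C.1 hy
  obtain ⟨h, hh, k, hk⟩ := F.exists_conj_zpowers prime_seven.1 prime_seven.2 F.H le_rfl
    (F.mem_H.2 hwz) (F.mem_H.2 hyz) hw hyo
  have hhz : Commute h F.z := F.mem_H.1 hh
  have hykC : y ^ k ∈ F.C := pow_mem hy k
  have hne : F.img (y ^ k) ≠ 1 := fun e => by
    have h1 := F.ker_eq_one (F.mem_C.1 hykC).1 e (n := 7) (by norm_num)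
      (by rw [← pow_mul, mul_comm, pow_mul, ← hyo, pow_orderOf_eq_one, one_pow])
    rw [← hk, conj_eq_one_iff] at h1
    rw [h1, orderOf_one] at hw
    omega
  have hfix := F.fix_seven hykC (by rw [← pow_mul, mul_comm, pow_mul, ← hyo, pow_orderOf_eq_one, one_pow]) hne
  have hm : F.act h (F.cls a) ∈ F.fix (y ^ k) := by
    refine F.mem_ker_disp.2 ?_
    rw [act_cls F.ctx hhz ha, act_cls F.ctx (F.mem_C.1 hykC).1 (F.conj_mem hhz ha), ← hk]
    congr 1
    calc h * w * h⁻¹ * (h * a * h⁻¹) * (h * w * h⁻¹)⁻¹ = h * (w * a * w⁻¹) * h⁻¹ := by group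
      _ = h * a * h⁻¹ := by rw [(hcomm a haU).eq, mul_inv_cancel_right]
  rw [hfix, Submodule.mem_bot] at hm
  exact hv0 (act_injective F.ctx hhz (hm.trans (map_zero _).symm))

/-- The element of order seven has a conjugate centralizing `z` and `p`. -/
theorem exists_conj_seven {y : G} (hy : y ∈ P.Cx) (hyo : orderOf y = 7) : ∃ m : G, m * y * m⁻¹ ∈ F.C := by
  classical
  haveI : Fact (Nat.Prime 3) := ⟨Nat.prime_three⟩
  haveI : Fact (Nat.Prime 7) := ⟨by norm_num⟩
  obtain ⟨-, -, N, hN, hcomm, h2, h8, -⟩ := P.exists_eight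
  haveI : FiniteDimensional (ZMod 2) F.V := Module.Finite.of_finite
  set Q := F.pre (F.fixR D.Rd)
  have hQ8 : Nat.card ↥Q = 8 := by
    obtain ⟨v, hv0, -, hU, -⟩ := F.duad_line D P.mem P.img_x P.ord
    rw [F.card_pre, hU, F.finrank_line hv0]
    norm_num
  set Nn := Subgroup.normalizer (Q : Set G)
  set ψ := Q.normalizerMonoidHom
  have hker : ψ.ker = (Subgroup.centralizer (Q : Set G)).subgroupOf Nn := Subgroup.normalizerMonoidHom_ker _
  have hmemK : ∀ a : ↥Nn, a ∈ ψ.ker ↔ ∀ k ∈ Q, Commute (a : G) k := fun a => by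
    rw [hker, Subgroup.mem_subgroupOf, Subgroup.mem_centralizer_iff]
    exact ⟨fun h k hk => (h k hk).symm, fun h k hk => (h k hk).symm⟩
  have hyN : y ∈ Nn := Subgroup.mem_normalizer_iff.2 fun e => ⟨P.conj_pre hcomm h2 h8 hy, fun h => by
    have := P.conj_pre hcomm h2 h8 (P.Cx.inv_mem hy) h
    rwa [inv_inv, show y⁻¹ * (y * e * y⁻¹) * y = e by group] at this⟩
  set yn : ↥Nn := ⟨y, hyN⟩
  have hyno : orderOf yn = 7 := by rw [← Subgroup.orderOf_coe]; exact hyo
  -- the centralizer has no element of order seven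
  have h7K : ¬ 7 ∣ Nat.card ↥ψ.ker := by
    intro h
    obtain ⟨⟨w, hwK⟩, hw⟩ := exists_prime_orderOf_dvd_card' (G := ↥ψ.ker) 7 h
    rw [← Subgroup.orderOf_coe, ← Subgroup.orderOf_coe] at hw
    exact P.not_seven_cent hw ((hmemK w).1 hwK)
  have h49 : ¬ 7 ^ 2 ∣ Nat.card ↥Nn := by
    intro h
    rw [← ψ.ker.index_mul_card, Subgroup.index_ker] at h
    have hco : (7 ^ 2).Coprime (Nat.card ↥ψ.ker) :=
      Nat.Coprime.pow_left 2 ((Nat.Prime.coprime_iff_not_dvd (by norm_num)).2 h7K)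
    have h1 : 7 ^ 2 ∣ Nat.card ↥ψ.range := hco.dvd_of_dvd_mul_right h
    have hinj : Function.Injective ((MulAut.toPerm (M := ↥Q)).comp ψ.range.subtype) := fun a b h =>
      Subtype.ext (MulEquiv.ext fun q => congrArg (fun σ : Equiv.Perm ↥Q => σ q) h)
    have h3 := h1.trans (Subgroup.card_dvd_of_injective _ hinj)
    rw [Nat.card_perm, hQ8] at h3
    exact absurd h3 (by decide)
  -- the Frattini argument
  obtain ⟨R⟩ := (inferInstance : Nonempty (Sylow 3 ↥ψ.ker))
  set Pn := (R : Subgroup ↥ψ.ker).map ψ.ker.subtype with hPn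
  have hy' : yn ∈ Subgroup.normalizer (Pn : Set ↥Nn) ⊔ ψ.ker :=
    (Sylow.normalizer_sup_eq_top R).symm ▸ Subgroup.mem_top yn
  obtain ⟨r, hr, c, hc, hrc⟩ := Subgroup.mem_sup_of_normal_right.1 hy'
  have hψy : orderOf (ψ yn) = 7 := by
    refine orderOf_eq_prime (by rw [← map_pow, ← hyno, pow_orderOf_eq_one, map_one]) fun h => ?_
    exact P.not_seven_cent hyo ((hmemK yn).1 h)
  have hψr : orderOf (ψ r) = 7 := by
    rw [← hψy, ← hrc, map_mul, MonoidHom.mem_ker.1 hc, mul_one]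
  have h7r : 7 ∣ orderOf r := hψr ▸ orderOf_map_dvd ψ r
  set w := r ^ (orderOf r / 7)
  have hwo : orderOf w = 7 := by
    have hpos : 0 < orderOf r := orderOf_pos r
    rw [orderOf_pow_of_dvd (Nat.div_pos (Nat.le_of_dvd hpos h7r) (by norm_num)).ne' (Nat.div_dvd_of_dvd h7r),
      Nat.div_div_self h7r hpos.ne']
  have hwn : w ∈ Subgroup.normalizer (Pn : Set ↥Nn) := Subgroup.pow_mem _ hr _
  -- the order of the Sylow subgroup
  have hPnd : Nat.card ↥Pn ∣ 27 := by
    obtain ⟨R0⟩ := (inferInstance : Nonempty (Sylow 3 ↥F.C))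
    obtain ⟨S0, hS0⟩ := F.exists_sylow_G P.res R0
    obtain ⟨S, hS⟩ := ((R.isPGroup'.map ψ.ker.subtype).map Nn.subtype).exists_le_sylow
    have := Subgroup.card_dvd_of_le hS
    rwa [Subgroup.card_map_of_injective Nn.subtype_injective, ← Nat.card_congr (Sylow.equiv S0 S).toEquiv,
      hS0, F.card_sub_sylow] at this
  have h3Pn : 3 ∣ Nat.card ↥Pn := by
    rw [hPn, Subgroup.card_map_of_injective ψ.ker.subtype_injective]
    obtain ⟨X, hXo, hX⟩ := P.exists_three_fix
    have hXN : X ∈ Nn := Subgroup.centralizer_le_normalizer _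
      (Subgroup.mem_centralizer_iff.2 fun k hk => (hX k hk).symm)
    have h3 : 3 ∣ Nat.card ↥ψ.ker := hXo ▸ (Subgroup.orderOf_coe (⟨X, hXN⟩ : ↥Nn)).symm ▸
      Subgroup.orderOf_dvd_natCard _ ((hmemK ⟨X, hXN⟩).2 hX)
    exact R.dvd_card_of_dvd_card h3
  have hmod : ¬ Nat.card ↥Pn ≡ 1 [MOD 7] := by
    have hall : ∀ d ∈ Nat.divisors 27, 3 ∣ d → d % 7 ≠ 1 := by decide
    exact hall _ (Nat.mem_divisors.2 ⟨hPnd, by norm_num⟩) h3Pn
  obtain ⟨e, he, he1, hew⟩ := exists_commute_of_mod hwo hwn hmod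
  obtain ⟨j, hj⟩ := IsPGroup.iff_card.1 (R.isPGroup'.map ψ.ker.subtype)
  have hed : orderOf (e : G) ∣ 3 ^ j := by
    rw [Subgroup.orderOf_coe, ← hj]; exact Subgroup.orderOf_dvd_natCard Pn he
  have h3e : 3 ∣ orderOf (e : G) := by
    obtain ⟨i, -, hi⟩ := (Nat.dvd_prime_pow Nat.prime_three).1 hed
    rcases Nat.eq_zero_or_pos i with rfl | hpos
    · exfalso
      rw [pow_zero, orderOf_eq_one_iff] at hi
      exact he1 (Subtype.ext hi)
    · exact hi ▸ dvd_pow_self 3 hpos.ne'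
  set e' := (e : G) ^ (orderOf (e : G) / 3)
  have he'o : orderOf e' = 3 := by
    have hpos : 0 < orderOf (e : G) := orderOf_pos _
    rw [orderOf_pow_of_dvd (Nat.div_pos (Nat.le_of_dvd hpos h3e) (by norm_num)).ne' (Nat.div_dvd_of_dvd h3e),
      Nat.div_div_self h3e hpos.ne']
  obtain ⟨t, ht⟩ := isConj_iff.1 (F.isConj_p P.res he'o)
  have hwp : Commute (t⁻¹ * (w : G) * t) F.p :=
    commute_conj.2 (ht ▸ ((show Commute (e : G) (w : G) from congrArg Subtype.val hew.eq).pow_left _).symm)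
  -- the element and the fixing element generate conjugate subgroups
  obtain ⟨m, k, hmk⟩ := exists_conj_of_sq_not_dvd (K := ↥Nn) h49 hyno hwo
  have hmk' : (m : G) * y * (m : G)⁻¹ = (w : G) ^ k := by
    have := congrArg Subtype.val hmk
    simpa using this
  refine ⟨t⁻¹ * (m : G), ?_⟩
  rw [show t⁻¹ * (m : G) * y * (t⁻¹ * (m : G))⁻¹ = t⁻¹ * ((m : G) * y * (m : G)⁻¹) * t by group, hmk',
    show t⁻¹ * (w : G) ^ k * t = (t⁻¹ * w * t) ^ k by
      conv_rhs => rw [show t⁻¹ * (w : G) * t = t⁻¹ * w * (t⁻¹)⁻¹ by rw [inv_inv], conj_pow, inv_inv]]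
  exact pow_mem (F.mem_C.2 ⟨F.commute_z_of_commute_p P.res hwp, hwp⟩) k

end FivePt

end Frame

end Cfsg.Lib.JankoFour
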