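import Cfsg.Agent.Lib.JankoFourLocal.Facts
import Cfsg.Agent.Lib.JankoFourLocal.PointData
import Cfsg.Agent.Lib.JankoFourLocal.SevenKey

/-!
# The action of `Aut M₂₂` on the 24 points
-/

set_option autoImplicit false
set_option linter.style.haveILetI false

namespace Cfsg.Lib.JankoFour.AutM22

open Cfsg Cfsg.Lib.Concrete Cfsg.Lib.JankoFour.LocalCert
open Cfsg.Lib.FusionSys.MathieuCert (toPerm)

/-- The fixed points of a packed permutation. -/
theorem card_fix_rep {g : Equiv.Perm GolayPt} {p : ℕ} (hr : Rep g p) {n : ℕ}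
    (h : (Finset.univ.filter fun i : Fin 24 => pget p i.val = i.val).card = n) :
    Nat.card {o : GolayPt // g o = o} = n := by
  let e : GolayPt ≃ Fin 24 := ⟨gidx, gpt, gpt_gidx, gidx_gpt⟩
  rw [← h, ← Fintype.card_subtype, ← Nat.card_eq_fintype_card]
  refine Nat.card_congr (e.subtypeEquiv fun o => ?_)
  show g o = o ↔ pget p (gidx o).val = (gidx o).val
  rw [← hr]
  exact ⟨fun h' => by rw [h'], fun h' => gidx_injective (Fin.ext h')⟩

/-- Conjugate permutations fix equally many points. -/
theorem card_fix_conj (c g : Equiv.Perm GolayPt) :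
    Nat.card {o : GolayPt // (c * g * c⁻¹) o = o} = Nat.card {o : GolayPt // g o = o} := by
  refine (Nat.card_congr (c.subtypeEquiv fun o => ?_)).symm
  simp [Equiv.Perm.mul_apply]

theorem t0_fix : Nat.card {o : GolayPt // t0 o = o} = 8 :=
  card_fix_rep (rep_fst invRep_ok) (by decide +kernel)

theorem y7_fix : Nat.card {o : GolayPt // y7 o = o} = 3 :=
  card_fix_rep rep_y7 (by decide +kernel)

theorem fix_two {t : A22} (ht : t ∈ inner) (h2 : orderOf t = 2) :
    Nat.card {o : GolayPt // perm t o = o} = 8 := by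
  obtain ⟨c, -, hc⟩ := invol_conj_rep (mem_inner_iff.1 ht) (by rw [orderOf_perm]; exact h2)
  rw [← card_fix_conj c, hc, t0_fix]

theorem fix_seven {t : A22} (ht : t ∈ inner) (h7 : orderOf t = 7) :
    Nat.card {o : GolayPt // perm t o = o} = 3 := by
  haveI : Fact (Nat.Prime 7) := ⟨by norm_num⟩
  haveI : Finite ↥inner := Nat.finite_of_card_ne_zero (by rw [card_inner]; norm_num)
  have hs : seven ∈ inner := localData.y_mem
  have hso : orderOf seven = 7 := localData.y_ord
  obtain ⟨m, k, hk⟩ := exists_conj_of_sq_not_dvd (K := ↥inner) (q := 7)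
    (fun h => by rw [card_inner] at h; norm_num at h) (a := ⟨t, ht⟩) (b := ⟨seven, hs⟩)
    (by rw [← Subgroup.orderOf_coe]; exact h7) (by rw [← Subgroup.orderOf_coe]; exact hso)
  have hk' : perm (m : A22) * perm t * (perm (m : A22))⁻¹ = y7 ^ k := by
    have e : (m : A22) * t * (m : A22)⁻¹ = seven ^ k := congrArg Subtype.val hk
    rw [← perm_seven, ← map_pow, ← e, map_mul, map_mul, map_inv]
  have hcop : k.Coprime (orderOf y7) := by
    rw [orderOf_y7, Nat.coprime_comm, Nat.Prime.coprime_iff_not_dvd (by norm_num)]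
    intro hd
    have h1 : y7 ^ k = 1 := orderOf_dvd_iff_pow_eq_one.1 (by rw [orderOf_y7]; exact hd)
    rw [h1, conj_eq_one_iff, ← map_one perm] at hk'
    rw [perm_injective hk', orderOf_one] at h7
    omega
  obtain ⟨j, hj⟩ := exists_pow_eq_self_of_coprime hcop
  rw [← card_fix_conj (perm (m : A22)), hk', ← y7_fix]
  refine Nat.card_congr (Equiv.subtypeEquivRight fun o => ⟨fun h => ?_, fun h => ?_⟩)
  · rw [← hj]
    exact Equiv.Perm.pow_apply_eq_self_of_apply_eq_self h j
  · exact Equiv.Perm.pow_apply_eq_self_of_apply_eq_self h k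

/-- The action on the 24 points. -/
noncomputable def pointData : PointData A22 inner where
  Pt := GolayPt
  perm := perm
  injective := perm_injective
  a := ptA
  b := ptB
  ne := by decide
  fixes _ hg := (mem_sporM22.1 (mem_inner_iff.1 hg)).2
  card := by rw [Nat.card_eq_fintype_card]; rfl
  two _ ht h2 := fix_two ht h2
  seven _ ht h7 := fix_seven ht h7

end Cfsg.Lib.JankoFour.AutM22
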